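import Mathlib

set_option autoImplicit false
set_option linter.unusedSectionVars false
set_option linter.unusedVariables false

/-! S2140 (helper9's blueprint): transvections `T(e,φ) = 1 + e φᵀ` in `SL_n(F)` and their algebra
(helper8). -/

namespace Cfsg.Agent.MinIdx

open Matrix

variable {F : Type*} [Field F] {n : ℕ}

/-- The matrix `1 + e φᵀ`. -/
def h8_tvM (e φ : Fin n → F) : Matrix (Fin n) (Fin n) F := 1 + vecMulVec e φ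

theorem h8_vmv_mul (e φ e' φ' : Fin n → F) :
    vecMulVec e φ * vecMulVec e' φ' = (φ ⬝ᵥ e') • vecMulVec e φ' := by
  ext i j
  rw [Matrix.smul_apply, mul_apply]
  simp only [vecMulVec_apply, smul_eq_mul, dotProduct]
  rw [Finset.sum_mul]
  apply Finset.sum_congr rfl
  intro k _
  ring

theorem h8_tvM_det (e φ : Fin n → F) : (h8_tvM e φ).det = 1 + φ ⬝ᵥ e := by
  unfold h8_tvM
  have h : vecMulVec e φ = replicateCol (Fin 1) e * replicateRow (Fin 1) φ := by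
    ext i j
    simp [vecMulVec_apply, mul_apply]
  rw [h, det_one_add_mul_comm]
  simp [dotProduct, mul_apply, mul_comm]

/-- The transvection `T(e,φ)`, `φ·e = 0`, as an element of `SL_n(F)`. -/
def h8_tv (e φ : Fin n → F) (h : φ ⬝ᵥ e = 0) : SpecialLinearGroup (Fin n) F :=
  ⟨h8_tvM e φ, by rw [h8_tvM_det, h, add_zero]⟩

@[simp] theorem h8_tv_coe (e φ : Fin n → F) (h : φ ⬝ᵥ e = 0) :
    (h8_tv e φ h : Matrix (Fin n) (Fin n) F) = h8_tvM e φ := rfl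

theorem h8_tvM_mul (e φ ψ : Fin n → F) (h : φ ⬝ᵥ e = 0) :
    h8_tvM e φ * h8_tvM e ψ = h8_tvM e (φ + ψ) := by
  unfold h8_tvM
  rw [add_mul, mul_add, mul_add, one_mul, mul_one, one_mul, h8_vmv_mul, h, zero_smul, add_zero,
    vecMulVec_add, add_assoc, add_comm (vecMulVec e ψ)]

theorem h8_tv_mul (e φ ψ : Fin n → F) (h : φ ⬝ᵥ e = 0) (h' : ψ ⬝ᵥ e = 0) :
    h8_tv e φ h * h8_tv e ψ h' = h8_tv e (φ + ψ) (by rw [add_dotProduct, h, h', add_zero]) := by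
  apply Subtype.ext
  exact h8_tvM_mul e φ ψ h

theorem h8_tv_zero (e : Fin n → F) : h8_tv e 0 (zero_dotProduct e) = 1 := by
  apply Subtype.ext
  simp [h8_tvM]

theorem h8_tv_congr (e φ ψ : Fin n → F) (h : φ ⬝ᵥ e = 0) (hφψ : φ = ψ) :
    h8_tv e φ h = h8_tv e ψ (hφψ ▸ h) := by
  subst hφψ
  rfl

theorem h8_tv_inv (e φ : Fin n → F) (h : φ ⬝ᵥ e = 0) :
    (h8_tv e φ h)⁻¹ = h8_tv e (-φ) (by rw [neg_dotProduct, h, neg_zero]) := by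
  rw [inv_eq_iff_mul_eq_one, h8_tv_mul]
  rw [h8_tv_congr e (φ + -φ) 0 _ (add_neg_cancel φ)]
  exact h8_tv_zero e

/-- Commutator formula, matrix level. -/
theorem h8_tvM_comm (e₁ φ₁ e₂ φ₂ : Fin n → F) (h₁ : φ₁ ⬝ᵥ e₁ = 0) (h₂ : φ₂ ⬝ᵥ e₂ = 0)
    (h₂₁ : φ₂ ⬝ᵥ e₁ = 0) :
    h8_tvM e₁ φ₁ * h8_tvM e₂ φ₂ * h8_tvM e₁ (-φ₁) * h8_tvM e₂ (-φ₂)
      = h8_tvM e₁ ((φ₁ ⬝ᵥ e₂) • φ₂) := by
  unfold h8_tvM
  rw [vecMulVec_neg, vecMulVec_neg, vecMulVec_smul]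
  have e11 : vecMulVec e₁ φ₁ * vecMulVec e₁ φ₁ = 0 := by rw [h8_vmv_mul, h₁, zero_smul]
  have e22 : vecMulVec e₂ φ₂ * vecMulVec e₂ φ₂ = 0 := by rw [h8_vmv_mul, h₂, zero_smul]
  have e21 : vecMulVec e₂ φ₂ * vecMulVec e₁ φ₁ = 0 := by rw [h8_vmv_mul, h₂₁, zero_smul]
  have e12 : vecMulVec e₁ φ₁ * vecMulVec e₂ φ₂ = (φ₁ ⬝ᵥ e₂) • vecMulVec e₁ φ₂ := h8_vmv_mul _ _ _ _
  rw [← e12]
  generalize vecMulVec e₁ φ₁ = A at *
  generalize vecMulVec e₂ φ₂ = B at *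
  have hAAB' : A * A * B = 0 := by rw [e11, zero_mul]
  have hBAB' : B * A * B = 0 := by rw [e21, zero_mul]
  have hABA : A * B * A = 0 := by rw [mul_assoc, e21, mul_zero]
  have hABB : A * B * B = 0 := by rw [mul_assoc, e22, mul_zero]
  have hABAB' : A * B * A * B = 0 := by rw [hABA, zero_mul]
  calc (1 + A) * (1 + B) * (1 + -A) * (1 + -B)
      = 1 + A * B - A * A - B * A - B * B + A * A * B - A * B * A - A * B * B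
          + B * A * B + A * B * A * B := by noncomm_ring
    _ = 1 + A * B := by
        rw [hABAB', hAAB', hBAB', hABA, hABB, e11, e21, e22]
        simp

/-- Commutator formula: if `φ₂·e₁ = 0` then
`[T(e₁,φ₁), T(e₂,φ₂)] = T(e₁, (φ₁·e₂) φ₂)`. -/
theorem h8_tv_comm (e₁ φ₁ e₂ φ₂ : Fin n → F) (h₁ : φ₁ ⬝ᵥ e₁ = 0) (h₂ : φ₂ ⬝ᵥ e₂ = 0)
    (h₂₁ : φ₂ ⬝ᵥ e₁ = 0) :
    h8_tv e₁ φ₁ h₁ * h8_tv e₂ φ₂ h₂ * (h8_tv e₁ φ₁ h₁)⁻¹ * (h8_tv e₂ φ₂ h₂)⁻¹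
      = h8_tv e₁ ((φ₁ ⬝ᵥ e₂) • φ₂) (by rw [smul_dotProduct, h₂₁, smul_zero]) := by
  rw [h8_tv_inv, h8_tv_inv]
  apply Subtype.ext
  exact h8_tvM_comm e₁ φ₁ e₂ φ₂ h₁ h₂ h₂₁

end Cfsg.Agent.MinIdx
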