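import Mathlib
import Cfsg.Agent.MinIdx.H8_Tv

set_option autoImplicit false
set_option linter.unusedSectionVars false
set_option linter.unusedVariables false

/-!
MinIdx / S2140, piece P5a (helper4): the block model of `Y = Hom(V/K₂, K₂)` in `SL_{2+k}(F)`.
`h4_Y N = [[1, N], [0, 1]]` (`N : 2 × k`), `h4_Dg A B = diag(A, B)` (`det A · det B = 1`),
`diag(A,B) · Y(N) = Y(A N B⁻¹) · diag(A,B)`, and `Y(single i j a)` is a transvection `h8_tv`.
-/

namespace Cfsg.Agent.MinIdx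

open Matrix

variable {F : Type*} [Field F] {k : ℕ}

/-- the index equivalence `Fin 2 ⊕ Fin k ≃ Fin (2 + k)`. -/
abbrev h4_eqv (k : ℕ) : Fin 2 ⊕ Fin k ≃ Fin (2 + k) := finSumFinEquiv

/-- the matrix `[[1, N], [0, 1]]`. -/
def h4_YM (N : Matrix (Fin 2) (Fin k) F) : Matrix (Fin (2 + k)) (Fin (2 + k)) F :=
  Matrix.reindex (h4_eqv k) (h4_eqv k) (fromBlocks 1 N 0 1)

theorem h4_YM_det (N : Matrix (Fin 2) (Fin k) F) : (h4_YM N).det = 1 := by
  unfold h4_YM
  rw [det_reindex_self, det_fromBlocks_zero₂₁, det_one, det_one, mul_one]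

theorem h4_YM_mul (N N' : Matrix (Fin 2) (Fin k) F) : h4_YM N * h4_YM N' = h4_YM (N + N') := by
  unfold h4_YM
  rw [reindex_apply, reindex_apply, reindex_apply, submatrix_mul_equiv, fromBlocks_multiply]
  simp [add_comm]

theorem h4_YM_zero : h4_YM (0 : Matrix (Fin 2) (Fin k) F) = 1 := by
  unfold h4_YM
  rw [fromBlocks_one, reindex_apply, submatrix_one_equiv]

/-- `Y(N) ∈ SL_{2+k}(F)`. -/
def h4_Y (N : Matrix (Fin 2) (Fin k) F) : SpecialLinearGroup (Fin (2 + k)) F :=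
  ⟨h4_YM N, h4_YM_det N⟩

theorem h4_Y_coe (N : Matrix (Fin 2) (Fin k) F) :
    (h4_Y N : Matrix (Fin (2 + k)) (Fin (2 + k)) F) = h4_YM N := rfl

theorem h4_Y_add (N N' : Matrix (Fin 2) (Fin k) F) : h4_Y (N + N') = h4_Y N * h4_Y N' := by
  apply Subtype.ext
  show h4_YM (N + N') = h4_YM N * h4_YM N'
  rw [h4_YM_mul]

theorem h4_Y_zero : h4_Y (0 : Matrix (Fin 2) (Fin k) F) = 1 := by
  apply Subtype.ext
  show h4_YM (0 : Matrix (Fin 2) (Fin k) F) = 1
  exact h4_YM_zero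

/-- the matrix `diag(A, B)`. -/
def h4_DgM (A : Matrix (Fin 2) (Fin 2) F) (B : Matrix (Fin k) (Fin k) F) :
    Matrix (Fin (2 + k)) (Fin (2 + k)) F :=
  Matrix.reindex (h4_eqv k) (h4_eqv k) (fromBlocks A 0 0 B)

theorem h4_DgM_det (A : Matrix (Fin 2) (Fin 2) F) (B : Matrix (Fin k) (Fin k) F) :
    (h4_DgM A B).det = A.det * B.det := by
  unfold h4_DgM
  rw [det_reindex_self, det_fromBlocks_zero₂₁]

/-- `diag(A, B) ∈ SL_{2+k}(F)` for `det A · det B = 1`. -/
def h4_Dg (A : Matrix (Fin 2) (Fin 2) F) (B : Matrix (Fin k) (Fin k) F)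
    (h : A.det * B.det = 1) : SpecialLinearGroup (Fin (2 + k)) F :=
  ⟨h4_DgM A B, by rw [h4_DgM_det, h]⟩

/-- `diag(A,B) Y(N) = Y(N') diag(A,B)` whenever `A N = N' B`. -/
theorem h4_DgM_conj (A : Matrix (Fin 2) (Fin 2) F) (B : Matrix (Fin k) (Fin k) F)
    (N N' : Matrix (Fin 2) (Fin k) F) (hN : A * N = N' * B) :
    h4_DgM A B * h4_YM N = h4_YM N' * h4_DgM A B := by
  unfold h4_DgM h4_YM
  rw [reindex_apply, reindex_apply, reindex_apply, submatrix_mul_equiv, submatrix_mul_equiv,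
    fromBlocks_multiply, fromBlocks_multiply]
  simp [hN]

theorem h4_Dg_conj (A : Matrix (Fin 2) (Fin 2) F) (B : Matrix (Fin k) (Fin k) F)
    (h : A.det * B.det = 1) (N N' : Matrix (Fin 2) (Fin k) F) (hN : A * N = N' * B) :
    h4_Dg A B h * h4_Y N = h4_Y N' * h4_Dg A B h := by
  apply Subtype.ext
  show h4_DgM A B * h4_YM N = h4_YM N' * h4_DgM A B
  exact h4_DgM_conj A B N N' hN

/-- `Y(single i j a)` is a transvection. -/
theorem h4_YM_single (i : Fin 2) (j : Fin k) (a : F) :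
    h4_YM (Matrix.single i j a)
      = h8_tvM (Pi.single (h4_eqv k (Sum.inl i)) 1) (Pi.single (h4_eqv k (Sum.inr j)) a) := by
  unfold h4_YM h8_tvM
  ext p q
  obtain ⟨p', rfl⟩ := (h4_eqv k).surjective p
  obtain ⟨q', rfl⟩ := (h4_eqv k).surjective q
  rw [reindex_apply, submatrix_apply, Equiv.symm_apply_apply, Equiv.symm_apply_apply,
    Matrix.add_apply, vecMulVec_apply, Pi.single_apply, Pi.single_apply, one_apply]
  simp only [(h4_eqv k).injective.eq_iff]
  rcases p' with p' | p' <;> rcases q' with q' | q'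
  · simp [one_apply]
  · by_cases hp : p' = i
    · by_cases hq : q' = j
      · simp [hp, hq]
      · simp [hp, hq, Ne.symm hq]
    · simp [hp, Ne.symm hp]
  · simp
  · simp [one_apply]

theorem h4_single_dot (i : Fin 2) (j : Fin k) (a : F) :
    (Pi.single (h4_eqv k (Sum.inr j)) a : Fin (2 + k) → F)
      ⬝ᵥ (Pi.single (h4_eqv k (Sum.inl i)) 1 : Fin (2 + k) → F) = 0 := by
  rw [single_dotProduct, Pi.single_eq_of_ne, mul_zero]
  intro h
  have := (h4_eqv k).injective h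
  simp at this

theorem h4_Y_single (i : Fin 2) (j : Fin k) (a : F) :
    h4_Y (Matrix.single i j a)
      = h8_tv (Pi.single (h4_eqv k (Sum.inl i)) 1) (Pi.single (h4_eqv k (Sum.inr j)) a)
          (h4_single_dot i j a) := by
  apply Subtype.ext
  show h4_YM (Matrix.single i j a) = h8_tvM _ _
  exact h4_YM_single i j a

end Cfsg.Agent.MinIdx
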