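import Mathlib
import Cfsg.Agent.MinIdx.H8_Tv

set_option autoImplicit false
set_option linter.unusedSectionVars false
set_option linter.unusedVariables false

/-! S2140, Lemma 3 of helper9's blueprint: TYPE II' is impossible for `n ≥ 3` (helper8). -/

namespace Cfsg.Agent.MinIdx

open Matrix

variable {F : Type*} [Field F] {n : ℕ}

/-- A functional (as a dot product) vanishing on a subspace but not on a given vector outside. -/
theorem h8_exists_dot (U : Submodule F (Fin n → F)) (w : Fin n → F) (hw : w ∉ U) :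
    ∃ φ : Fin n → F, (∀ u ∈ U, φ ⬝ᵥ u = 0) ∧ φ ⬝ᵥ w ≠ 0 := by
  obtain ⟨f, hfw, hUf⟩ := Submodule.exists_le_ker_of_notMem hw
  have key : ∀ u : Fin n → F, (fun i => f (Pi.single i 1)) ⬝ᵥ u = f u := by
    intro u
    rw [LinearMap.pi_apply_eq_sum_univ f u]
    simp only [dotProduct, smul_eq_mul]
    apply Finset.sum_congr rfl
    intro i _
    rw [mul_comm]
    congr 2
    funext j
    simp [Pi.single_apply, eq_comm]
  refine ⟨fun i => f (Pi.single i 1), ?_, ?_⟩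
  · intro u hu
    rw [key]
    exact hUf hu
  · rw [key]
    exact hfw

/-- The line `ℓ(e) = ⟨e, v e⟩`. -/
def h8_L (v : (Fin n → F) → (Fin n → F)) (e : Fin n → F) : Submodule F (Fin n → F) :=
  Submodule.span F {e, v e}

theorem h8_self_mem_L (v : (Fin n → F) → (Fin n → F)) (e : Fin n → F) : e ∈ h8_L v e :=
  Submodule.subset_span (by simp)

theorem h8_v_mem_L (v : (Fin n → F) → (Fin n → F)) (e : Fin n → F) : v e ∈ h8_L v e :=
  Submodule.subset_span (by simp)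

theorem h8_pair_le {x y : Fin n → F} {U : Submodule F (Fin n → F)} (hx : x ∈ U) (hy : y ∈ U) :
    Submodule.span F {x, y} ≤ U := by
  rw [Submodule.span_le]
  intro z hz
  rcases hz with rfl | rfl
  · exact hx
  · exact hy

theorem h8_finrank_pair {x y : Fin n → F} (hx : x ≠ 0) (hy : ∀ c : F, y ≠ c • x) :
    Module.finrank F (Submodule.span F {x, y}) = 2 := by
  have hli : LinearIndependent F ![x, y] := by
    rw [LinearIndependent.pair_iff]
    intro s t hst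
    have ht : t = 0 := by
      by_contra ht
      apply hy (-(s / t))
      have : t • y = -(s • x) := by rw [eq_neg_iff_add_eq_zero, add_comm]; exact hst
      calc y = t⁻¹ • (t • y) := by rw [smul_smul, inv_mul_cancel₀ ht, one_smul]
        _ = -(s / t) • x := by rw [this, smul_neg, smul_smul, neg_smul]; congr 2; field_simp
    subst ht
    rw [zero_smul, add_zero] at hst
    rcases smul_eq_zero.mp hst with h | h
    · exact ⟨h, rfl⟩
    · exact absurd h hx
  have := finrank_span_eq_card hli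
  rw [Fintype.card_fin] at this
  have hr : Set.range ![x, y] = {x, y} := by
    simp [Matrix.range_cons]
    exact Set.pair_comm y x
  rw [hr] at this
  exact this

theorem h8_eq_of_le_of_finrank {U W : Submodule F (Fin n → F)} (hle : U ≤ W)
    (hU : Module.finrank F U = 2) (hW : Module.finrank F W = 2) : U = W :=
  Submodule.eq_of_le_of_finrank_eq hle (by rw [hU, hW])

section main

variable (K : Subgroup (SpecialLinearGroup (Fin n) F)) (v : (Fin n → F) → (Fin n → F))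
  (hv : ∀ e, e ≠ 0 → ∀ c : F, v e ≠ c • e)
  (hK : ∀ e, e ≠ 0 → ∀ φ (h : φ ⬝ᵥ e = 0), (h8_tv e φ h ∈ K ↔ φ ⬝ᵥ v e = 0))

include hK in
theorem h8_L3_mem_of_vanish (e : Fin n → F) (he : e ≠ 0) (φ : Fin n → F)
    (hφ : ∀ x ∈ h8_L v e, φ ⬝ᵥ x = 0) :
    ∃ h : φ ⬝ᵥ e = 0, h8_tv e φ h ∈ K :=
  ⟨hφ e (h8_self_mem_L v e), (hK e he φ (hφ e (h8_self_mem_L v e))).mpr (hφ _ (h8_v_mem_L v e))⟩

include hK in
/-- (b) of the blueprint. -/
theorem h8_L3_b (e₁ e₂ : Fin n → F) (h₁ : e₁ ≠ 0) (h₂ : e₂ ≠ 0) (h21 : e₂ ∉ h8_L v e₁) :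
    v e₁ ∈ h8_L v e₂ ⊔ Submodule.span F {e₁} := by
  by_contra hcon
  obtain ⟨φ₂, hφ₂U, hφ₂v⟩ := h8_exists_dot _ _ hcon
  obtain ⟨φ₁, hφ₁U, hφ₁e⟩ := h8_exists_dot _ _ h21
  obtain ⟨ha, haK⟩ := h8_L3_mem_of_vanish K v hK e₁ h₁ φ₁ hφ₁U
  obtain ⟨hb, hbK⟩ := h8_L3_mem_of_vanish K v hK e₂ h₂ φ₂
    (fun x hx => hφ₂U x (Submodule.mem_sup_left hx))
  have h₂₁ : φ₂ ⬝ᵥ e₁ = 0 :=
    hφ₂U e₁ (Submodule.mem_sup_right (Submodule.subset_span (by simp)))
  have hcomm := h8_tv_comm e₁ φ₁ e₂ φ₂ ha hb h₂₁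
  have hmem : h8_tv e₁ ((φ₁ ⬝ᵥ e₂) • φ₂) (by rw [smul_dotProduct, h₂₁, smul_zero]) ∈ K := by
    rw [← hcomm]
    exact K.mul_mem (K.mul_mem (K.mul_mem haK hbK) (K.inv_mem haK)) (K.inv_mem hbK)
  have := (hK e₁ h₁ _ _).mp hmem
  rw [smul_dotProduct, smul_eq_mul] at this
  rcases mul_eq_zero.mp this with h | h
  · exact hφ₁e h
  · exact hφ₂v h

include hv in
theorem h8_L3_finrank (e : Fin n → F) (he : e ≠ 0) : Module.finrank F (h8_L v e) = 2 :=
  h8_finrank_pair he (hv e he)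

include hv hK in
theorem h8_L3_sym (e₁ e₂ : Fin n → F) (h₁ : e₁ ≠ 0) (h₂ : e₂ ≠ 0) (h21 : e₂ ∉ h8_L v e₁) :
    e₁ ∉ h8_L v e₂ := by
  intro h12
  have hb := h8_L3_b K v hK e₁ e₂ h₁ h₂ h21
  have hsup : h8_L v e₂ ⊔ Submodule.span F {e₁} = h8_L v e₂ := by
    rw [sup_eq_left, Submodule.span_singleton_le_iff_mem]
    exact h12
  rw [hsup] at hb
  have hle : h8_L v e₁ ≤ h8_L v e₂ := h8_pair_le h12 hb
  have := h8_eq_of_le_of_finrank hle (h8_L3_finrank v hv e₁ h₁) (h8_L3_finrank v hv e₂ h₂)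
  apply h21
  rw [this]
  exact h8_self_mem_L v e₂

include hv hK in
theorem h8_L3_spread (e x : Fin n → F) (he : e ≠ 0) (hx : x ∈ h8_L v e)
    (hxe : ∀ c : F, x ≠ c • e) : h8_L v x = h8_L v e := by
  have hx0 : x ≠ 0 := by
    intro h
    exact hxe 0 (by rw [h, zero_smul])
  have hex : e ∈ h8_L v x := by
    by_contra hcon
    exact h8_L3_sym K v hv hK x e hx0 he hcon hx
  have h1 : Submodule.span F {e, x} = h8_L v x :=
    h8_eq_of_le_of_finrank (h8_pair_le hex (h8_self_mem_L v x)) (h8_finrank_pair he hxe)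
      (h8_L3_finrank v hv x hx0)
  have h2 : Submodule.span F {e, x} = h8_L v e :=
    h8_eq_of_le_of_finrank (h8_pair_le (h8_self_mem_L v e) hx) (h8_finrank_pair he hxe)
      (h8_L3_finrank v hv e he)
  rw [← h1, h2]

include hv hK in
/-- **Lemma 3**: TYPE II' is impossible for `n ≥ 3`. -/
theorem h8_typeII_false (hn : 3 ≤ n) : False := by
  obtain ⟨i₀⟩ : Nonempty (Fin n) := ⟨⟨0, by omega⟩⟩
  set e₁ : Fin n → F := Pi.single i₀ 1 with he₁
  have h₁ : e₁ ≠ 0 := by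
    intro h
    have := congrFun h i₀
    simp [he₁] at this
  -- a vector outside `ℓ(e₁)`
  have hlt : h8_L v e₁ ≠ ⊤ := by
    intro htop
    have h2 := h8_L3_finrank v hv e₁ h₁
    rw [htop, finrank_top, Module.finrank_fin_fun] at h2
    omega
  obtain ⟨e₂, h21⟩ : ∃ e₂, e₂ ∉ h8_L v e₁ := by
    by_contra hcon
    push Not at hcon
    exact hlt (eq_top_iff.mpr fun x _ => hcon x)
  have h₂ : e₂ ≠ 0 := by
    intro h
    apply h21
    rw [h]
    exact Submodule.zero_mem _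
  have h12 : e₁ ∉ h8_L v e₂ := h8_L3_sym K v hv hK e₁ e₂ h₁ h₂ h21
  have hb := h8_L3_b K v hK e₁ e₂ h₁ h₂ h21
  obtain ⟨y, hy, z, hz, hyz⟩ := Submodule.mem_sup.mp hb
  obtain ⟨c, rfl⟩ := Submodule.mem_span_singleton.mp hz
  -- `y = v e₁ - c e₁` lies on both lines
  have hy1 : y ∈ h8_L v e₁ := by
    have : y = v e₁ - c • e₁ := by rw [← hyz]; abel
    rw [this]
    exact Submodule.sub_mem _ (h8_v_mem_L v e₁) (Submodule.smul_mem _ _ (h8_self_mem_L v e₁))
  have hye1 : ∀ d : F, y ≠ d • e₁ := by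
    intro d hd
    apply hv e₁ h₁ (d + c)
    rw [← hyz, hd, add_smul]
  have hy0 : y ≠ 0 := by
    intro h
    exact hye1 0 (by rw [h, zero_smul])
  have hye2 : ∀ d : F, y ≠ d • e₂ := by
    intro d hd
    have hd0 : d ≠ 0 := by
      intro h
      apply hy0
      rw [hd, h, zero_smul]
    apply h21
    have : e₂ = d⁻¹ • y := by rw [hd, smul_smul, inv_mul_cancel₀ hd0, one_smul]
    rw [this]
    exact Submodule.smul_mem _ _ hy1
  have s1 := h8_L3_spread K v hv hK e₁ y h₁ hy1 hye1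
  have s2 := h8_L3_spread K v hv hK e₂ y h₂ hy hye2
  apply h21
  rw [← s1, s2]
  exact h8_self_mem_L v e₂

end main

end Cfsg.Agent.MinIdx
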