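import Mathlib
import Cfsg.Agent.MinIdx.H8_Tv
import Cfsg.Agent.MinIdx.H8_L3

set_option autoImplicit false
set_option linter.unusedSectionVars false
set_option linter.unusedVariables false

/-!
MinIdx / S2140, piece PB part 1 (helper4): the block model.  For `e₀` the first basis vector of `F^(k+1)`
the transvections with centre `e₀` are `x ↦ T(e₀, (0,x))`, `x ∈ F^k`; for `g ∈ SL_k(F)` the block matrix
`γ = diag(1, g^{-T})` conjugates `T(e₀,(0,x))` to `T(e₀,(0,g x))`; general conjugation formula; `SL_n(F)`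
is transitive on the non-zero vectors; the twist `g ↦ g^{-T}`.
-/

namespace Cfsg.Agent.MinIdx

open Matrix

variable {F : Type*} [Field F] {k n : ℕ}

/-- the first basis vector. -/
def h4_e0 (F : Type*) [Field F] (k : ℕ) : Fin (k + 1) → F := Pi.single 0 1

/-- `x ↦ (0, x)`. -/
def h4_ext (x : Fin k → F) : Fin (k + 1) → F := Fin.cons 0 x

@[simp] theorem h4_ext_zero_apply (x : Fin k → F) : h4_ext x 0 = 0 := rfl

@[simp] theorem h4_ext_succ (x : Fin k → F) (i : Fin k) : h4_ext x i.succ = x i := rfl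

theorem h4_ext_dot_e0 (x : Fin k → F) : h4_ext x ⬝ᵥ h4_e0 F k = 0 := by
  rw [h4_e0, dotProduct_single, h4_ext_zero_apply, zero_mul]

theorem h4_eq_ext (φ : Fin (k + 1) → F) (h : φ ⬝ᵥ h4_e0 F k = 0) : φ = h4_ext (Fin.tail φ) := by
  rw [h4_e0, dotProduct_single, mul_one] at h
  funext i
  refine Fin.cases ?_ (fun j => ?_) i
  · rw [h, h4_ext_zero_apply]
  · rfl

theorem h4_ext_add (x y : Fin k → F) : h4_ext (x + y) = h4_ext x + h4_ext y := by
  funext i
  refine Fin.cases ?_ (fun j => ?_) i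
  · simp
  · simp

theorem h4_ext_zero : h4_ext (0 : Fin k → F) = 0 := by
  funext i
  refine Fin.cases ?_ (fun j => ?_) i
  · simp
  · simp

theorem h4_ext_injective : Function.Injective (h4_ext (F := F) (k := k)) := by
  intro x y h
  funext i
  have := congrFun h i.succ
  simpa using this

theorem h4_ext_dot (x : Fin k → F) (v : Fin (k + 1) → F) :
    h4_ext x ⬝ᵥ v = x ⬝ᵥ Fin.tail v := by
  simp only [dotProduct]
  rw [Fin.sum_univ_succ]
  simp [Fin.tail]

/-- the block matrix `diag(1, h)`. -/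
def h4_blk (h : Matrix (Fin k) (Fin k) F) : Matrix (Fin (k + 1)) (Fin (k + 1)) F :=
  Matrix.of (Fin.cons (Fin.cons 1 0) (fun i => Fin.cons 0 (h i)))

@[simp] theorem h4_blk_zero_zero (h : Matrix (Fin k) (Fin k) F) : h4_blk h 0 0 = 1 := rfl
@[simp] theorem h4_blk_zero_succ (h : Matrix (Fin k) (Fin k) F) (j : Fin k) :
    h4_blk h 0 j.succ = 0 := rfl
@[simp] theorem h4_blk_succ_zero (h : Matrix (Fin k) (Fin k) F) (i : Fin k) :
    h4_blk h i.succ 0 = 0 := rfl
@[simp] theorem h4_blk_succ_succ (h : Matrix (Fin k) (Fin k) F) (i j : Fin k) :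
    h4_blk h i.succ j.succ = h i j := rfl

theorem h4_blk_det (h : Matrix (Fin k) (Fin k) F) : (h4_blk h).det = h.det := by
  rw [Matrix.det_succ_column_zero, Fin.sum_univ_succ]
  have h1 : (h4_blk h).submatrix (Fin.succAbove 0) Fin.succ = h := by
    ext i j
    simp
  rw [h1]
  simp

theorem h4_blk_mulVec_e0 (h : Matrix (Fin k) (Fin k) F) : h4_blk h *ᵥ h4_e0 F k = h4_e0 F k := by
  funext i
  rw [h4_e0, Matrix.mulVec_single_one]
  refine Fin.cases ?_ (fun j => ?_) i
  · simp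
  · simp

theorem h4_ext_vecMul_blk (y : Fin k → F) (h : Matrix (Fin k) (Fin k) F) :
    h4_ext y ᵥ* h4_blk h = h4_ext (y ᵥ* h) := by
  funext j
  simp only [vecMul, dotProduct]
  rw [Fin.sum_univ_succ]
  refine Fin.cases ?_ (fun j' => ?_) j
  · simp
  · simp [vecMul, dotProduct]

theorem h4_coe_mul (a b : SpecialLinearGroup (Fin n) F) :
    ((a * b : SpecialLinearGroup (Fin n) F) : Matrix (Fin n) (Fin n) F)
      = (a : Matrix (Fin n) (Fin n) F) * (b : Matrix (Fin n) (Fin n) F) := rfl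

theorem h4_inv_mul_coe (g : SpecialLinearGroup (Fin n) F) :
    ((g⁻¹ : SpecialLinearGroup (Fin n) F) : Matrix (Fin n) (Fin n) F)
      * (g : Matrix (Fin n) (Fin n) F) = 1 := by
  rw [← h4_coe_mul, inv_mul_cancel]
  rfl

theorem h4_mul_inv_coe (g : SpecialLinearGroup (Fin n) F) :
    (g : Matrix (Fin n) (Fin n) F)
      * ((g⁻¹ : SpecialLinearGroup (Fin n) F) : Matrix (Fin n) (Fin n) F) = 1 := by
  rw [← h4_coe_mul, mul_inv_cancel]
  rfl

/-- the element `diag(1, g^{-T})` of `SL_{k+1}(F)`. -/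
def h4_gam (g : SpecialLinearGroup (Fin k) F) : SpecialLinearGroup (Fin (k + 1)) F :=
  ⟨h4_blk ((g⁻¹ : SpecialLinearGroup (Fin k) F) : Matrix (Fin k) (Fin k) F)ᵀ, by
    rw [h4_blk_det, det_transpose]
    exact (g⁻¹).2⟩

theorem h4_gam_coe (g : SpecialLinearGroup (Fin k) F) :
    (h4_gam g : Matrix (Fin (k + 1)) (Fin (k + 1)) F)
      = h4_blk ((g⁻¹ : SpecialLinearGroup (Fin k) F) : Matrix (Fin k) (Fin k) F)ᵀ := rfl

/-- `γ T(e₀,(0,x)) = T(e₀,(0,g x)) γ`. -/
theorem h4_gam_conj (g : SpecialLinearGroup (Fin k) F) (x : Fin k → F) :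
    h4_gam g * h8_tv (h4_e0 F k) (h4_ext x) (h4_ext_dot_e0 x)
      = h8_tv (h4_e0 F k) (h4_ext ((g : Matrix (Fin k) (Fin k) F) *ᵥ x)) (h4_ext_dot_e0 _)
          * h4_gam g := by
  apply Subtype.ext
  show (h4_gam g : Matrix (Fin (k + 1)) (Fin (k + 1)) F) * h8_tvM (h4_e0 F k) (h4_ext x)
    = h8_tvM (h4_e0 F k) (h4_ext ((g : Matrix (Fin k) (Fin k) F) *ᵥ x))
      * (h4_gam g : Matrix (Fin (k + 1)) (Fin (k + 1)) F)
  rw [h4_gam_coe]
  unfold h8_tvM
  rw [mul_add, add_mul, mul_one, one_mul, mul_vecMulVec, vecMulVec_mul, h4_blk_mulVec_e0,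
    h4_ext_vecMul_blk, vecMul_transpose, mulVec_mulVec, h4_inv_mul_coe, one_mulVec]

/-- general conjugation formula `g T(e, ψ g) = T(g e, ψ) g`. -/
theorem h4_conj (g : SpecialLinearGroup (Fin n) F) (e ψ : Fin n → F)
    (h : ψ ⬝ᵥ ((g : Matrix (Fin n) (Fin n) F) *ᵥ e) = 0) :
    g * h8_tv e (ψ ᵥ* (g : Matrix (Fin n) (Fin n) F)) (by rw [← dotProduct_mulVec]; exact h)
      = h8_tv ((g : Matrix (Fin n) (Fin n) F) *ᵥ e) ψ h * g := by
  apply Subtype.ext
  show (g : Matrix (Fin n) (Fin n) F) * h8_tvM e (ψ ᵥ* (g : Matrix (Fin n) (Fin n) F))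
    = h8_tvM ((g : Matrix (Fin n) (Fin n) F) *ᵥ e) ψ * (g : Matrix (Fin n) (Fin n) F)
  unfold h8_tvM
  rw [mul_add, add_mul, mul_one, one_mul, mul_vecMulVec, vecMulVec_mul]

/-- `T(w - u, φ) u = w` if `φ·u = φ·w = 1`. -/
theorem h4_tv_move (u w φ : Fin n → F) (hu : φ ⬝ᵥ u = 1) (hw : φ ⬝ᵥ w = 1) :
    (h8_tv (w - u) φ (by rw [dotProduct_sub, hu, hw, sub_self]) : Matrix (Fin n) (Fin n) F) *ᵥ u
      = w := by
  rw [h8_tv_coe]
  unfold h8_tvM
  rw [add_mulVec, one_mulVec, vecMulVec_mulVec, hu]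
  funext i
  simp

/-- for linearly independent `u, w` there is a functional with `φ·u = φ·w = 1`. -/
theorem h4_exists_dot_one (u w : Fin n → F) (hu : u ≠ 0) (hw : ∀ c : F, w ≠ c • u) :
    ∃ φ : Fin n → F, φ ⬝ᵥ u = 1 ∧ φ ⬝ᵥ w = 1 := by
  have hnot : u ∉ Submodule.span F {w - u} := by
    intro hmem
    rw [Submodule.mem_span_singleton] at hmem
    obtain ⟨c, hc⟩ := hmem
    -- c • (w - u) = u, so c • w = (1 + c) • u
    by_cases hc0 : c = 0
    · apply hu
      rw [← hc, hc0, zero_smul]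
    · apply hw (c⁻¹ * (1 + c))
      have h1 : c • w = (1 + c) • u := by
        rw [add_smul, one_smul]
        nth_rewrite 1 [← hc]
        rw [← smul_add, sub_add_cancel]
      rw [mul_smul, ← h1, smul_smul, inv_mul_cancel₀ hc0, one_smul]
  obtain ⟨φ₁, hφ₁, hφ₁u⟩ := h8_exists_dot _ u hnot
  refine ⟨(φ₁ ⬝ᵥ u)⁻¹ • φ₁, ?_, ?_⟩
  · rw [smul_dotProduct, smul_eq_mul, inv_mul_cancel₀ hφ₁u]
  · have h0 : φ₁ ⬝ᵥ (w - u) = 0 := hφ₁ _ (Submodule.mem_span_singleton_self _)
    rw [dotProduct_sub, sub_eq_zero] at h0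
    rw [smul_dotProduct, smul_eq_mul, h0, inv_mul_cancel₀ hφ₁u]

/-- `SL_n(F)` moves a non-zero vector to any vector that is not a multiple of it. -/
theorem h4_exists_sl_indep (u w : Fin n → F) (hu : u ≠ 0) (hw : ∀ c : F, w ≠ c • u) :
    ∃ g : SpecialLinearGroup (Fin n) F, (g : Matrix (Fin n) (Fin n) F) *ᵥ u = w := by
  obtain ⟨φ, h1, h2⟩ := h4_exists_dot_one u w hu hw
  exact ⟨_, h4_tv_move u w φ h1 h2⟩

/-- `SL_n(F)`, `n ≥ 2`, is transitive on the non-zero vectors. -/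
theorem h4_exists_sl (hn : 2 ≤ n) (u w : Fin n → F) (hu : u ≠ 0) (hw : w ≠ 0) :
    ∃ g : SpecialLinearGroup (Fin n) F, (g : Matrix (Fin n) (Fin n) F) *ᵥ u = w := by
  by_cases hind : ∀ c : F, w ≠ c • u
  · exact h4_exists_sl_indep u w hu hind
  · push Not at hind
    obtain ⟨c, hc⟩ := hind
    have hc0 : c ≠ 0 := by
      intro h
      apply hw
      rw [hc, h, zero_smul]
    -- a vector `z` outside the line of `u`
    obtain ⟨i, hi⟩ : ∃ i, u i ≠ 0 := by
      by_contra hcon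
      push Not at hcon
      exact hu (funext hcon)
    obtain ⟨j, hj⟩ : ∃ j : Fin n, j ≠ i := by
      by_contra hcon
      push Not at hcon
      have h1 : Fintype.card (Fin n) ≤ 1 :=
        Fintype.card_le_one_iff.mpr (fun a b => by rw [hcon a, hcon b])
      rw [Fintype.card_fin] at h1
      omega
    set z : Fin n → F := u + Pi.single j 1 with hz
    have hzu : ∀ d : F, z ≠ d • u := by
      intro d hd
      have h1 := congrFun hd i
      have h2 := congrFun hd j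
      simp only [hz, Pi.add_apply, Pi.smul_apply, smul_eq_mul, Pi.single_eq_of_ne hj.symm,
        add_zero, Pi.single_eq_same] at h1 h2
      have hd1 : d = 1 := by
        have : (d - 1) * u i = 0 := by rw [sub_mul, one_mul, ← h1, sub_self]
        rcases mul_eq_zero.mp this with h | h
        · exact sub_eq_zero.mp h
        · exact absurd h hi
      rw [hd1, one_mul] at h2
      have : (1 : F) = 0 := by
        have := h2
        rw [add_eq_left] at this
        exact this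
      exact one_ne_zero this
    have hz0 : z ≠ 0 := by
      intro h
      apply hzu 0
      rw [h, zero_smul]
    have hwz : ∀ d : F, w ≠ d • z := by
      intro d hd
      by_cases hd0 : d = 0
      · apply hw
        rw [hd, hd0, zero_smul]
      · apply hzu (d⁻¹ * c)
        rw [mul_smul, ← hc, hd, smul_smul, inv_mul_cancel₀ hd0, one_smul]
    obtain ⟨g₁, hg₁⟩ := h4_exists_sl_indep u z hu hzu
    obtain ⟨g₂, hg₂⟩ := h4_exists_sl_indep z w hz0 hwz
    refine ⟨g₂ * g₁, ?_⟩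
    rw [h4_coe_mul, ← mulVec_mulVec, hg₁, hg₂]

/-- the twist `g ↦ g^{-T}` of `SL_n(F)`. -/
def h4_theta (F : Type*) [Field F] (n : ℕ) :
    SpecialLinearGroup (Fin n) F →* SpecialLinearGroup (Fin n) F :=
  MonoidHom.mk' (fun g => (SpecialLinearGroup.transpose g)⁻¹) (by
    intro a b
    rw [← _root_.mul_inv_rev]
    congr 1
    apply Subtype.ext
    show ((a : Matrix (Fin n) (Fin n) F) * (b : Matrix (Fin n) (Fin n) F))ᵀ
      = (b : Matrix (Fin n) (Fin n) F)ᵀ * (a : Matrix (Fin n) (Fin n) F)ᵀ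
    exact transpose_mul _ _)

theorem h4_theta_apply (g : SpecialLinearGroup (Fin n) F) :
    h4_theta F n g = (SpecialLinearGroup.transpose g)⁻¹ := rfl

/-- `θ(T(e,φ)) = T(φ,-e)`. -/
theorem h4_theta_tv (e φ : Fin n → F) (h : φ ⬝ᵥ e = 0) :
    h4_theta F n (h8_tv e φ h)
      = h8_tv φ (-e) (by rw [neg_dotProduct, dotProduct_comm, h, neg_zero]) := by
  rw [h4_theta_apply, inv_eq_iff_mul_eq_one]
  have h1 : ((SpecialLinearGroup.transpose (h8_tv e φ h) : SpecialLinearGroup (Fin n) F) :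
      Matrix (Fin n) (Fin n) F) = h8_tvM φ e := by
    rw [SpecialLinearGroup.coe_transpose, h8_tv_coe]
    unfold h8_tvM
    rw [transpose_add, transpose_one, transpose_vecMulVec]
  apply Subtype.ext
  show ((SpecialLinearGroup.transpose (h8_tv e φ h) : SpecialLinearGroup (Fin n) F) :
      Matrix (Fin n) (Fin n) F) * h8_tvM φ (-e) = 1
  rw [h1, h8_tvM_mul φ e (-e) (by rw [dotProduct_comm]; exact h), add_neg_cancel]
  unfold h8_tvM
  rw [vecMulVec_zero, add_zero]

end Cfsg.Agent.MinIdx
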