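import Mathlib

set_option autoImplicit false
set_option linter.unusedSectionVars false

/-!
MinIdx / S2140, piece P6 (helper4): the existence half (a point stabiliser of `PSL_n(F)` on the projective
space has index `(q^n-1)/(q-1)`), the transfer of the lower bound from `SL_n` to `PSL_n`, and the final
shape of S2140 from the core bound for proper subgroups of `SL_n(F)`.
-/

namespace Cfsg.Agent.MinIdx

open scoped LinearAlgebra.Projectivization

variable {F : Type*} [Field F] [Fintype F]

/-- `(q^n - 1)/(q - 1)` is the number of points of the projective space. -/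
theorem h4_card_proj (n : ℕ) :
    Nat.card (ℙ F (Fin n → F)) = (Fintype.card F ^ n - 1) / (Fintype.card F - 1) := by
  have h := Projectivization.card_of_finrank F (Fin n → F) (n := n) (by simp)
  rw [h, Nat.card_eq_fintype_card]
  exact Nat.geomSum_eq Fintype.one_lt_card n

/-- existence half of S2140: a point stabiliser in `PSL_n(F)` has index `(q^n-1)/(q-1)`. -/
theorem h4_exists_index (n : ℕ) (hn : 1 ≤ n) :
    ∃ H : Subgroup (Matrix.ProjectiveSpecialLinearGroup (Fin n) F),
      H.index = (Fintype.card F ^ n - 1) / (Fintype.card F - 1) := by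
  classical
  have : Nonempty (Fin n) := ⟨⟨0, hn⟩⟩
  have hne : (fun _ : Fin n => (1 : F)) ≠ 0 := by
    intro h
    have := congrFun h ⟨0, hn⟩
    simp at this
  let p : ℙ F (Fin n → F) := Projectivization.mk F _ hne
  refine ⟨MulAction.stabilizer _ p, ?_⟩
  have : MulAction.IsPretransitive (Matrix.ProjectiveSpecialLinearGroup (Fin n) F)
      (ℙ F (Fin n → F)) := inferInstance
  rw [MulAction.index_stabilizer_of_transitive, h4_card_proj]

/-- transfer from `SL_n` to `PSL_n`. -/
theorem h4_psl_of_sl (n N : ℕ)
    (h : ∀ K : Subgroup (Matrix.SpecialLinearGroup (Fin n) F), K ≠ ⊤ → N ≤ K.index) :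
    ∀ H : Subgroup (Matrix.ProjectiveSpecialLinearGroup (Fin n) F), H ≠ ⊤ → N ≤ H.index := by
  intro H hH
  have hsurj : Function.Surjective
      (QuotientGroup.mk' (Subgroup.center (Matrix.SpecialLinearGroup (Fin n) F))) :=
    QuotientGroup.mk'_surjective _
  have := h (H.comap (QuotientGroup.mk' _)) (by
    intro htop
    apply hH
    rw [← Subgroup.map_comap_eq_self_of_surjective hsurj H, htop, ← MonoidHom.range_eq_map,
      MonoidHom.range_eq_top.mpr hsurj])
  rwa [Subgroup.index_comap_of_surjective _ hsurj] at this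

/-- S2140 from the core bound for proper subgroups of `SL_n(F)`. -/
theorem h4_result_of_core {q : ℕ} (hF : Fintype.card F = q) (n : ℕ) (hn : 1 ≤ n)
    (hcore : ∀ K : Subgroup (Matrix.SpecialLinearGroup (Fin n) F), K ≠ ⊤ →
      (q ^ n - 1) / (q - 1) ≤ K.index) :
    (∀ H : Subgroup (Matrix.ProjectiveSpecialLinearGroup (Fin n) F), H ≠ ⊤ →
      (q ^ n - 1) / (q - 1) ≤ H.index) ∧
    (∃ H : Subgroup (Matrix.ProjectiveSpecialLinearGroup (Fin n) F),
      H.index = (q ^ n - 1) / (q - 1)) := by
  subst hF
  exact ⟨h4_psl_of_sl n _ hcore, h4_exists_index n hn⟩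

end Cfsg.Agent.MinIdx
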