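import Mathlib
import Cfsg.Agent.MinIdx.H8_L3

set_option autoImplicit false
set_option linter.unusedSectionVars false
set_option linter.unusedVariables false

/-!
MinIdx / S2140 (helper4): the linear algebra behind the dichotomy of Lemma A (case `m = 1`).
An additive subgroup `D` of `F^k` that is stable under `c'' ↦ c'' + (u·c'') x` for all `x ⟂ u`, `u ⟂ c`
(`c ∈ D`, `c ≠ 0`: the transposes of the transvections fixing `c`) and that contains two linearly
independent vectors is everything.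
-/

namespace Cfsg.Agent.MinIdx

open Matrix

variable {F : Type*} [Field F] {k : ℕ}

/-- a functional with prescribed zeros on `c`, `x` and value `1` on `c'`. -/
theorem h4_exists_dot_pair (c x c' : Fin k → F) (h : c' ∉ Submodule.span F {c, x}) :
    ∃ u : Fin k → F, u ⬝ᵥ c = 0 ∧ u ⬝ᵥ x = 0 ∧ u ⬝ᵥ c' = 1 := by
  obtain ⟨φ, hφ, hφc'⟩ := h8_exists_dot _ c' h
  refine ⟨(φ ⬝ᵥ c')⁻¹ • φ, ?_, ?_, ?_⟩
  · rw [smul_dotProduct, hφ c (Submodule.subset_span (by simp)), smul_zero]
  · rw [smul_dotProduct, hφ x (Submodule.subset_span (by simp)), smul_zero]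
  · rw [smul_dotProduct, smul_eq_mul, inv_mul_cancel₀ hφc']

theorem h4_LA_line (D : AddSubgroup (Fin k → F))
    (hinv : ∀ c ∈ D, c ≠ 0 → ∀ u x : Fin k → F, x ⬝ᵥ u = 0 → u ⬝ᵥ c = 0 →
      ∀ c'' ∈ D, c'' + (u ⬝ᵥ c'') • x ∈ D)
    (c c' : Fin k → F) (hc : c ∈ D) (hc' : c' ∈ D) (hc0 : c ≠ 0) (hind : ∀ a : F, c' ≠ a • c)
    (a : F) : a • c ∈ D := by
  have hnot : c' ∉ Submodule.span F {c, a • c} := by
    intro hmem
    rw [Submodule.mem_span_pair] at hmem
    obtain ⟨s, t, hst⟩ := hmem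
    apply hind (s + t * a)
    rw [← hst, add_smul, mul_smul]
  obtain ⟨u, huc, hux, huc'⟩ := h4_exists_dot_pair c (a • c) c' hnot
  have h1 := hinv c hc hc0 u (a • c) (by rw [dotProduct_comm]; exact hux) huc c' hc'
  rw [huc', one_smul] at h1
  have h2 := D.sub_mem h1 hc'
  rwa [add_sub_cancel_left] at h2

/-- the dichotomy: two independent vectors in `D` force `D = ⊤`. -/
theorem h4_LA (D : AddSubgroup (Fin k → F))
    (hinv : ∀ c ∈ D, c ≠ 0 → ∀ u x : Fin k → F, x ⬝ᵥ u = 0 → u ⬝ᵥ c = 0 →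
      ∀ c'' ∈ D, c'' + (u ⬝ᵥ c'') • x ∈ D)
    (c c' : Fin k → F) (hc : c ∈ D) (hc' : c' ∈ D) (hc0 : c ≠ 0) (hind : ∀ a : F, c' ≠ a • c)
    (x : Fin k → F) : x ∈ D := by
  have hc'0 : c' ≠ 0 := by
    intro h
    apply hind 0
    rw [h, zero_smul]
  have hind' : ∀ a : F, c ≠ a • c' := by
    intro a ha
    by_cases ha0 : a = 0
    · apply hc0
      rw [ha, ha0, zero_smul]
    · apply hind a⁻¹
      rw [ha, smul_smul, inv_mul_cancel₀ ha0, one_smul]
  have hline := h4_LA_line D hinv c c' hc hc' hc0 hind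
  have hline' := h4_LA_line D hinv c' c hc' hc hc'0 hind'
  by_cases hmem : c' ∈ Submodule.span F {c, x}
  · rw [Submodule.mem_span_pair] at hmem
    obtain ⟨s, t, hst⟩ := hmem
    have ht : t ≠ 0 := by
      intro h
      apply hind s
      rw [← hst, h, zero_smul, add_zero]
    have hx : x = t⁻¹ • c' + (-(t⁻¹ * s)) • c := by
      rw [← hst, smul_add, smul_smul, smul_smul, inv_mul_cancel₀ ht, one_smul, neg_smul]
      abel
    rw [hx]
    exact D.add_mem (hline' _) (hline _)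
  · obtain ⟨u, huc, hux, huc'⟩ := h4_exists_dot_pair c x c' hmem
    have h1 := hinv c hc hc0 u x (by rw [dotProduct_comm]; exact hux) huc c' hc'
    rw [huc', one_smul] at h1
    have h2 := D.sub_mem h1 hc'
    rwa [add_sub_cancel_left] at h2

end Cfsg.Agent.MinIdx
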