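import Mathlib
import Cfsg.Agent.MinIdx.H8_L3
import Cfsg.Agent.Helper7.Transvections

set_option autoImplicit false
set_option linter.unusedSectionVars false
set_option linter.unusedVariables false

/-! S2140, Lemma 4 of helper9's blueprint: in TYPE I (and dual TYPE I) a transvection `≠ 1` with a
fixed point forces the whole of `SL_n(F)` to fix that point (helper8). -/

namespace Cfsg.Agent.MinIdx

open Matrix

variable {F : Type*} [Field F] {n : ℕ}

/-- Elementary transvections are `h8_tv`s. -/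
theorem h8_tv_elem {i j : Fin n} (hij : i ≠ j) (a : F) :
    ∃ h : (Pi.single j (1 : F) : Fin n → F) ⬝ᵥ (Pi.single i a : Fin n → F) = 0,
      SpecialLinearGroup.transvection hij a = h8_tv (Pi.single i a) (Pi.single j 1) h := by
  have h : (Pi.single j (1 : F) : Fin n → F) ⬝ᵥ (Pi.single i a : Fin n → F) = 0 := by
    rw [single_dotProduct, one_mul, Pi.single_eq_of_ne (Ne.symm hij)]
  refine ⟨h, ?_⟩
  apply Subtype.ext
  rw [h8_tv_coe, SpecialLinearGroup.transvection_coe, h8_tvM]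
  congr 1
  ext p q
  simp only [single_apply, vecMulVec_apply, Pi.single_apply]
  by_cases hp : p = i
  · by_cases hq : q = j
    · simp [hp, hq]
    · simp [hp, hq, Ne.symm hq]
  · simp [hp, Ne.symm hp]

/-- `SL_n(F)` is generated by the transvections `T(e,φ)`, `e, φ ≠ 0`. -/
theorem h8_tv_gen (hn : 2 ≤ n) (K : Subgroup (SpecialLinearGroup (Fin n) F))
    (h : ∀ (e φ : Fin n → F) (hd : φ ⬝ᵥ e = 0), e ≠ 0 → φ ≠ 0 → h8_tv e φ hd ∈ K) : K = ⊤ := by
  have : Nontrivial (Fin n) := Fin.nontrivial_iff_two_le.mpr hn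
  rw [eq_top_iff]
  intro M _
  refine Cfsg.Agent.Helper7.Transv.transvection_induction (fun M => M ∈ K) ?_ ?_ M
  · intro i j hij a
    by_cases ha : a = 0
    · rw [ha, SpecialLinearGroup.transvection_coeff_zero]
      exact K.one_mem
    · obtain ⟨hd, heq⟩ := h8_tv_elem (F := F) hij a
      rw [heq]
      apply h
      · intro h0
        apply ha
        have := congrFun h0 i
        simpa using this
      · intro h0
        have := congrFun h0 j
        simp at this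
  · intro A B hA hB
    exact K.mul_mem hA hB

/-- For `n ≥ 3` two vectors have a common non-zero annihilating functional. -/
theorem h8_exists_common (hn : 3 ≤ n) (e e' : Fin n → F) :
    ∃ φ : Fin n → F, φ ≠ 0 ∧ φ ⬝ᵥ e = 0 ∧ φ ⬝ᵥ e' = 0 := by
  have hlt : Submodule.span F {e, e'} ≠ ⊤ := by
    intro htop
    have h1 : Module.finrank F (Submodule.span F ({e, e'} : Set (Fin n → F))) ≤ 2 := by
      classical
      have h2 := finrank_span_finset_le_card (R := F) ({e, e'} : Finset (Fin n → F))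
      have h3 : (({e, e'} : Finset (Fin n → F)) : Set (Fin n → F)) = {e, e'} := by
        simp
      rw [h3] at h2
      exact h2.trans Finset.card_le_two
    rw [htop, finrank_top, Module.finrank_fin_fun] at h1
    omega
  obtain ⟨w, hw⟩ : ∃ w : Fin n → F, w ∉ Submodule.span F {e, e'} := by
    by_contra hcon
    push Not at hcon
    exact hlt (eq_top_iff.mpr fun x _ => hcon x)
  obtain ⟨φ, hφU, hφw⟩ := h8_exists_dot _ w hw
  refine ⟨φ, ?_, hφU e (Submodule.subset_span (by simp)), hφU e' (Submodule.subset_span (by simp))⟩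
  intro h0
  apply hφw
  rw [h0, zero_dotProduct]

/-- **Lemma 4.**  Assume TYPE I at every centre (`hI`: a point fixed by one `T(e,φ)`, `φ ≠ 0`, is
fixed by all of `A^e`) and at every axis (`hI'`: a point fixed by one `T(e,φ)`, `e ≠ 0`, is fixed
by all of `A_φ`).  Then a point fixed by one transvection `≠ 1` is fixed by `SL_n(F)`, `n ≥ 3`. -/
theorem h8_typeI_fixed {Ω : Type*} [MulAction (SpecialLinearGroup (Fin n) F) Ω] (hn : 3 ≤ n)
    (hI : ∀ (e φ : Fin n → F) (h : φ ⬝ᵥ e = 0), e ≠ 0 → φ ≠ 0 → ∀ ω : Ω, h8_tv e φ h • ω = ω →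
      ∀ (φ' : Fin n → F) (h' : φ' ⬝ᵥ e = 0), h8_tv e φ' h' • ω = ω)
    (hI' : ∀ (e φ : Fin n → F) (h : φ ⬝ᵥ e = 0), e ≠ 0 → φ ≠ 0 → ∀ ω : Ω, h8_tv e φ h • ω = ω →
      ∀ (e' : Fin n → F) (h' : φ ⬝ᵥ e' = 0), h8_tv e' φ h' • ω = ω)
    (ω : Ω) (e φ : Fin n → F) (h : φ ⬝ᵥ e = 0) (he : e ≠ 0) (hφ : φ ≠ 0)
    (hfix : h8_tv e φ h • ω = ω) : ∀ g : SpecialLinearGroup (Fin n) F, g • ω = ω := by
  have htop : MulAction.stabilizer (SpecialLinearGroup (Fin n) F) ω = ⊤ := by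
    apply h8_tv_gen (by omega)
    intro e' φ' h' he' hφ'
    rw [MulAction.mem_stabilizer_iff]
    obtain ⟨ψ, hψ0, hψe, hψe'⟩ := h8_exists_common hn e e'
    have h1 : h8_tv e ψ hψe • ω = ω := hI e φ h he hφ ω hfix ψ hψe
    have h2 : h8_tv e' ψ hψe' • ω = ω := hI' e ψ hψe he hψ0 ω h1 e' hψe'
    exact hI e' ψ hψe' he' hψ0 ω h2 φ' h'
  intro g
  have : g ∈ MulAction.stabilizer (SpecialLinearGroup (Fin n) F) ω := by rw [htop]; trivial
  exact this

/-- **Lemma 4, final form**: under TYPE I at all centres and axes, on a transitive `SL_n(F)`-set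
with at least two points (`n ≥ 3`) no transvection `≠ 1` has a fixed point. -/
theorem h8_typeI_fpf {Ω : Type*} [MulAction (SpecialLinearGroup (Fin n) F) Ω]
    [MulAction.IsPretransitive (SpecialLinearGroup (Fin n) F) Ω] (hn : 3 ≤ n)
    (hΩ : ∃ a b : Ω, a ≠ b)
    (hI : ∀ (e φ : Fin n → F) (h : φ ⬝ᵥ e = 0), e ≠ 0 → φ ≠ 0 → ∀ ω : Ω, h8_tv e φ h • ω = ω →
      ∀ (φ' : Fin n → F) (h' : φ' ⬝ᵥ e = 0), h8_tv e φ' h' • ω = ω)
    (hI' : ∀ (e φ : Fin n → F) (h : φ ⬝ᵥ e = 0), e ≠ 0 → φ ≠ 0 → ∀ ω : Ω, h8_tv e φ h • ω = ω →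
      ∀ (e' : Fin n → F) (h' : φ ⬝ᵥ e' = 0), h8_tv e' φ h' • ω = ω)
    (ω : Ω) (e φ : Fin n → F) (h : φ ⬝ᵥ e = 0) (he : e ≠ 0) (hφ : φ ≠ 0) :
    h8_tv e φ h • ω ≠ ω := by
  intro hfix
  have hall := h8_typeI_fixed hn hI hI' ω e φ h he hφ hfix
  obtain ⟨a, b, hab⟩ := hΩ
  obtain ⟨ga, hga⟩ := MulAction.exists_smul_eq (SpecialLinearGroup (Fin n) F) ω a
  obtain ⟨gb, hgb⟩ := MulAction.exists_smul_eq (SpecialLinearGroup (Fin n) F) ω b
  apply hab
  rw [← hga, ← hgb, hall ga, hall gb]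

end Cfsg.Agent.MinIdx
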