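import Mathlib
import Cfsg.Agent.MinIdx.H8_Tv

/-!
# S2140 / MinIdx (helper9): the two orbit types of the transvection groups `A^e`, and the twist

A `G`-set (`G = SL_n(F)`) is given by a homomorphism `ρ : G →* Equiv.Perm Ω`.
`h9_TypeI ρ e`: the group `A^e = {T(e,φ) : φ·e = 0}` has one regular orbit and fixes every other point.
`h9_TypeII ρ e`: every point stabiliser in `A^e` is a hyperplane `{T(e,φ) : φ·v = 0}`, `v ∉ F e`.
`h9_twist g = (g⁻¹)ᵀ`; `h9_twist (T(e,φ)) = T(φ,-e)`.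
-/

set_option autoImplicit false

namespace Cfsg.Agent.MinIdx

open Matrix

variable {F : Type*} [Field F] {n : ℕ} {Ω : Type*}

/-- TYPE I at `e`. -/
def h9_TypeI (ρ : SpecialLinearGroup (Fin n) F →* Equiv.Perm Ω) (e : Fin n → F) : Prop :=
  ∃ ω₀ : Ω, (∀ φ (h : φ ⬝ᵥ e = 0), ρ (h8_tv e φ h) ω₀ = ω₀ → φ = 0) ∧
    ∀ ω : Ω, (∃ φ, ∃ h : φ ⬝ᵥ e = 0, ρ (h8_tv e φ h) ω₀ = ω) ∨
      (∀ φ (h : φ ⬝ᵥ e = 0), ρ (h8_tv e φ h) ω = ω)

/-- TYPE II' at `e`. -/
def h9_TypeII (ρ : SpecialLinearGroup (Fin n) F →* Equiv.Perm Ω) (e : Fin n → F) : Prop :=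
  ∀ ω : Ω, ∃ v : Fin n → F, (∀ c : F, v ≠ c • e) ∧
    ∀ φ (h : φ ⬝ᵥ e = 0), (ρ (h8_tv e φ h) ω = ω ↔ φ ⬝ᵥ v = 0)

theorem h9_transpose_val (g : SpecialLinearGroup (Fin n) F) : (g.transpose).1 = (g.1)ᵀ := rfl

theorem h9_transpose_mul (a b : SpecialLinearGroup (Fin n) F) :
    (a * b).transpose = b.transpose * a.transpose := by
  apply Subtype.ext
  show ((a * b).1)ᵀ = (b.1)ᵀ * (a.1)ᵀ
  have : (a * b).1 = a.1 * b.1 := rfl
  rw [this, Matrix.transpose_mul]

theorem h9_transpose_one : (1 : SpecialLinearGroup (Fin n) F).transpose = 1 := by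
  apply Subtype.ext
  show ((1 : SpecialLinearGroup (Fin n) F).1)ᵀ = (1 : SpecialLinearGroup (Fin n) F).1
  have : (1 : SpecialLinearGroup (Fin n) F).1 = 1 := rfl
  rw [this, Matrix.transpose_one]

theorem h9_transpose_transpose (g : SpecialLinearGroup (Fin n) F) : g.transpose.transpose = g := by
  apply Subtype.ext
  show ((g.1)ᵀ)ᵀ = g.1
  rw [Matrix.transpose_transpose]

def h9_twist : SpecialLinearGroup (Fin n) F →* SpecialLinearGroup (Fin n) F where
  toFun g := (g⁻¹).transpose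
  map_one' := by rw [inv_one, h9_transpose_one]
  map_mul' a b := by rw [_root_.mul_inv_rev, h9_transpose_mul]

theorem h9_twist_apply (g : SpecialLinearGroup (Fin n) F) : h9_twist g = (g⁻¹).transpose := rfl

theorem h9_twist_twist (g : SpecialLinearGroup (Fin n) F) : h9_twist (h9_twist g) = g := by
  rw [h9_twist_apply, ← map_inv, h9_twist_apply, inv_inv, h9_transpose_transpose]

theorem h9_twist_tv (e φ : Fin n → F) (h : φ ⬝ᵥ e = 0) :
    h9_twist (h8_tv e φ h) =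
      h8_tv φ (-e) (by rw [neg_dotProduct, dotProduct_comm, h, neg_zero]) := by
  rw [h9_twist_apply, h8_tv_inv]
  apply Subtype.ext
  show (h8_tvM e (-φ))ᵀ = h8_tvM φ (-e)
  unfold h8_tvM
  rw [Matrix.transpose_add, Matrix.transpose_one]
  congr 1
  ext i j
  simp [vecMulVec_apply, mul_comm]
end Cfsg.Agent.MinIdx
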