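import Mathlib
import Cfsg.Agent.MinIdx.H4_Block
import Cfsg.Agent.MinIdx.H8_L4
import Cfsg.Agent.MinIdx.H9_Types

set_option autoImplicit false
set_option linter.unusedSectionVars false
set_option linter.unusedVariables false

/-!
MinIdx / S2140, piece PB part 2 (helper4): Lemma B.  For a transitive `SL_n(F)`-set `Ω`
(`ρ : SL_n(F) →* Perm Ω`) with `2 ≤ |Ω| < (q^n-1)/(q-1)` the groups `A^e` are all of type I or all of
type II'.  Lemma A (helper9's `h9_orbit_dichotomy`) enters as the hypothesis `hPA`, applied to the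
action of `F^(n-1)` on `Ω` through `y ↦ T(e₀,(0,y))`.
-/

namespace Cfsg.Agent.MinIdx

open Matrix

variable {F : Type*} [Field F] {k : ℕ} {Ω : Type*}

/-- the action of `F^k` through the transvections with centre `e₀`. -/
def h4_tau (ρ : SpecialLinearGroup (Fin (k + 1)) F →* Equiv.Perm Ω) (y : Fin k → F) :
    Equiv.Perm Ω :=
  ρ (h8_tv (h4_e0 F k) (h4_ext y) (h4_ext_dot_e0 y))

theorem h4_tau_zero (ρ : SpecialLinearGroup (Fin (k + 1)) F →* Equiv.Perm Ω) :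
    h4_tau ρ 0 = 1 := by
  unfold h4_tau
  rw [h8_tv_congr _ _ _ _ h4_ext_zero, h8_tv_zero, map_one]

theorem h4_tau_add (ρ : SpecialLinearGroup (Fin (k + 1)) F →* Equiv.Perm Ω) (x y : Fin k → F) :
    h4_tau ρ (x + y) = h4_tau ρ x * h4_tau ρ y := by
  unfold h4_tau
  rw [← map_mul, h8_tv_mul, h8_tv_congr _ _ _ _ (h4_ext_add x y)]

/-- the additive action of `F^k` on `Ω`. -/
@[reducible] def h4_addAction (ρ : SpecialLinearGroup (Fin (k + 1)) F →* Equiv.Perm Ω) :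
    AddAction (Fin k → F) Ω where
  vadd y ω := h4_tau ρ y ω
  zero_vadd ω := by
    show h4_tau ρ 0 ω = ω
    rw [h4_tau_zero]
    rfl
  add_vadd x y ω := by
    show h4_tau ρ (x + y) ω = h4_tau ρ x (h4_tau ρ y ω)
    rw [h4_tau_add]
    rfl

/-- transport of the transvections with centre `g e₀` to those with centre `e₀`. -/
theorem h4_key (ρ : SpecialLinearGroup (Fin (k + 1)) F →* Equiv.Perm Ω)
    (g : SpecialLinearGroup (Fin (k + 1)) F) (φ : Fin (k + 1) → F)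
    (h : φ ⬝ᵥ ((g : Matrix (Fin (k + 1)) (Fin (k + 1)) F) *ᵥ h4_e0 F k) = 0) (ω : Ω) :
    ρ (h8_tv ((g : Matrix (Fin (k + 1)) (Fin (k + 1)) F) *ᵥ h4_e0 F k) φ h) (ρ g ω)
      = ρ g (h4_tau ρ (Fin.tail (φ ᵥ* (g : Matrix (Fin (k + 1)) (Fin (k + 1)) F))) ω) := by
  have h0 : (φ ᵥ* (g : Matrix (Fin (k + 1)) (Fin (k + 1)) F)) ⬝ᵥ h4_e0 F k = 0 := by
    rw [← dotProduct_mulVec]
    exact h
  have h1 := h4_conj g (h4_e0 F k) φ h
  have h2 := h8_tv_congr (h4_e0 F k) _ _ h0 (h4_eq_ext _ h0)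
  unfold h4_tau
  rw [← Equiv.Perm.mul_apply, ← map_mul, ← h1, map_mul, Equiv.Perm.mul_apply, h2]

/-- `φ` is recovered from `φ g`. -/
theorem h4_vecMul_eq_zero (g : SpecialLinearGroup (Fin (k + 1)) F) (φ : Fin (k + 1) → F)
    (h : φ ᵥ* (g : Matrix (Fin (k + 1)) (Fin (k + 1)) F) = 0) : φ = 0 := by
  have := congrArg (fun ψ => ψ ᵥ* ((g⁻¹ : SpecialLinearGroup (Fin (k + 1)) F) :
    Matrix (Fin (k + 1)) (Fin (k + 1)) F)) h
  simp only [vecMul_vecMul, h4_mul_inv_coe, vecMul_one, zero_vecMul] at this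
  exact this

theorem h4_mulVec_injective (g : SpecialLinearGroup (Fin (k + 1)) F) (v w : Fin (k + 1) → F)
    (h : (g : Matrix (Fin (k + 1)) (Fin (k + 1)) F) *ᵥ v
      = (g : Matrix (Fin (k + 1)) (Fin (k + 1)) F) *ᵥ w) : v = w := by
  have := congrArg (fun ψ => ((g⁻¹ : SpecialLinearGroup (Fin (k + 1)) F) :
    Matrix (Fin (k + 1)) (Fin (k + 1)) F) *ᵥ ψ) h
  simp only [mulVec_mulVec, h4_inv_mul_coe, one_mulVec] at this
  exact this

/-- every covector orthogonal to `e₀` is `(ψ g)` for some `ψ` orthogonal to `g e₀`. -/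
theorem h4_exists_pre (g : SpecialLinearGroup (Fin (k + 1)) F) (y : Fin k → F) :
    ∃ φ : Fin (k + 1) → F,
      φ ⬝ᵥ ((g : Matrix (Fin (k + 1)) (Fin (k + 1)) F) *ᵥ h4_e0 F k) = 0 ∧
      Fin.tail (φ ᵥ* (g : Matrix (Fin (k + 1)) (Fin (k + 1)) F)) = y := by
  refine ⟨h4_ext y ᵥ* ((g⁻¹ : SpecialLinearGroup (Fin (k + 1)) F) :
    Matrix (Fin (k + 1)) (Fin (k + 1)) F), ?_, ?_⟩
  · rw [dotProduct_mulVec, vecMul_vecMul, h4_inv_mul_coe, vecMul_one, h4_ext_dot_e0]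
  · rw [vecMul_vecMul, h4_inv_mul_coe, vecMul_one]
    rfl

/-- the two types at `e₀`, in the shape of the conclusion of Lemma A. -/
def h4_TypeI0 (ρ : SpecialLinearGroup (Fin (k + 1)) F →* Equiv.Perm Ω) : Prop :=
  ∃ ω₀ : Ω, (∀ y : Fin k → F, h4_tau ρ y ω₀ = ω₀ → y = 0) ∧
    ∀ ω : Ω, (∃ y : Fin k → F, h4_tau ρ y ω₀ = ω) ∨ ∀ y : Fin k → F, h4_tau ρ y ω = ω

def h4_TypeII0 (ρ : SpecialLinearGroup (Fin (k + 1)) F →* Equiv.Perm Ω) : Prop :=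
  ∀ ω : Ω, ∃ c : Fin k → F, c ≠ 0 ∧ ∀ y : Fin k → F, h4_tau ρ y ω = ω ↔ c ⬝ᵥ y = 0

/-- transport of type I. -/
theorem h4_typeI_of (hk : 1 ≤ k) (ρ : SpecialLinearGroup (Fin (k + 1)) F →* Equiv.Perm Ω)
    (h0 : h4_TypeI0 ρ) (e : Fin (k + 1) → F) (he : e ≠ 0) : h9_TypeI ρ e := by
  obtain ⟨g, hg⟩ := h4_exists_sl (by omega) (h4_e0 F k) e
    (by
      intro h
      have := congrFun h 0
      simp [h4_e0] at this) he
  subst hg
  obtain ⟨ω₀, hfree, hall⟩ := h0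
  refine ⟨ρ g ω₀, ?_, ?_⟩
  · intro φ h hfix
    rw [h4_key] at hfix
    have h1 := hfree _ ((ρ g).injective hfix)
    have h0' : (φ ᵥ* (g : Matrix (Fin (k + 1)) (Fin (k + 1)) F)) ⬝ᵥ h4_e0 F k = 0 := by
      rw [← dotProduct_mulVec]
      exact h
    apply h4_vecMul_eq_zero g
    rw [h4_eq_ext _ h0', h1, h4_ext_zero]
  · intro ω
    obtain ⟨ω₁, rfl⟩ : ∃ ω₁, ρ g ω₁ = ω := ⟨(ρ g).symm ω, (ρ g).apply_symm_apply ω⟩
    rcases hall ω₁ with ⟨y, hy⟩ | hfix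
    · left
      obtain ⟨φ, hφ, hφy⟩ := h4_exists_pre g y
      refine ⟨φ, hφ, ?_⟩
      rw [h4_key, hφy, hy]
    · right
      intro φ h
      rw [h4_key, hfix]

/-- transport of type II'. -/
theorem h4_typeII_of (hk : 1 ≤ k) (ρ : SpecialLinearGroup (Fin (k + 1)) F →* Equiv.Perm Ω)
    (h0 : h4_TypeII0 ρ) (e : Fin (k + 1) → F) (he : e ≠ 0) : h9_TypeII ρ e := by
  obtain ⟨g, hg⟩ := h4_exists_sl (by omega) (h4_e0 F k) e
    (by
      intro h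
      have := congrFun h 0
      simp [h4_e0] at this) he
  subst hg
  intro ω
  obtain ⟨ω₁, rfl⟩ : ∃ ω₁, ρ g ω₁ = ω := ⟨(ρ g).symm ω, (ρ g).apply_symm_apply ω⟩
  obtain ⟨c, hc0, hc⟩ := h0 ω₁
  refine ⟨(g : Matrix (Fin (k + 1)) (Fin (k + 1)) F) *ᵥ h4_ext c, ?_, ?_⟩
  · intro a ha
    rw [← mulVec_smul] at ha
    have h1 := h4_mulVec_injective g _ _ ha
    apply hc0
    funext i
    have h2 := congrFun h1 i.succ
    simp only [h4_ext_succ, Pi.smul_apply, h4_e0, smul_eq_mul] at h2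
    rw [h2, Pi.single_eq_of_ne (Fin.succ_ne_zero i), mul_zero]
    rfl
  · intro φ h
    rw [h4_key, (ρ g).injective.eq_iff, hc, dotProduct_mulVec, ← h4_ext_dot,
      dotProduct_comm (h4_ext c)]

/-- Lemma B from Lemma A (`hPA`) and the generation of `SL_n(F)` by transvections. -/
theorem h4_types_of [Fintype F] (hk : 2 ≤ k) [Fintype Ω]
    (ρ : SpecialLinearGroup (Fin (k + 1)) F →* Equiv.Perm Ω) (htr : ∀ ω ω' : Ω, ∃ g, ρ g ω = ω')
    (h2 : 2 ≤ Fintype.card Ω)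
    (hd : Fintype.card Ω < (Fintype.card F ^ (k + 1) - 1) / (Fintype.card F - 1))
    (hPA : ∀ (inst : AddAction (Fin k → F) Ω),
      (∀ u x : Fin k → F, x ⬝ᵥ u = 0 → ∃ γ : Equiv.Perm Ω,
        ∀ (y : Fin k → F) (ω : Ω), γ (y +ᵥ ω) = (y + (x ⬝ᵥ y) • u) +ᵥ γ ω) →
      (∃ (y : Fin k → F) (ω : Ω), y +ᵥ ω ≠ ω) →
      Fintype.card Ω < Fintype.card F ^ k + (Fintype.card F ^ k - 1) / (Fintype.card F - 1) →
      (∃ ω₀ : Ω, (∀ y : Fin k → F, y +ᵥ ω₀ = ω₀ → y = 0) ∧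
          ∀ ω : Ω, (∃ y : Fin k → F, y +ᵥ ω₀ = ω) ∨ ∀ y : Fin k → F, y +ᵥ ω = ω) ∨
      (∀ ω : Ω, ∃ c : Fin k → F, c ≠ 0 ∧ ∀ y : Fin k → F, y +ᵥ ω = ω ↔ c ⬝ᵥ y = 0)) :
    (∀ e : Fin (k + 1) → F, e ≠ 0 → h9_TypeI ρ e) ∨
      (∀ e : Fin (k + 1) → F, e ≠ 0 → h9_TypeII ρ e) := by
  have hq : 1 < Fintype.card F := Fintype.one_lt_card
  have he0 : h4_e0 F k ≠ 0 := by
    intro h
    have := congrFun h 0
    simp [h4_e0] at this
  -- the symmetry hypothesis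
  have hsym : ∀ u x : Fin k → F, x ⬝ᵥ u = 0 → ∃ γ : Equiv.Perm Ω,
      ∀ (y : Fin k → F) (ω : Ω), γ (h4_tau ρ y ω) = h4_tau ρ (y + (x ⬝ᵥ y) • u) (γ ω) := by
    intro u x hux
    refine ⟨ρ (h4_gam (h8_tv u x hux)), ?_⟩
    intro y ω
    unfold h4_tau
    rw [← Equiv.Perm.mul_apply, ← map_mul, h4_gam_conj, map_mul, Equiv.Perm.mul_apply]
    have h1 : ((h8_tv u x hux : SpecialLinearGroup (Fin k) F) : Matrix (Fin k) (Fin k) F) *ᵥ y
        = y + (x ⬝ᵥ y) • u := by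
      rw [h8_tv_coe]
      unfold h8_tvM
      rw [add_mulVec, one_mulVec, vecMulVec_mulVec]
      funext i
      simp [mul_comm]
    rw [h8_tv_congr _ _ _ _ (congrArg h4_ext h1)]
  -- non-triviality
  have hnt : ∃ (y : Fin k → F) (ω : Ω), h4_tau ρ y ω ≠ ω := by
    by_contra hcon
    push Not at hcon
    have hker : ρ.ker = ⊤ := by
      apply h8_tv_gen (by omega)
      intro e φ hd' he hφ
      obtain ⟨g, hg⟩ := h4_exists_sl (by omega) (h4_e0 F k) e he0 he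
      subst hg
      rw [MonoidHom.mem_ker]
      ext ω
      obtain ⟨ω₁, rfl⟩ : ∃ ω₁, ρ g ω₁ = ω := ⟨(ρ g).symm ω, (ρ g).apply_symm_apply ω⟩
      rw [h4_key, hcon]
      rfl
    obtain ⟨a, b, hab⟩ := Fintype.exists_pair_of_one_lt_card (by omega : 1 < Fintype.card Ω)
    obtain ⟨g, hg⟩ := htr a b
    have : ρ g = 1 := by
      rw [← MonoidHom.mem_ker, hker]
      exact Subgroup.mem_top g
    rw [this] at hg
    exact hab hg
  -- the arithmetic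
  have hd' : Fintype.card Ω <
      Fintype.card F ^ k + (Fintype.card F ^ k - 1) / (Fintype.card F - 1) := by
    have e1 := Nat.geomSum_eq hq (k + 1)
    have e2 := Nat.geomSum_eq hq k
    rw [← e1, Finset.sum_range_succ] at hd
    rw [← e2]
    omega
  rcases hPA (h4_addAction ρ) hsym hnt hd' with hI | hII
  · left
    intro e he
    exact h4_typeI_of (by omega) ρ hI e he
  · right
    intro e he
    exact h4_typeII_of (by omega) ρ hII e he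

/-- Lemma B for `n ≥ 3`, from Lemma A as a hypothesis. -/
theorem h4_types_of_n [Fintype F] {n : ℕ} (hn : 3 ≤ n) [Fintype Ω]
    (ρ : SpecialLinearGroup (Fin n) F →* Equiv.Perm Ω) (htr : ∀ ω ω' : Ω, ∃ g, ρ g ω = ω')
    (h2 : 2 ≤ Fintype.card Ω)
    (hd : Fintype.card Ω < (Fintype.card F ^ n - 1) / (Fintype.card F - 1))
    (hPA : ∀ (k : ℕ), 2 ≤ k → ∀ (inst : AddAction (Fin k → F) Ω),
      (∀ u x : Fin k → F, x ⬝ᵥ u = 0 → ∃ γ : Equiv.Perm Ω,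
        ∀ (y : Fin k → F) (ω : Ω), γ (y +ᵥ ω) = (y + (x ⬝ᵥ y) • u) +ᵥ γ ω) →
      (∃ (y : Fin k → F) (ω : Ω), y +ᵥ ω ≠ ω) →
      Fintype.card Ω < Fintype.card F ^ k + (Fintype.card F ^ k - 1) / (Fintype.card F - 1) →
      (∃ ω₀ : Ω, (∀ y : Fin k → F, y +ᵥ ω₀ = ω₀ → y = 0) ∧
          ∀ ω : Ω, (∃ y : Fin k → F, y +ᵥ ω₀ = ω) ∨ ∀ y : Fin k → F, y +ᵥ ω = ω) ∨
      (∀ ω : Ω, ∃ c : Fin k → F, c ≠ 0 ∧ ∀ y : Fin k → F, y +ᵥ ω = ω ↔ c ⬝ᵥ y = 0)) :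
    (∀ e : Fin n → F, e ≠ 0 → h9_TypeI ρ e) ∨ (∀ e : Fin n → F, e ≠ 0 → h9_TypeII ρ e) := by
  obtain ⟨k, rfl⟩ : ∃ k, n = k + 1 := ⟨n - 1, by omega⟩
  exact h4_types_of (by omega) ρ htr h2 hd (hPA k (by omega))

end Cfsg.Agent.MinIdx
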