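import Mathlib

/-!
# S2140 / MinIdx piece PA, part 1 (helper9): additive characters of `F^ι` and the dual of a subgroup

`X = ι → F` (F a finite field).  For an additive subgroup `B` of `X` put
`dual ψ B = {c | ∀ x ∈ B, ψ (c ⬝ᵥ x) = 1}`.  Then `|dual ψ B| * |B| = |F|^k` for a non-trivial `ψ`.
-/

set_option autoImplicit false

namespace Cfsg.Agent.MinIdx

open Matrix Finset

variable {F : Type*} [Field F] [Fintype F] [DecidableEq F] {ι : Type*} [Fintype ι] [DecidableEq ι]

/-- a non-trivial additive character of a finite field. -/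
theorem h9_exists_char : ∃ ψ : AddChar F ℂ, ψ ≠ 1 := by
  obtain ⟨ψ, hψ⟩ := (AddChar.exists_apply_ne_zero (α := F) (a := (1 : F))).mpr one_ne_zero
  refine ⟨ψ, ?_⟩
  intro h
  apply hψ
  rw [h, AddChar.one_apply]

/-- a non-trivial character takes a value `≠ 1`. -/
theorem h9_char_exists_ne {ψ : AddChar F ℂ} (hψ : ψ ≠ 1) : ∃ t : F, ψ t ≠ 1 := by
  by_contra h
  push Not at h
  apply hψ
  ext t
  rw [h t, AddChar.one_apply]

/-- the character `c ↦ ψ (c ⬝ᵥ x)` of `F^ι`. -/
noncomputable def h9_chr (ψ : AddChar F ℂ) (x : ι → F) : AddChar (ι → F) ℂ :=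
  ψ.compAddMonoidHom
    { toFun := fun c => c ⬝ᵥ x
      map_zero' := by simp
      map_add' := by intro a b; simp [add_dotProduct] }

@[simp] theorem h9_chr_apply (ψ : AddChar F ℂ) (x c : ι → F) :
    h9_chr ψ x c = ψ (c ⬝ᵥ x) := rfl

theorem h9_chr_ne_one {ψ : AddChar F ℂ} (hψ : ψ ≠ 1) {x : ι → F} (hx : x ≠ 0) :
    h9_chr ψ x ≠ 1 := by
  obtain ⟨t, ht⟩ := h9_char_exists_ne hψ
  have : ∃ i, x i ≠ 0 := by
    by_contra h
    push Not at h
    exact hx (funext h)
  obtain ⟨i, hi⟩ := this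
  intro h
  apply ht
  have h1 := congrArg (fun χ : AddChar (ι → F) ℂ => χ (Pi.single i (t / x i))) h
  simp only [h9_chr_apply, AddChar.one_apply, single_dotProduct] at h1
  rwa [div_mul_cancel₀ t hi] at h1

/-- orthogonality: `∑_c ψ (c ⬝ᵥ x) = |F|^k [x = 0]`. -/
theorem h9_sum_chr {ψ : AddChar F ℂ} (hψ : ψ ≠ 1) (x : ι → F) :
    ∑ c : ι → F, ψ (c ⬝ᵥ x) = if x = 0 then ((Fintype.card F : ℂ) ^ Fintype.card ι) else 0 := by
  split_ifs with h
  · subst h
    simp
  · have := AddChar.sum_eq_zero_of_ne_one (h9_chr_ne_one hψ h)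
    simpa using this

/-- the dual of a subgroup. -/
noncomputable def h9_dual (ψ : AddChar F ℂ) (B : AddSubgroup (ι → F)) : Finset (ι → F) :=
  by classical exact univ.filter fun c => ∀ x ∈ B, ψ (c ⬝ᵥ x) = 1

theorem h9_mem_dual {ψ : AddChar F ℂ} {B : AddSubgroup (ι → F)} {c : ι → F} :
    c ∈ h9_dual ψ B ↔ ∀ x ∈ B, ψ (c ⬝ᵥ x) = 1 := by
  classical
  simp [h9_dual]

theorem h9_zero_mem_dual (ψ : AddChar F ℂ) (B : AddSubgroup (ι → F)) : 0 ∈ h9_dual ψ B := by
  rw [h9_mem_dual]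
  intro x _
  simp

theorem h9_add_mem_dual {ψ : AddChar F ℂ} {B : AddSubgroup (ι → F)} {c c' : ι → F}
    (hc : c ∈ h9_dual ψ B) (hc' : c' ∈ h9_dual ψ B) : c + c' ∈ h9_dual ψ B := by
  rw [h9_mem_dual] at *
  intro x hx
  rw [add_dotProduct, AddChar.map_add_eq_mul, hc x hx, hc' x hx, mul_one]

theorem h9_neg_mem_dual {ψ : AddChar F ℂ} {B : AddSubgroup (ι → F)} {c : ι → F}
    (hc : c ∈ h9_dual ψ B) : -c ∈ h9_dual ψ B := by
  rw [h9_mem_dual] at *
  intro x hx
  have := hc (-x) (B.neg_mem hx)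
  rwa [neg_dotProduct, ← dotProduct_neg]

theorem h9_sub_mem_dual {ψ : AddChar F ℂ} {B : AddSubgroup (ι → F)} {c c' : ι → F}
    (hc : c ∈ h9_dual ψ B) (hc' : c' ∈ h9_dual ψ B) : c - c' ∈ h9_dual ψ B := by
  rw [sub_eq_add_neg]
  exact h9_add_mem_dual hc (h9_neg_mem_dual hc')

/-- **duality count**: `|dual B| * |B| = |F|^k`. -/
theorem h9_card_dual_mul {ψ : AddChar F ℂ} (hψ : ψ ≠ 1) (B : AddSubgroup (ι → F)) :
    (h9_dual ψ B).card * Nat.card B = Fintype.card F ^ Fintype.card ι := by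
  classical
  haveI : Fintype B := Fintype.ofFinite B
  -- double sum
  have h1 : ∑ c : ι → F, ∑ x : B, ψ (c ⬝ᵥ (x : ι → F)) =
      ∑ c : ι → F, if c ∈ h9_dual ψ B then (Fintype.card B : ℂ) else 0 := by
    apply Finset.sum_congr rfl
    intro c _
    -- restrict the character to `B`
    let χ : AddChar B ℂ := (h9_chr ψ c).compAddMonoidHom
      { toFun := fun x => (x : ι → F)
        map_zero' := rfl
        map_add' := fun _ _ => rfl }
    have hχ : ∀ x : B, χ x = ψ (c ⬝ᵥ (x : ι → F)) := by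
      intro x
      show ψ ((x : ι → F) ⬝ᵥ c) = _
      rw [dotProduct_comm]
    split_ifs with hc
    · rw [h9_mem_dual] at hc
      rw [Finset.sum_congr rfl (fun x _ => hc x.1 x.2)]
      simp
    · have hne : χ ≠ 1 := by
        intro h
        apply hc
        rw [h9_mem_dual]
        intro x hx
        have := congrArg (fun χ' : AddChar B ℂ => χ' ⟨x, hx⟩) h
        simp only [AddChar.one_apply] at this
        rw [← this, hχ]
      have := AddChar.sum_eq_zero_of_ne_one hne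
      rw [← this]
      apply Finset.sum_congr rfl
      intro x _
      rw [hχ]
  have h2 : ∑ c : ι → F, ∑ x : B, ψ (c ⬝ᵥ (x : ι → F)) = (Fintype.card F : ℂ) ^ Fintype.card ι := by
    rw [Finset.sum_comm]
    have h3 : ∀ x : B, ∑ c : ι → F, ψ (c ⬝ᵥ (x : ι → F)) =
        if (x : ι → F) = 0 then ((Fintype.card F : ℂ) ^ Fintype.card ι) else 0 :=
      fun x => h9_sum_chr hψ (x : ι → F)
    rw [Finset.sum_congr rfl (fun x _ => h3 x)]
    rw [Finset.sum_ite, Finset.sum_const_zero, add_zero, Finset.sum_const]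
    have : (univ.filter fun x : B => (x : ι → F) = 0) = {0} := by
      ext x
      simp only [Finset.mem_filter, Finset.mem_univ, true_and, Finset.mem_singleton]
      constructor
      · intro h; exact Subtype.ext h
      · intro h; rw [h]; rfl
    rw [this, Finset.card_singleton, one_smul]
  rw [h1, Finset.sum_ite_mem, Finset.univ_inter, Finset.sum_const, nsmul_eq_mul] at h2
  have h3 : (((h9_dual ψ B).card * Nat.card B : ℕ) : ℂ) = ((Fintype.card F ^ Fintype.card ι : ℕ) : ℂ) := by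
    rw [Nat.card_eq_fintype_card]
    push_cast
    exact h2
  exact_mod_cast h3

end Cfsg.Agent.MinIdx
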