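import Mathlib
import Cfsg.Agent.MinIdx.H9_CountA

/-!
# S2140 / MinIdx piece PA, part 2 (helper9): orbit counting for an action of `F^ι`

`X = ι → F` acts on a finite set `Ω`.  `h9_D ι ψ ω` is the dual of the stabiliser of `ω`;
`h9_M ψ c = ∑_{ω : c ∈ D ω} |B ω|` (`= |F|^k ·` the number of orbits `O` with `c ∈ D_O`).
-/

set_option autoImplicit false

namespace Cfsg.Agent.MinIdx

open Matrix Finset

variable {F : Type*} [Field F] [Fintype F] [DecidableEq F] {ι : Type*} [Fintype ι] [DecidableEq ι]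
variable {Ω : Type*} [Fintype Ω] [DecidableEq Ω] [AddAction (ι → F) Ω]

/-- the stabiliser. -/
abbrev h9_B (ι : Type*) (F : Type*) [Field F] {Ω : Type*} [AddAction (ι → F) Ω] (ω : Ω) :
    AddSubgroup (ι → F) := AddAction.stabilizer (ι → F) ω

/-- the dual of the stabiliser. -/
noncomputable def h9_D (ι : Type*) [Fintype ι] [DecidableEq ι] {Ω : Type*} [AddAction (ι → F) Ω] (ψ : AddChar F ℂ) (ω : Ω) :
    Finset (ι → F) :=
  h9_dual ψ (h9_B ι F ω)

theorem h9_mem_D {ψ : AddChar F ℂ} {ω : Ω} {c : ι → F} :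
    c ∈ h9_D ι ψ ω ↔ ∀ y : ι → F, y +ᵥ ω = ω → ψ (c ⬝ᵥ y) = 1 := by
  unfold h9_D
  rw [h9_mem_dual]
  constructor
  · intro h y hy
    exact h y (AddAction.mem_stabilizer_iff.mpr hy)
  · intro h y hy
    exact h y (AddAction.mem_stabilizer_iff.mp hy)

/-- stabilisers are constant on orbits (the group is abelian). -/
theorem h9_B_vadd (y : ι → F) (ω : Ω) : h9_B ι F (y +ᵥ ω) = h9_B ι F ω := by
  ext x
  simp only [AddAction.mem_stabilizer_iff]
  rw [vadd_vadd, add_comm, ← vadd_vadd]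
  constructor
  · intro h
    exact (vadd_left_cancel_iff y).mp h
  · intro h
    rw [h]

theorem h9_D_vadd (ψ : AddChar F ℂ) (y : ι → F) (ω : Ω) :
    h9_D ι ψ (y +ᵥ ω) = h9_D ι ψ ω := by
  unfold h9_D
  rw [h9_B_vadd]

/-- the orbit as a finset. -/
noncomputable def h9_orb (ι : Type*) (F : Type*) [Field F] {Ω : Type*} [Fintype Ω]
    [AddAction (ι → F) Ω] (ω : Ω) : Finset Ω :=
  by classical exact univ.filter fun ω' : Ω => ω' ∈ AddAction.orbit (ι → F) ω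

theorem h9_mem_orb {ω ω' : Ω} : ω' ∈ h9_orb ι F ω ↔ ∃ y : ι → F, y +ᵥ ω = ω' := by
  classical
  simp [h9_orb, AddAction.mem_orbit_iff]

/-- orbit–stabiliser. -/
theorem h9_card_orbit_mul (ω : Ω) :
    (h9_orb ι F ω).card * Nat.card (h9_B ι F ω) = Fintype.card F ^ Fintype.card ι := by
  classical
  haveI : Fintype (AddAction.orbit (ι → F) ω) := Fintype.ofFinite _
  haveI : Fintype (h9_B ι F ω) := Fintype.ofFinite _
  have h := AddAction.card_orbit_mul_card_stabilizer_eq_card_addGroup (ι → F) ω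
  rw [Fintype.card_fun] at h
  rw [← h, Nat.card_eq_fintype_card]
  congr 1
  rw [← Fintype.card_coe]
  apply Fintype.card_congr
  exact
    { toFun := fun x => ⟨x.1, by
        obtain ⟨y, hy⟩ := h9_mem_orb.mp x.2
        exact AddAction.mem_orbit_iff.mpr ⟨y, hy⟩⟩
      invFun := fun x => ⟨x.1, by
        obtain ⟨y, hy⟩ := AddAction.mem_orbit_iff.mp x.2
        exact h9_mem_orb.mpr ⟨y, hy⟩⟩
      left_inv := fun _ => rfl
      right_inv := fun _ => rfl }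

/-- `|D ω| * |B ω| = q^k`. -/
theorem h9_card_D_mul {ψ : AddChar F ℂ} (hψ : ψ ≠ 1) (ω : Ω) :
    (h9_D ι ψ ω).card * Nat.card (h9_B ι F ω) = Fintype.card F ^ Fintype.card ι :=
  h9_card_dual_mul hψ _

theorem h9_card_B_pos (ω : Ω) : 0 < Nat.card (h9_B ι F ω) := Nat.card_pos

/-- `|D ω| = |orbit ω|`. -/
theorem h9_card_D_eq {ψ : AddChar F ℂ} (hψ : ψ ≠ 1) (ω : Ω) :
    (h9_D ι ψ ω).card = (h9_orb ι F ω).card := by
  have h1 := h9_card_D_mul (ι := ι) hψ ω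
  have h2 := h9_card_orbit_mul (ι := ι) (F := F) ω
  have h3 := h9_card_B_pos (ι := ι) (F := F) ω
  exact Nat.eq_of_mul_eq_mul_right h3 (h1.trans h2.symm)

/-- the weighted multiplicity. -/
noncomputable def h9_M (ι : Type*) [Fintype ι] [DecidableEq ι] (ψ : AddChar F ℂ) (Ω : Type*) [Fintype Ω]
    [AddAction (ι → F) Ω] (c : ι → F) : ℕ :=
  ∑ ω : Ω, if c ∈ h9_D ι ψ ω then Nat.card (h9_B ι F ω) else 0

/-- (A1) `∑_c M c = |Ω| q^k`. -/
theorem h9_sum_M {ψ : AddChar F ℂ} (hψ : ψ ≠ 1) :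
    ∑ c : ι → F, h9_M ι ψ Ω c = Fintype.card Ω * Fintype.card F ^ Fintype.card ι := by
  unfold h9_M
  rw [Finset.sum_comm]
  have : ∀ ω : Ω, (∑ c : ι → F, if c ∈ h9_D ι ψ ω then Nat.card (h9_B ι F ω) else 0)
      = Fintype.card F ^ Fintype.card ι := by
    intro ω
    rw [Finset.sum_ite_mem, Finset.univ_inter, Finset.sum_const, smul_eq_mul]
    exact h9_card_D_mul hψ ω
  rw [Finset.sum_congr rfl (fun ω _ => this ω), Finset.sum_const, smul_eq_mul, Finset.card_univ]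

/-- summing `|B|` over an orbit gives `q^k`. -/
theorem h9_sum_orbit (ω : Ω) :
    ∑ ω' ∈ h9_orb ι F ω, Nat.card (h9_B ι F ω') = Fintype.card F ^ Fintype.card ι := by
  have : ∀ ω' ∈ h9_orb ι F ω, Nat.card (h9_B ι F ω') = Nat.card (h9_B ι F ω) := by
    intro ω' h
    obtain ⟨y, rfl⟩ := h9_mem_orb.mp h
    rw [h9_B_vadd]
  rw [Finset.sum_congr rfl this, Finset.sum_const, smul_eq_mul]
  exact h9_card_orbit_mul ω

theorem h9_M_eq_sum_filter (ψ : AddChar F ℂ) (c : ι → F) :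
    h9_M ι ψ Ω c = ∑ ω ∈ univ.filter (fun ω : Ω => c ∈ h9_D ι ψ ω), Nat.card (h9_B ι F ω) := by
  unfold h9_M
  rw [Finset.sum_filter]

/-- if `c ∈ D ω` then `M c ≥ q^k`. -/
theorem h9_M_ge {ψ : AddChar F ℂ} {c : ι → F} {ω : Ω} (hc : c ∈ h9_D ι ψ ω) :
    Fintype.card F ^ Fintype.card ι ≤ h9_M ι ψ Ω c := by
  rw [← h9_sum_orbit (ι := ι) (F := F) ω, h9_M_eq_sum_filter]
  apply Finset.sum_le_sum_of_subset
  intro ω' h
  obtain ⟨y, rfl⟩ := h9_mem_orb.mp h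
  apply Finset.mem_filter.mpr ⟨Finset.mem_univ _, ?_⟩
  rw [h9_D_vadd]
  exact hc

/-- if `c` lies in the duals of two different orbits then `M c ≥ 2 q^k`. -/
theorem h9_M_ge_two {ψ : AddChar F ℂ} {c : ι → F} {ω ω' : Ω} (hc : c ∈ h9_D ι ψ ω)
    (hc' : c ∈ h9_D ι ψ ω') (hne : ω' ∉ h9_orb ι F ω) :
    2 * Fintype.card F ^ Fintype.card ι ≤ h9_M ι ψ Ω c := by
  rw [two_mul]
  nth_rewrite 1 [← h9_sum_orbit (ι := ι) (F := F) ω]
  rw [← h9_sum_orbit (ι := ι) (F := F) ω', h9_M_eq_sum_filter, ← Finset.sum_union]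
  · apply Finset.sum_le_sum_of_subset
    intro ω'' h
    apply Finset.mem_filter.mpr ⟨Finset.mem_univ _, ?_⟩
    rcases Finset.mem_union.mp h with h | h
    · obtain ⟨y, rfl⟩ := h9_mem_orb.mp h
      rw [h9_D_vadd]; exact hc
    · obtain ⟨y, rfl⟩ := h9_mem_orb.mp h
      rw [h9_D_vadd]; exact hc'
  · rw [Finset.disjoint_left]
    intro ω'' h1 h2
    apply hne
    obtain ⟨y, hy⟩ := h9_mem_orb.mp h1
    obtain ⟨y', hy'⟩ := h9_mem_orb.mp h2
    rw [h9_mem_orb]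
    refine ⟨-y' + y, ?_⟩
    rw [← vadd_vadd, hy, ← hy', vadd_vadd, neg_add_cancel, zero_vadd]

/-- if `M c < 2 q^k` then `c` lies in the dual of at most one orbit, and then `M c = q^k`. -/
theorem h9_M_eq {ψ : AddChar F ℂ} {c : ι → F} {ω : Ω} (hc : c ∈ h9_D ι ψ ω)
    (h2 : h9_M ι ψ Ω c < 2 * Fintype.card F ^ Fintype.card ι) : h9_M ι ψ Ω c = Fintype.card F ^ Fintype.card ι := by
  rw [← h9_sum_orbit (ι := ι) (F := F) ω, h9_M_eq_sum_filter]
  congr 1
  ext ω'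
  simp only [Finset.mem_filter, Finset.mem_univ, true_and]
  constructor
  · intro h
    by_contra hne
    have := h9_M_ge_two hc h hne
    omega
  · intro h
    obtain ⟨y, rfl⟩ := h9_mem_orb.mp h
    rw [h9_D_vadd]; exact hc

end Cfsg.Agent.MinIdx
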