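import Mathlib
import Cfsg.Agent.MinIdx.H9_CountB

/-!
# S2140 / MinIdx piece PA, part 3 (helper9): symmetry of the multiplicities

`h9_M_symm`: a permutation `γ` of `Ω` intertwining the action of `X = ι → F` with an automorphism `g`
of `X` moves the multiplicity function: `M c' = M c` whenever `ψ (c' ⬝ᵥ g x) = ψ (c ⬝ᵥ x)` for all `x`.
`h9_trivial_of_M`: if `M c = 0` for every `c ≠ 0` then `X` acts trivially.
-/

set_option autoImplicit false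

namespace Cfsg.Agent.MinIdx

open Matrix Finset

variable {F : Type*} [Field F] [Fintype F] [DecidableEq F] {ι : Type*} [Fintype ι] [DecidableEq ι]
variable {Ω : Type*} [Fintype Ω] [DecidableEq Ω] [AddAction (ι → F) Ω]

/-- transport of stabilisers. -/
theorem h9_stab_symm (g : (ι → F) ≃+ (ι → F)) (γ : Equiv.Perm Ω)
    (hγ : ∀ (x : ι → F) (ω : Ω), γ (x +ᵥ ω) = g x +ᵥ γ ω) (ω : Ω) (x : ι → F) :
    g x +ᵥ γ ω = γ ω ↔ x +ᵥ ω = ω := by
  rw [← hγ]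
  exact γ.injective.eq_iff

/-- `|B (γ ω)| = |B ω|`. -/
theorem h9_card_B_symm (g : (ι → F) ≃+ (ι → F)) (γ : Equiv.Perm Ω)
    (hγ : ∀ (x : ι → F) (ω : Ω), γ (x +ᵥ ω) = g x +ᵥ γ ω) (ω : Ω) :
    Nat.card (h9_B ι F (γ ω)) = Nat.card (h9_B ι F ω) := by
  symm
  apply Nat.card_congr
  exact
    { toFun := fun x => ⟨g x.1, by
        rw [AddAction.mem_stabilizer_iff, h9_stab_symm g γ hγ]
        exact AddAction.mem_stabilizer_iff.mp x.2⟩
      invFun := fun y => ⟨g.symm y.1, by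
        rw [AddAction.mem_stabilizer_iff, ← h9_stab_symm g γ hγ, AddEquiv.apply_symm_apply]
        exact AddAction.mem_stabilizer_iff.mp y.2⟩
      left_inv := fun x => Subtype.ext (g.symm_apply_apply x.1)
      right_inv := fun y => Subtype.ext (g.apply_symm_apply y.1) }

/-- transport of the duals. -/
theorem h9_mem_D_symm {ψ : AddChar F ℂ} (g : (ι → F) ≃+ (ι → F)) (γ : Equiv.Perm Ω)
    (hγ : ∀ (x : ι → F) (ω : Ω), γ (x +ᵥ ω) = g x +ᵥ γ ω) (c c' : ι → F)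
    (hc : ∀ x : ι → F, ψ (c' ⬝ᵥ g x) = ψ (c ⬝ᵥ x)) (ω : Ω) :
    c' ∈ h9_D ι ψ (γ ω) ↔ c ∈ h9_D ι ψ ω := by
  rw [h9_mem_D, h9_mem_D]
  constructor
  · intro h y hy
    rw [← hc]
    exact h (g y) ((h9_stab_symm g γ hγ ω y).mpr hy)
  · intro h y hy
    have h1 : g (g.symm y) +ᵥ γ ω = γ ω := by rwa [AddEquiv.apply_symm_apply]
    have h2 := h (g.symm y) ((h9_stab_symm g γ hγ ω _).mp h1)
    rwa [← hc, AddEquiv.apply_symm_apply] at h2

/-- **(A2')** symmetry of the multiplicities. -/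
theorem h9_M_symm {ψ : AddChar F ℂ} (g : (ι → F) ≃+ (ι → F)) (γ : Equiv.Perm Ω)
    (hγ : ∀ (x : ι → F) (ω : Ω), γ (x +ᵥ ω) = g x +ᵥ γ ω) (c c' : ι → F)
    (hc : ∀ x : ι → F, ψ (c' ⬝ᵥ g x) = ψ (c ⬝ᵥ x)) :
    h9_M ι ψ Ω c' = h9_M ι ψ Ω c := by
  unfold h9_M
  rw [← Equiv.sum_comp γ]
  apply Finset.sum_congr rfl
  intro ω _
  rw [h9_card_B_symm g γ hγ ω]
  by_cases h : c ∈ h9_D ι ψ ω
  · rw [if_pos h, if_pos ((h9_mem_D_symm g γ hγ c c' hc ω).mpr h)]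
  · rw [if_neg h, if_neg (fun h' => h ((h9_mem_D_symm g γ hγ c c' hc ω).mp h'))]

/-- if `M c ≠ 0` then `c` lies in some dual. -/
theorem h9_exists_of_M_ne_zero {ψ : AddChar F ℂ} {c : ι → F} (h : h9_M ι ψ Ω c ≠ 0) :
    ∃ ω : Ω, c ∈ h9_D ι ψ ω := by
  by_contra hcon
  push Not at hcon
  apply h
  unfold h9_M
  apply Finset.sum_eq_zero
  intro ω _
  rw [if_neg (hcon ω)]

theorem h9_M_ne_zero_ge {ψ : AddChar F ℂ} {c : ι → F} (h : h9_M ι ψ Ω c ≠ 0) :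
    Fintype.card F ^ Fintype.card ι ≤ h9_M ι ψ Ω c := by
  obtain ⟨ω, hω⟩ := h9_exists_of_M_ne_zero h
  exact h9_M_ge hω

theorem h9_zero_mem_D (ψ : AddChar F ℂ) (ω : Ω) : (0 : ι → F) ∈ h9_D ι ψ ω :=
  h9_zero_mem_dual ψ _

theorem h9_M_zero_ge [Nonempty Ω] (ψ : AddChar F ℂ) :
    Fintype.card F ^ Fintype.card ι ≤ h9_M ι ψ Ω (0 : ι → F) :=
  h9_M_ge (h9_zero_mem_D ψ (Classical.arbitrary Ω))

/-- if `c ∈ D ω` then `M c ≠ 0`. -/
theorem h9_M_ne_zero {ψ : AddChar F ℂ} {c : ι → F} {ω : Ω} (hc : c ∈ h9_D ι ψ ω) :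
    h9_M ι ψ Ω c ≠ 0 := by
  have h1 := h9_M_ge hc
  have h2 : 0 < Fintype.card F ^ Fintype.card ι := pow_pos Fintype.card_pos _
  omega

/-- **(A0)** if no non-zero character occurs, the action is trivial. -/
theorem h9_trivial_of_M {ψ : AddChar F ℂ} (hψ : ψ ≠ 1)
    (h : ∀ c : ι → F, c ≠ 0 → h9_M ι ψ Ω c = 0) (x : ι → F) (ω : Ω) : x +ᵥ ω = ω := by
  have hD : h9_D ι ψ ω = {0} := by
    ext c
    rw [Finset.mem_singleton]
    constructor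
    · intro hc
      by_contra hne
      exact h9_M_ne_zero hc (h c hne)
    · intro hc
      rw [hc]
      exact h9_zero_mem_D ψ ω
  have h1 := h9_card_D_eq (ι := ι) hψ ω
  rw [hD, Finset.card_singleton] at h1
  have h2 : x +ᵥ ω ∈ h9_orb ι F ω := h9_mem_orb.mpr ⟨x, rfl⟩
  have h3 : ω ∈ h9_orb ι F ω := h9_mem_orb.mpr ⟨0, zero_vadd _ _⟩
  exact Finset.card_le_one.mp (le_of_eq h1.symm) _ h2 _ h3

end Cfsg.Agent.MinIdx
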