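import Mathlib
import Cfsg.Agent.MinIdx.H9_CountSym
import Cfsg.Agent.MinIdx.H8_L3

/-!
# S2140 / MinIdx piece PA, part 4 (helper9): Lemma A (the orbit dichotomy)
-/

set_option autoImplicit false

namespace Cfsg.Agent.MinIdx

open Matrix Finset

variable {F : Type*} [Field F] [Fintype F] [DecidableEq F] {k : ℕ}
variable {Ω : Type*} [Fintype Ω] [DecidableEq Ω] [AddAction (Fin k → F) Ω]

/-- the shear `y ↦ y + (x ⬝ᵥ y) • u` (`x ⬝ᵥ u = 0`) as an additive automorphism. -/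
def h9_shear (u x : Fin k → F) (h : x ⬝ᵥ u = 0) : (Fin k → F) ≃+ (Fin k → F) where
  toFun y := y + (x ⬝ᵥ y) • u
  invFun y := y - (x ⬝ᵥ y) • u
  left_inv y := by
    show y + (x ⬝ᵥ y) • u - (x ⬝ᵥ (y + (x ⬝ᵥ y) • u)) • u = y
    rw [dotProduct_add, dotProduct_smul, h, smul_zero, add_zero, add_sub_cancel_right]
  right_inv y := by
    show y - (x ⬝ᵥ y) • u + (x ⬝ᵥ (y - (x ⬝ᵥ y) • u)) • u = y
    rw [dotProduct_sub, dotProduct_smul, h, smul_zero, sub_zero, sub_add_cancel]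
  map_add' a b := by
    show a + b + (x ⬝ᵥ (a + b)) • u = a + (x ⬝ᵥ a) • u + (b + (x ⬝ᵥ b) • u)
    rw [dotProduct_add, add_smul]
    abel

@[simp] theorem h9_shear_apply (u x : Fin k → F) (h : x ⬝ᵥ u = 0) (y : Fin k → F) :
    h9_shear u x h y = y + (x ⬝ᵥ y) • u := rfl

theorem h9_shear_dot (u x : Fin k → F) (h : x ⬝ᵥ u = 0) (c y : Fin k → F) :
    c ⬝ᵥ h9_shear u x h y = (c + (c ⬝ᵥ u) • x) ⬝ᵥ y := by
  rw [h9_shear_apply, dotProduct_add, dotProduct_smul, add_dotProduct, smul_dotProduct,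
    smul_eq_mul, smul_eq_mul, mul_comm]

section sym

variable (hsym : ∀ u x : Fin k → F, x ⬝ᵥ u = 0 → ∃ γ : Equiv.Perm Ω,
      ∀ (y : Fin k → F) (ω : Ω), γ (y +ᵥ ω) = (y + (x ⬝ᵥ y) • u) +ᵥ γ ω)

include hsym in
/-- the move lemma. -/
theorem h9_M_move (ψ : AddChar F ℂ) (u x : Fin k → F) (h : x ⬝ᵥ u = 0) (c : Fin k → F) :
    h9_M (Fin k) ψ Ω (c + (c ⬝ᵥ u) • x) = h9_M (Fin k) ψ Ω c := by
  obtain ⟨γ, hγ⟩ := hsym u x h
  symm
  apply h9_M_symm (h9_shear u x h) γ (fun y ω => hγ y ω) (c + (c ⬝ᵥ u) • x) c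
  intro y
  rw [h9_shear_dot]

include hsym in
/-- the pivot lemma. -/
theorem h9_M_pivot (ψ : AddChar F ℂ) (c x : Fin k → F) (i : Fin k) (hc : c i ≠ 0) (hx : x i = 0) :
    h9_M (Fin k) ψ Ω (c + x) = h9_M (Fin k) ψ Ω c := by
  have h1 : x ⬝ᵥ ((c i)⁻¹ • Pi.single i (1 : F)) = 0 := by
    rw [dotProduct_smul, dotProduct_single, hx, zero_mul, smul_zero]
  have h2 : c ⬝ᵥ ((c i)⁻¹ • Pi.single i (1 : F)) = 1 := by
    rw [dotProduct_smul, dotProduct_single, mul_one, smul_eq_mul, inv_mul_cancel₀ hc]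
  have := h9_M_move hsym ψ _ x h1 c
  rwa [h2, one_smul] at this

include hsym in
theorem h9_M_single (ψ : AddChar F ℂ) (c : Fin k → F) (i j : Fin k) (hc : c i ≠ 0) (hij : j ≠ i) :
    h9_M (Fin k) ψ Ω c = h9_M (Fin k) ψ Ω (Pi.single j (1 : F)) := by
  -- first step: `c₁ = c i • e_i + e_j`
  have h1 := h9_M_pivot hsym ψ c
    (fun l => if l = i then 0 else (Pi.single j (1 : F) : Fin k → F) l - c l) i hc (by simp)
  have h2 := h9_M_pivot hsym ψ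
    (c + fun l => if l = i then 0 else (Pi.single j (1 : F) : Fin k → F) l - c l)
    (-(c i • Pi.single i (1 : F))) j (by simp [hij]) (by simp [hij])
  rw [← h1, ← h2]
  congr 1
  funext l
  by_cases hl : l = i
  · subst hl
    simp [Ne.symm hij]
  · simp [hl]

include hsym in
/-- constancy of `M` on the non-zero vectors. -/
theorem h9_M_const (hk : 2 ≤ k) (ψ : AddChar F ℂ) (c c' : Fin k → F) (hc : c ≠ 0) (hc' : c' ≠ 0) :
    h9_M (Fin k) ψ Ω c = h9_M (Fin k) ψ Ω c' := by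
  obtain ⟨k', rfl⟩ : ∃ k', k = k' + 2 := ⟨k - 2, by omega⟩
  have key : ∀ c : Fin (k' + 2) → F, c ≠ 0 →
      h9_M (Fin (k' + 2)) ψ Ω c = h9_M (Fin (k' + 2)) ψ Ω (Pi.single 0 (1 : F)) := by
    intro c hc
    have : ∃ i, c i ≠ 0 := by
      by_contra h
      push Not at h
      exact hc (funext h)
    obtain ⟨i, hi⟩ := this
    by_cases h0 : i = 0
    · subst h0
      have h10 : (1 : Fin (k' + 2)) ≠ 0 := by
        intro h
        have := congrArg Fin.val h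
        simp at this
      rw [h9_M_single hsym ψ c 0 1 hi h10]
      exact h9_M_single hsym ψ (Pi.single 1 (1 : F)) 1 0 (by simp) (Ne.symm h10)
    · exact h9_M_single hsym ψ c i 0 hi (Ne.symm h0)
  rw [key c hc, key c' hc']

end sym

/-! ### basic facts about `D` for `Fin k` -/

theorem h9_add_mem_D {ψ : AddChar F ℂ} {ω : Ω} {c c' : Fin k → F} (hc : c ∈ h9_D (Fin k) ψ ω)
    (hc' : c' ∈ h9_D (Fin k) ψ ω) : c + c' ∈ h9_D (Fin k) ψ ω := by
  unfold h9_D at *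
  exact h9_add_mem_dual hc hc'

theorem h9_sub_mem_D {ψ : AddChar F ℂ} {ω : Ω} {c c' : Fin k → F} (hc : c ∈ h9_D (Fin k) ψ ω)
    (hc' : c' ∈ h9_D (Fin k) ψ ω) : c - c' ∈ h9_D (Fin k) ψ ω := by
  unfold h9_D at *
  exact h9_sub_mem_dual hc hc'

/-- if the dual of the stabiliser is trivial, the point is fixed. -/
theorem h9_fixed_of_D {ψ : AddChar F ℂ} (hψ : ψ ≠ 1) {ω : Ω}
    (h : ∀ c ∈ h9_D (Fin k) ψ ω, c = 0) (x : Fin k → F) : x +ᵥ ω = ω := by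
  have hD : h9_D (Fin k) ψ ω = {0} := by
    ext c
    rw [Finset.mem_singleton]
    exact ⟨h c, fun hc => hc ▸ h9_zero_mem_D ψ ω⟩
  have h1 := h9_card_D_eq (ι := Fin k) hψ ω
  rw [hD, Finset.card_singleton] at h1
  have h2 : x +ᵥ ω ∈ h9_orb (Fin k) F ω := h9_mem_orb.mpr ⟨x, rfl⟩
  have h3 : ω ∈ h9_orb (Fin k) F ω := h9_mem_orb.mpr ⟨0, zero_vadd _ _⟩
  exact Finset.card_le_one.mp (le_of_eq h1.symm) _ h2 _ h3

theorem h9_exists_D_ne_zero {ψ : AddChar F ℂ} (hψ : ψ ≠ 1) {ω : Ω} {y : Fin k → F}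
    (hy : y +ᵥ ω ≠ ω) : ∃ c ∈ h9_D (Fin k) ψ ω, c ≠ 0 := by
  by_contra h
  push Not at h
  exact hy (h9_fixed_of_D hψ h y)

section count

variable (hsym : ∀ u x : Fin k → F, x ⬝ᵥ u = 0 → ∃ γ : Equiv.Perm Ω,
      ∀ (y : Fin k → F) (ω : Ω), γ (y +ᵥ ω) = (y + (x ⬝ᵥ y) • u) +ᵥ γ ω)

include hsym in
/-- under the bound on `|Ω|`, every non-zero character has weighted multiplicity `q^k`. -/
theorem h9_M_eq_pow (hk : 2 ≤ k) {ψ : AddChar F ℂ} (hψ : ψ ≠ 1)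
    (hnt : ∃ (y : Fin k → F) (ω : Ω), y +ᵥ ω ≠ ω)
    (hd : Fintype.card Ω < Fintype.card F ^ k + (Fintype.card F ^ k - 1) / (Fintype.card F - 1))
    (c : Fin k → F) (hc : c ≠ 0) : h9_M (Fin k) ψ Ω c = Fintype.card F ^ k := by
  obtain ⟨y, ω₁, hy⟩ := hnt
  haveI : Nonempty Ω := ⟨ω₁⟩
  obtain ⟨c₁, hc₁D, hc₁⟩ := h9_exists_D_ne_zero hψ hy
  have hge := h9_M_ge hc₁D
  rw [Fintype.card_fin] at hge
  have hconst : ∀ c : Fin k → F, c ≠ 0 → h9_M (Fin k) ψ Ω c = h9_M (Fin k) ψ Ω c₁ :=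
    fun c hc => h9_M_const hsym hk ψ c c₁ hc hc₁
  by_cases h2 : h9_M (Fin k) ψ Ω c₁ < 2 * Fintype.card F ^ k
  · have := h9_M_eq hc₁D (by rw [Fintype.card_fin]; exact h2)
    rw [Fintype.card_fin] at this
    rw [hconst c hc, this]
  · exfalso
    push Not at h2
    have hsum := h9_sum_M (ι := Fin k) (Ω := Ω) hψ
    rw [Fintype.card_fin] at hsum
    have hsplit := Finset.add_sum_erase (Finset.univ : Finset (Fin k → F))
      (fun c => h9_M (Fin k) ψ Ω c) (Finset.mem_univ (0 : Fin k → F))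
    have hrest : ∑ c ∈ (Finset.univ : Finset (Fin k → F)).erase 0, h9_M (Fin k) ψ Ω c
        = (Fintype.card F ^ k - 1) * h9_M (Fin k) ψ Ω c₁ := by
      rw [Finset.sum_congr rfl (fun c hc => hconst c (Finset.ne_of_mem_erase hc)),
        Finset.sum_const, smul_eq_mul, Finset.card_erase_of_mem (Finset.mem_univ _),
        Finset.card_univ, Fintype.card_fun, Fintype.card_fin]
    have hM0 := h9_M_zero_ge (ι := Fin k) (Ω := Ω) ψ
    rw [Fintype.card_fin] at hM0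
    rw [hrest, hsum] at hsplit
    -- arithmetic
    obtain ⟨Q', hQ'⟩ : ∃ Q', Fintype.card F ^ k = Q' + 1 :=
      ⟨Fintype.card F ^ k - 1, (Nat.sub_add_cancel (Nat.one_le_pow _ _ Fintype.card_pos)).symm⟩
    rw [hQ'] at hsplit hM0 h2 hd
    simp only [Nat.add_sub_cancel] at hsplit hd
    have hdiv : Q' / (Fintype.card F - 1) ≤ Q' := Nat.div_le_self _ _
    have h3 : (Q' + 1) * (1 + 2 * Q') ≤ Fintype.card Ω * (Q' + 1) := by
      rw [← hsplit]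
      have : Q' * (2 * (Q' + 1)) ≤ Q' * h9_M (Fin k) ψ Ω c₁ := Nat.mul_le_mul_left _ h2
      nlinarith
    have h4 : 1 + 2 * Q' ≤ Fintype.card Ω := by
      rw [mul_comm] at h3
      exact Nat.le_of_mul_le_mul_right h3 (Nat.succ_pos _)
    omega

end count

section struct

variable {ψ : AddChar F ℂ}
  (hM : ∀ c : Fin k → F, c ≠ 0 → h9_M (Fin k) ψ Ω c = Fintype.card F ^ k)

include hM in
/-- (U) a non-zero character occurs in at most one orbit. -/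
theorem h9_orb_unique {c : Fin k → F} (hc : c ≠ 0) {ω ω' : Ω} (h : c ∈ h9_D (Fin k) ψ ω)
    (h' : c ∈ h9_D (Fin k) ψ ω') : ω' ∈ h9_orb (Fin k) F ω := by
  by_contra hne
  have h1 := h9_M_ge_two h h' hne
  rw [Fintype.card_fin, hM c hc] at h1
  have : 0 < Fintype.card F ^ k := pow_pos Fintype.card_pos _
  omega

include hM in
/-- (E) every non-zero character occurs. -/
theorem h9_exists_D {c : Fin k → F} (hc : c ≠ 0) : ∃ ω : Ω, c ∈ h9_D (Fin k) ψ ω := by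
  apply h9_exists_of_M_ne_zero
  rw [hM c hc]
  exact (pow_pos Fintype.card_pos _).ne'

variable (hsym : ∀ u x : Fin k → F, x ⬝ᵥ u = 0 → ∃ γ : Equiv.Perm Ω,
      ∀ (y : Fin k → F) (ω : Ω), γ (y +ᵥ ω) = (y + (x ⬝ᵥ y) • u) +ᵥ γ ω)

include hM hsym in
/-- (S) shears fixing a non-zero element of `D ω` stabilise `D ω`. -/
theorem h9_D_shear {ω : Ω} {c₁ : Fin k → F} (hc₁ : c₁ ≠ 0) (hc₁D : c₁ ∈ h9_D (Fin k) ψ ω)
    (u x : Fin k → F) (h : x ⬝ᵥ u = 0) (hcu : c₁ ⬝ᵥ u = 0) {c' : Fin k → F}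
    (hc' : c' ∈ h9_D (Fin k) ψ ω) : c' + (c' ⬝ᵥ u) • x ∈ h9_D (Fin k) ψ ω := by
  obtain ⟨γ, hγ⟩ := hsym u x h
  have star : ∀ c' : Fin k → F,
      c' ∈ h9_D (Fin k) ψ (γ ω) ↔ c' + (c' ⬝ᵥ u) • x ∈ h9_D (Fin k) ψ ω := fun c' =>
    h9_mem_D_symm (h9_shear u x h) γ (fun y ω => hγ y ω) (c' + (c' ⬝ᵥ u) • x) c'
      (fun y => by rw [h9_shear_dot]) ω
  have h1 : c₁ ∈ h9_D (Fin k) ψ (γ ω) := by
    rw [star, hcu, zero_smul, add_zero]
    exact hc₁D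
  have h2 := h9_orb_unique hM hc₁ hc₁D h1
  obtain ⟨y, hy⟩ := h9_mem_orb.mp h2
  have h3 : h9_D (Fin k) ψ (γ ω) = h9_D (Fin k) ψ ω := by
    rw [← hy, h9_D_vadd]
  rw [← star, h3]
  exact hc'

/-- a vector `u` with `c₁ ⬝ᵥ u = 0` and `c₂ ⬝ᵥ u = 1` when `c₂` is not a multiple of `c₁`. -/
theorem h9_exists_sep {c₁ c₂ : Fin k → F} (h : ∀ a : F, c₂ ≠ a • c₁) :
    ∃ u : Fin k → F, c₁ ⬝ᵥ u = 0 ∧ c₂ ⬝ᵥ u = 1 := by
  have hnot : c₂ ∉ Submodule.span F {c₁} := by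
    intro hmem
    obtain ⟨a, ha⟩ := Submodule.mem_span_singleton.mp hmem
    exact h a ha.symm
  obtain ⟨φ, hφ1, hφ2⟩ := h8_exists_dot _ _ hnot
  refine ⟨(φ ⬝ᵥ c₂)⁻¹ • φ, ?_, ?_⟩
  · rw [dotProduct_smul, dotProduct_comm c₁ φ, hφ1 c₁ (Submodule.subset_span (by simp)), smul_zero]
  · rw [dotProduct_smul, dotProduct_comm c₂ φ, smul_eq_mul, inv_mul_cancel₀ hφ2]

include hM hsym in
/-- the dichotomy: if `D ω` contains two independent vectors, it is everything. -/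
theorem h9_D_dichotomy {ω : Ω} {c₁ c₂ : Fin k → F} (hc₁ : c₁ ≠ 0)
    (hc₁D : c₁ ∈ h9_D (Fin k) ψ ω) (hc₂D : c₂ ∈ h9_D (Fin k) ψ ω) (hc₂ : ∀ a : F, c₂ ≠ a • c₁)
    (z : Fin k → F) : z ∈ h9_D (Fin k) ψ ω := by
  have hc₂0 : c₂ ≠ 0 := by
    intro h0
    exact hc₂ 0 (by rw [h0, zero_smul])
  have hc₁' : ∀ a : F, c₁ ≠ a • c₂ := by
    intro a ha
    have ha0 : a ≠ 0 := by
      intro h0
      rw [h0, zero_smul] at ha
      exact hc₁ ha
    apply hc₂ a⁻¹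
    rw [ha, smul_smul, inv_mul_cancel₀ ha0, one_smul]
  obtain ⟨u, hu1, hu2⟩ := h9_exists_sep hc₂
  obtain ⟨u', hu'2, hu'1⟩ := h9_exists_sep hc₁'
  have hA : ∀ x : Fin k → F, x ⬝ᵥ u = 0 → x ∈ h9_D (Fin k) ψ ω := by
    intro x hx
    have := h9_D_shear hM hsym hc₁ hc₁D u x hx hu1 hc₂D
    rw [hu2, one_smul] at this
    have h2 := h9_sub_mem_D this hc₂D
    rwa [add_sub_cancel_left] at h2
  have hB : ∀ x : Fin k → F, x ⬝ᵥ u' = 0 → x ∈ h9_D (Fin k) ψ ω := by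
    intro x hx
    have := h9_D_shear hM hsym hc₂0 hc₂D u' x hx hu'2 hc₁D
    rw [hu'1, one_smul] at this
    have h2 := h9_sub_mem_D this hc₁D
    rwa [add_sub_cancel_left] at h2
  have hb : (z ⬝ᵥ u) • c₂ ∈ h9_D (Fin k) ψ ω := by
    apply hB
    rw [smul_dotProduct, hu'2, smul_zero]
  have ha : z - (z ⬝ᵥ u) • c₂ ∈ h9_D (Fin k) ψ ω := by
    apply hA
    rw [sub_dotProduct, smul_dotProduct, hu2, smul_eq_mul, mul_one, sub_self]
  have := h9_add_mem_D ha hb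
  rwa [sub_add_cancel] at this

include hM in
/-- TYPE I from a point with `D ω₀ = everything`. -/
theorem h9_typeI_of (hψ : ψ ≠ 1) {ω₀ : Ω} (hall : ∀ z : Fin k → F, z ∈ h9_D (Fin k) ψ ω₀) :
    (∀ y : Fin k → F, y +ᵥ ω₀ = ω₀ → y = 0) ∧
      ∀ ω : Ω, (∃ y : Fin k → F, y +ᵥ ω₀ = ω) ∨ ∀ y : Fin k → F, y +ᵥ ω = ω := by
  constructor
  · intro y hy
    by_contra hne
    apply h9_chr_ne_one hψ hne
    ext c
    rw [h9_chr_apply, AddChar.one_apply]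
    exact h9_mem_D.mp (hall c) y hy
  · intro ω
    by_cases hfix : ∀ y : Fin k → F, y +ᵥ ω = ω
    · exact Or.inr hfix
    · left
      push Not at hfix
      obtain ⟨y, hy⟩ := hfix
      obtain ⟨c, hcD, hc⟩ := h9_exists_D_ne_zero hψ hy
      exact h9_mem_orb.mp (h9_orb_unique hM hc (hall c) hcD)

/-- the line `F c` as a finset. -/
noncomputable def h9_line (c : Fin k → F) : Finset (Fin k → F) :=
  Finset.univ.image fun a : F => a • c

theorem h9_mem_line {c z : Fin k → F} : z ∈ h9_line c ↔ ∃ a : F, z = a • c := by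
  unfold h9_line
  rw [Finset.mem_image]
  constructor
  · rintro ⟨a, _, rfl⟩
    exact ⟨a, rfl⟩
  · rintro ⟨a, rfl⟩
    exact ⟨a, Finset.mem_univ _, rfl⟩

theorem h9_card_line {c : Fin k → F} (hc : c ≠ 0) : (h9_line c).card = Fintype.card F := by
  unfold h9_line
  rw [Finset.card_image_of_injective, Finset.card_univ]
  intro a b hab
  have h1 : (a - b) • c = 0 := by
    rw [sub_smul]
    exact sub_eq_zero.mpr hab
  rcases smul_eq_zero.mp h1 with h | h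
  · exact sub_eq_zero.mp h
  · exact absurd h hc

include hM hsym in
/-- in the absence of a point with full dual, every dual lies in a line. -/
theorem h9_D_subset_line (hno : ∀ ω : Ω, ∃ z : Fin k → F, z ∉ h9_D (Fin k) ψ ω) {ω : Ω}
    {c₁ : Fin k → F} (hc₁ : c₁ ≠ 0) (hc₁D : c₁ ∈ h9_D (Fin k) ψ ω) :
    h9_D (Fin k) ψ ω ⊆ h9_line c₁ := by
  intro c₂ hc₂D
  rw [h9_mem_line]
  by_contra hcon
  push Not at hcon
  obtain ⟨z, hz⟩ := hno ω
  exact hz (h9_D_dichotomy hM hsym hc₁ hc₁D hc₂D hcon z)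

include hM hsym in
theorem h9_card_D_le (hno : ∀ ω : Ω, ∃ z : Fin k → F, z ∉ h9_D (Fin k) ψ ω) (ω : Ω) :
    (h9_D (Fin k) ψ ω).card ≤ Fintype.card F := by
  by_cases h : ∃ c₁ ∈ h9_D (Fin k) ψ ω, c₁ ≠ 0
  · obtain ⟨c₁, hc₁D, hc₁⟩ := h
    rw [← h9_card_line hc₁]
    exact Finset.card_le_card (h9_D_subset_line hM hsym hno hc₁ hc₁D)
  · push Not at h
    have : h9_D (Fin k) ψ ω ⊆ {0} := by
      intro c hc
      rw [Finset.mem_singleton]
      exact h c hc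
    calc (h9_D (Fin k) ψ ω).card ≤ ({0} : Finset (Fin k → F)).card := Finset.card_le_card this
      _ = 1 := Finset.card_singleton _
      _ ≤ Fintype.card F := Fintype.card_pos

theorem h9_M_zero (ψ : AddChar F ℂ) :
    h9_M (Fin k) ψ Ω 0 = ∑ ω : Ω, Nat.card (h9_B (Fin k) F ω) := by
  unfold h9_M
  apply Finset.sum_congr rfl
  intro ω _
  rw [if_pos (h9_zero_mem_D ψ ω)]

include hM in
/-- the counting step for TYPE II: all duals have exactly `q` elements. -/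
theorem h9_card_D_eq_q (hψ : ψ ≠ 1)
    (hle : ∀ ω : Ω, (h9_D (Fin k) ψ ω).card ≤ Fintype.card F)
    (hd : Fintype.card Ω < Fintype.card F ^ k + (Fintype.card F ^ k - 1) / (Fintype.card F - 1))
    (ω₁ : Ω) : (h9_D (Fin k) ψ ω₁).card = Fintype.card F := by
  by_contra hne
  have hlt : (h9_D (Fin k) ψ ω₁).card < Fintype.card F := lt_of_le_of_ne (hle ω₁) hne
  have hsum := h9_sum_M (ι := Fin k) (Ω := Ω) hψ
  rw [Fintype.card_fin] at hsum
  have hsplit := Finset.add_sum_erase (Finset.univ : Finset (Fin k → F))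
    (fun c => h9_M (Fin k) ψ Ω c) (Finset.mem_univ (0 : Fin k → F))
  have hrest : ∑ c ∈ (Finset.univ : Finset (Fin k → F)).erase 0, h9_M (Fin k) ψ Ω c
      = (Fintype.card F ^ k - 1) * Fintype.card F ^ k := by
    rw [Finset.sum_congr rfl (fun c hc => hM c (Finset.ne_of_mem_erase hc)),
      Finset.sum_const, smul_eq_mul, Finset.card_erase_of_mem (Finset.mem_univ _),
      Finset.card_univ, Fintype.card_fun, Fintype.card_fin]
  rw [hrest, hsum] at hsplit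
  have hmul : ∀ ω : Ω, (h9_D (Fin k) ψ ω).card * Nat.card (h9_B (Fin k) F ω)
      = Fintype.card F ^ k := by
    intro ω
    have := h9_card_D_mul (ι := Fin k) hψ ω
    rwa [Fintype.card_fin] at this
  have hstrict : Fintype.card Ω * Fintype.card F ^ k
      < Fintype.card F * h9_M (Fin k) ψ Ω 0 := by
    rw [h9_M_zero, Finset.mul_sum]
    have : Fintype.card Ω * Fintype.card F ^ k = ∑ _ω : Ω, Fintype.card F ^ k := by
      rw [Finset.sum_const, smul_eq_mul, Finset.card_univ]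
    rw [this]
    apply Finset.sum_lt_sum
    · intro ω _
      rw [← hmul ω]
      exact Nat.mul_le_mul_right _ (hle ω)
    · refine ⟨ω₁, Finset.mem_univ _, ?_⟩
      rw [← hmul ω₁]
      exact Nat.mul_lt_mul_of_pos_right hlt (h9_card_B_pos ω₁)
  -- arithmetic
  obtain ⟨Q', hQ'⟩ : ∃ Q', Fintype.card F ^ k = Q' + 1 :=
    ⟨Fintype.card F ^ k - 1, (Nat.sub_add_cancel (Nat.one_le_pow _ _ Fintype.card_pos)).symm⟩
  obtain ⟨q1, hq1⟩ : ∃ q1, Fintype.card F = q1 + 1 :=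
    ⟨Fintype.card F - 1, (Nat.sub_add_cancel Fintype.card_pos).symm⟩
  rw [hQ'] at hsplit hstrict hd
  simp only [Nat.add_sub_cancel] at hsplit hd
  rw [hq1] at hstrict hd
  simp only [Nat.add_sub_cancel] at hd
  have hN : Q' / q1 * q1 ≤ Q' := Nat.div_mul_le_self _ _
  generalize Q' / q1 = N at hN hd
  generalize h9_M (Fin k) ψ Ω 0 = a at hsplit hstrict
  generalize Fintype.card Ω = d at hsplit hstrict hd
  have hd' : d ≤ Q' + N := by omega
  have ha : a ≤ N * (Q' + 1) := by nlinarith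
  have h3 : q1 * a ≤ q1 * (N * (Q' + 1)) := Nat.mul_le_mul_left _ ha
  have h4 : q1 * (N * (Q' + 1)) = (N * q1) * (Q' + 1) := by ring
  have h5 : (N * q1) * (Q' + 1) ≤ Q' * (Q' + 1) := Nat.mul_le_mul_right _ hN
  have h6 : Q' * (Q' + 1) < q1 * a := by nlinarith
  omega

include hM hsym in
/-- TYPE II': the conclusion. -/
theorem h9_typeII_of (hψ : ψ ≠ 1) (hno : ∀ ω : Ω, ∃ z : Fin k → F, z ∉ h9_D (Fin k) ψ ω)
    (hd : Fintype.card Ω < Fintype.card F ^ k + (Fintype.card F ^ k - 1) / (Fintype.card F - 1))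
    (ω : Ω) : ∃ c : Fin k → F, c ≠ 0 ∧ ∀ y : Fin k → F, y +ᵥ ω = ω ↔ c ⬝ᵥ y = 0 := by
  have hq := h9_card_D_eq_q hM hψ (h9_card_D_le hM hsym hno) hd ω
  have hex : ∃ c₁ ∈ h9_D (Fin k) ψ ω, c₁ ≠ 0 := by
    by_contra h
    push Not at h
    have hsub : h9_D (Fin k) ψ ω ⊆ {0} := by
      intro c hc
      rw [Finset.mem_singleton]
      exact h c hc
    have h1 := Finset.card_le_card hsub
    rw [hq, Finset.card_singleton] at h1
    have := Fintype.one_lt_card (α := F)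
    omega
  obtain ⟨c₁, hc₁D, hc₁⟩ := hex
  have hsub := h9_D_subset_line hM hsym hno hc₁ hc₁D
  have heq : h9_D (Fin k) ψ ω = h9_line c₁ :=
    Finset.eq_of_subset_of_card_le hsub (by rw [h9_card_line hc₁, hq])
  have hdir : ∀ y : Fin k → F, y +ᵥ ω = ω → c₁ ⬝ᵥ y = 0 := by
    intro y hy
    by_contra ht
    apply hψ
    ext s
    rw [AddChar.one_apply]
    have hmem : (s / (c₁ ⬝ᵥ y)) • c₁ ∈ h9_D (Fin k) ψ ω := by
      rw [heq, h9_mem_line]
      exact ⟨_, rfl⟩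
    have := h9_mem_D.mp hmem y hy
    rwa [smul_dotProduct, smul_eq_mul, div_mul_cancel₀ _ ht] at this
  refine ⟨c₁, hc₁, fun y => ⟨hdir y, ?_⟩⟩
  intro hy
  let B' : AddSubgroup (Fin k → F) :=
    { carrier := {y | c₁ ⬝ᵥ y = 0}
      zero_mem' := dotProduct_zero _
      add_mem' := by
        intro a b ha hb
        show c₁ ⬝ᵥ (a + b) = 0
        rw [dotProduct_add, ha, hb, add_zero]
      neg_mem' := by
        intro a ha
        show c₁ ⬝ᵥ (-a) = 0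
        rw [dotProduct_neg, ha, neg_zero] }
  have hle : h9_B (Fin k) F ω ≤ B' := fun y hy => hdir y (AddAction.mem_stabilizer_iff.mp hy)
  have hdual : h9_dual ψ B' = h9_D (Fin k) ψ ω := by
    ext c
    constructor
    · intro hc
      unfold h9_D
      rw [h9_mem_dual] at hc ⊢
      intro x hx
      exact hc x (hle hx)
    · intro hc
      rw [heq, h9_mem_line] at hc
      obtain ⟨a, rfl⟩ := hc
      rw [h9_mem_dual]
      intro x hx
      have hx' : c₁ ⬝ᵥ x = 0 := hx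
      rw [smul_dotProduct, hx', smul_zero, AddChar.map_zero_eq_one]
  have hc1 := h9_card_dual_mul hψ B'
  have hc2 := h9_card_D_mul (ι := Fin k) hψ ω
  rw [hdual] at hc1
  have hpos : 0 < (h9_D (Fin k) ψ ω).card := by
    rw [hq]
    exact Fintype.card_pos
  have hcard : Nat.card B' = Nat.card (h9_B (Fin k) F ω) :=
    Nat.eq_of_mul_eq_mul_left hpos (hc1.trans hc2.symm)
  have hBB := AddSubgroup.eq_of_le_of_card_ge hle (le_of_eq hcard)
  have hyB' : y ∈ B' := hy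
  rw [← hBB] at hyB'
  exact AddAction.mem_stabilizer_iff.mp hyB'

end struct

/-- **Lemma A** (orbit dichotomy), `AddAction` form. -/
theorem h9_orbit_dichotomy {F : Type*} [Field F] [Fintype F] {k : ℕ} (hk : 2 ≤ k)
    {Ω : Type*} [Fintype Ω] [AddAction (Fin k → F) Ω]
    (hsym : ∀ u x : Fin k → F, x ⬝ᵥ u = 0 → ∃ γ : Equiv.Perm Ω,
      ∀ (y : Fin k → F) (ω : Ω), γ (y +ᵥ ω) = (y + (x ⬝ᵥ y) • u) +ᵥ γ ω)
    (hnt : ∃ (y : Fin k → F) (ω : Ω), y +ᵥ ω ≠ ω)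
    (hd : Fintype.card Ω < Fintype.card F ^ k + (Fintype.card F ^ k - 1) / (Fintype.card F - 1)) :
    (∃ ω₀ : Ω, (∀ y : Fin k → F, y +ᵥ ω₀ = ω₀ → y = 0) ∧
        ∀ ω : Ω, (∃ y : Fin k → F, y +ᵥ ω₀ = ω) ∨ ∀ y : Fin k → F, y +ᵥ ω = ω) ∨
    (∀ ω : Ω, ∃ c : Fin k → F, c ≠ 0 ∧ ∀ y : Fin k → F, y +ᵥ ω = ω ↔ c ⬝ᵥ y = 0) := by
  classical
  obtain ⟨ψ, hψ⟩ := h9_exists_char (F := F)
  have hM := h9_M_eq_pow hsym hk hψ hnt hd
  by_cases hex : ∃ ω₀ : Ω, ∀ z : Fin k → F, z ∈ h9_D (Fin k) ψ ω₀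
  · obtain ⟨ω₀, hall⟩ := hex
    exact Or.inl ⟨ω₀, h9_typeI_of hM hψ hall⟩
  · push Not at hex
    exact Or.inr (fun ω => h9_typeII_of hM hsym hψ hex hd ω)

/-- **Lemma A**, `τ` form: `τ : (Fin k → F) → Perm Ω` additive-to-multiplicative. -/
theorem h9_orbit_dichotomy_tau {F : Type*} [Field F] [Fintype F] {k : ℕ} (hk : 2 ≤ k)
    {Ω : Type*} [Fintype Ω] (τ : (Fin k → F) → Equiv.Perm Ω) (hτ0 : τ 0 = 1)
    (hτ : ∀ x y : Fin k → F, τ (x + y) = τ x * τ y)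
    (hsym : ∀ u x : Fin k → F, x ⬝ᵥ u = 0 → ∃ γ : Equiv.Perm Ω,
      ∀ (y : Fin k → F) (ω : Ω), γ (τ y ω) = τ (y + (x ⬝ᵥ y) • u) (γ ω))
    (hnt : ∃ (y : Fin k → F) (ω : Ω), τ y ω ≠ ω)
    (hd : Fintype.card Ω < Fintype.card F ^ k + (Fintype.card F ^ k - 1) / (Fintype.card F - 1)) :
    (∃ ω₀ : Ω, (∀ x : Fin k → F, τ x ω₀ = ω₀ → x = 0) ∧
        ∀ ω : Ω, (∃ x : Fin k → F, τ x ω₀ = ω) ∨ ∀ x : Fin k → F, τ x ω = ω) ∨
    (∀ ω : Ω, ∃ c : Fin k → F, c ≠ 0 ∧ ∀ x : Fin k → F, (τ x ω = ω ↔ c ⬝ᵥ x = 0)) := by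
  letI : AddAction (Fin k → F) Ω :=
    { vadd := fun x ω => τ x ω
      zero_vadd := fun ω => by
        show τ 0 ω = ω
        rw [hτ0]; rfl
      add_vadd := fun x y ω => by
        show τ (x + y) ω = τ x (τ y ω)
        rw [hτ]; rfl }
  exact h9_orbit_dichotomy hk hsym hnt hd

end Cfsg.Agent.MinIdx
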