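import Mathlib
import Cfsg.Agent.MinIdx.H4_PB
import Cfsg.Agent.MinIdx.H9_CountC

set_option autoImplicit false

/-!
MinIdx / S2140, piece PB (helper4), final form: for a transitive `SL_n(F)`-set `Ω` with
`2 ≤ |Ω| < (q^n - 1)/(q - 1)`, `n ≥ 3`, the transvection groups `A^e` are all of type I or all of
type II'.  (`h4_types_of_n` with helper9's Lemma A `h9_orbit_dichotomy` plugged in.)
-/

namespace Cfsg.Agent.MinIdx

open Matrix

theorem h4_types {F : Type*} [Field F] [Fintype F] {n : ℕ} (hn : 3 ≤ n) {Ω : Type*} [Fintype Ω]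
    (ρ : SpecialLinearGroup (Fin n) F →* Equiv.Perm Ω) (htr : ∀ ω ω' : Ω, ∃ g, ρ g ω = ω')
    (h2 : 2 ≤ Fintype.card Ω)
    (hd : Fintype.card Ω < (Fintype.card F ^ n - 1) / (Fintype.card F - 1)) :
    (∀ e : Fin n → F, e ≠ 0 → h9_TypeI ρ e) ∨ (∀ e : Fin n → F, e ≠ 0 → h9_TypeII ρ e) :=
  h4_types_of_n hn ρ htr h2 hd (fun k hk inst => @h9_orbit_dichotomy F _ _ k hk Ω _ inst)

end Cfsg.Agent.MinIdx
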