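import Mathlib

set_option autoImplicit false

/-!
MinIdx / S2140 (helper7), piece P6: the existence half (the stabiliser of a point of the projective
space has index `(q ^ n - 1) / (q - 1)` in `PSL_n(q)`), and the transfer of the lower bound from
transitive actions of `SL_n(q)` to subgroups of `SL_n(q)` and of `PSL_n(q)`.
-/

namespace Cfsg.Agent.MinIdx

open scoped LinearAlgebra.Projectivization

universe u

/-- **existence**: a subgroup of `PSL_n(q)` of index `(q ^ n - 1) / (q - 1)`. -/
theorem h7_exists_index {F : Type*} [Field F] [Fintype F] {q : ℕ} (hF : Fintype.card F = q)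
    (n : ℕ) (hn : 1 ≤ n) :
    ∃ H : Subgroup (Matrix.ProjectiveSpecialLinearGroup (Fin n) F),
      H.index = (q ^ n - 1) / (q - 1) := by
  classical
  -- a point
  let i0 : Fin n := ⟨0, by omega⟩
  have hv : (Pi.single i0 1 : Fin n → F) ≠ 0 := by
    intro h
    have := congrFun h i0
    simp at this
  let p : ℙ F (Fin n → F) := Projectivization.mk F (Pi.single i0 1) hv
  refine ⟨MulAction.stabilizer (Matrix.ProjectiveSpecialLinearGroup (Fin n) F) p, ?_⟩
  have htr : MulAction.IsPretransitive (Matrix.ProjectiveSpecialLinearGroup (Fin n) F)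
      (ℙ F (Fin n → F)) := MulAction.IsPreprimitive.toIsPretransitive
  rw [MulAction.index_stabilizer_of_transitive, Projectivization.card'' F (Fin n → F),
    Nat.card_eq_fintype_card, Nat.card_eq_fintype_card, Fintype.card_fun, Fintype.card_fin, hF]

/-- **transfer**, from `SL` to `PSL`. -/
theorem h7_psl_of_sl {F : Type*} [Field F] {n : ℕ} (N : ℕ)
    (h : ∀ K : Subgroup (Matrix.SpecialLinearGroup (Fin n) F), K ≠ ⊤ → N ≤ K.index) :
    ∀ H : Subgroup (Matrix.ProjectiveSpecialLinearGroup (Fin n) F), H ≠ ⊤ → N ≤ H.index := by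
  intro H hH
  have hsurj : Function.Surjective
      (QuotientGroup.mk' (Subgroup.center (Matrix.SpecialLinearGroup (Fin n) F))) :=
    QuotientGroup.mk'_surjective _
  have hidx : (H.comap (QuotientGroup.mk' (Subgroup.center (Matrix.SpecialLinearGroup (Fin n) F)))).index
      = H.index := Subgroup.index_comap_of_surjective H hsurj
  rw [← hidx]
  apply h
  intro htop
  apply hH
  rw [eq_top_iff]
  intro x _
  obtain ⟨y, rfl⟩ := hsurj x
  have : y ∈ H.comap (QuotientGroup.mk' (Subgroup.center (Matrix.SpecialLinearGroup (Fin n) F))) := by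
    rw [htop]; exact Subgroup.mem_top y
  exact this

/-- **transfer**, from transitive actions to subgroups. -/
theorem h7_sl_of_action {G : Type u} [Group G] [Finite G] (N : ℕ)
    (h : ∀ (Ω : Type u) [Fintype Ω] [MulAction G Ω], MulAction.IsPretransitive G Ω →
      2 ≤ Fintype.card Ω → N ≤ Fintype.card Ω) :
    ∀ K : Subgroup G, K ≠ ⊤ → N ≤ K.index := by
  classical
  intro K hK
  have : Fintype (G ⧸ K) := Fintype.ofFinite _
  have h1 := h (G ⧸ K) inferInstance (by
    have : 1 < K.index := by
      have h0 : K.index ≠ 0 := Subgroup.index_ne_zero_of_finite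
      have h1 : K.index ≠ 1 := fun h1 => hK (Subgroup.index_eq_one.mp h1)
      omega
    rw [Subgroup.index, Nat.card_eq_fintype_card] at this
    omega)
  rw [Subgroup.index, Nat.card_eq_fintype_card]
  exact h1

end Cfsg.Agent.MinIdx
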