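import Mathlib

set_option autoImplicit false

/-!
MinIdx / S2140 (helper7): `SL_k(F)` is transitive on the linearly independent families of fewer
than `k` vectors (in matrix form).
-/

namespace Cfsg.Agent.MinIdx

open Matrix

variable {F : Type*} [Field F]

theorem h7_det_one_add_vecMulVec {k : ℕ} (u w : Fin k → F) :
    (1 + vecMulVec u w).det = 1 + w ⬝ᵥ u := by
  rw [vecMulVec_eq Unit, det_one_add_replicateCol_mul_replicateRow]

theorem h7_one_add_vecMulVec_mulVec {k : ℕ} (u w x : Fin k → F) :
    (1 + vecMulVec u w) *ᵥ x = x + (w ⬝ᵥ x) • u := by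
  rw [add_mulVec, one_mulVec, vecMulVec_mulVec]
  congr 1
  funext i
  simp [mul_comm]

/-- a linear functional on `F^k` is a dot product. -/
theorem h7_linearMap_eq_dot {k : ℕ} (f : (Fin k → F) →ₗ[F] F) (x : Fin k → F) :
    f x = (fun i => f (Pi.single i 1)) ⬝ᵥ x := by
  rw [LinearMap.pi_apply_eq_sum_univ f x]
  unfold dotProduct
  apply Finset.sum_congr rfl
  intro i _
  rw [smul_eq_mul, mul_comm]
  congr 2
  funext j
  simp [Pi.single_apply, eq_comm]

/-- a general linear map sending one independent family to another. -/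
theorem h7_exists_gl_of_linIndep {k r : ℕ} (s s' : Fin r → (Fin k → F))
    (hs : LinearIndependent F s) (hs' : LinearIndependent F s') :
    ∃ G : Matrix (Fin k) (Fin k) F, G.det ≠ 0 ∧ ∀ i, G *ᵥ s i = s' i := by
  have q1 : ∀ i, ((hs.linearCombinationEquiv (Finsupp.single i 1) :
      Submodule.span F (Set.range s)) : Fin k → F) = s i := by
    intro i; simp
  have q2 : ∀ i, ((hs'.linearCombinationEquiv (Finsupp.single i 1) :
      Submodule.span F (Set.range s')) : Fin k → F) = s' i := by
    intro i; simp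
  let f := hs.linearCombinationEquiv.symm ≪≫ₗ hs'.linearCombinationEquiv
  obtain ⟨g, hg⟩ := Submodule.exists_linearEquiv_restrict_eq f
  refine ⟨LinearMap.toMatrix' (g : (Fin k → F) →ₗ[F] (Fin k → F)), ?_, ?_⟩
  · rw [LinearMap.det_toMatrix']
    exact (LinearEquiv.isUnit_det' g).ne_zero
  · intro i
    rw [LinearMap.toMatrix'_mulVec]
    show g (s i) = s' i
    rw [← q1 i, ← hg, ← q2 i]
    simp [f]

/-- **`SL_k` is transitive on the independent families of fewer than `k` vectors.** -/
theorem h7_exists_sl_of_linIndep {k r : ℕ} (hr : r < k) (s s' : Fin r → (Fin k → F))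
    (hs : LinearIndependent F s) (hs' : LinearIndependent F s') :
    ∃ B : Matrix.SpecialLinearGroup (Fin k) F,
      ∀ i, (B : Matrix (Fin k) (Fin k) F) *ᵥ s i = s' i := by
  obtain ⟨G, hG, hGs⟩ := h7_exists_gl_of_linIndep s s' hs hs'
  -- a functional vanishing on the `s' i`
  have hlt : Submodule.span F (Set.range s') < ⊤ := by
    rw [lt_top_iff_ne_top]
    intro htop
    have h1 := finrank_span_eq_card hs'
    rw [htop, finrank_top, Module.finrank_fin_fun, Fintype.card_fin] at h1
    omega
  obtain ⟨f, hf0, hfker⟩ := Submodule.exists_le_ker_of_lt_top _ hlt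
  obtain ⟨z, hz⟩ : ∃ z, f z ≠ 0 := by
    by_contra hcon
    push Not at hcon
    exact hf0 (LinearMap.ext hcon)
  set φ : Fin k → F := fun i => f (Pi.single i 1) with hφ
  have hφs : ∀ i, φ ⬝ᵥ s' i = 0 := by
    intro i
    rw [← h7_linearMap_eq_dot f]
    exact hfker (Submodule.subset_span (Set.mem_range_self i))
  have hφz : φ ⬝ᵥ z = f z := (h7_linearMap_eq_dot f z).symm
  set a : F := G.det⁻¹ with ha
  set u : Fin k → F := ((a - 1) * (f z)⁻¹) • z with hu
  have hdet : ((1 + vecMulVec u φ) * G).det = 1 := by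
    rw [det_mul, h7_det_one_add_vecMulVec, hu, dotProduct_smul, hφz, smul_eq_mul, mul_assoc,
      inv_mul_cancel₀ hz, mul_one, add_sub_cancel, ha, inv_mul_cancel₀ hG]
  refine ⟨⟨(1 + vecMulVec u φ) * G, hdet⟩, ?_⟩
  intro i
  show ((1 + vecMulVec u φ) * G) *ᵥ s i = s' i
  rw [← mulVec_mulVec, hGs, h7_one_add_vecMulVec_mulVec, hφs, zero_smul, add_zero]

end Cfsg.Agent.MinIdx
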