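import Mathlib
import Cfsg.Agent.MinIdx.H7_Trans

set_option autoImplicit false
set_option linter.unusedSectionVars false

/-!
MinIdx / S2140 (helper7), piece P5a, the orbit lemma: for `k ≥ 2` the group
`{(A, B) ∈ GL₂ × GL_k : det A · det B = 1}` acting on the `k × 2` matrices by `M ↦ B M A⁻¹` has all
its orbits of non-zero matrices of size at least `q ^ (k + 1)`, when `k ≥ 3`, or `k = 2` and the
field has characteristic two and more than two elements.
-/

namespace Cfsg.Agent.MinIdx

open Matrix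

variable {F : Type*} [Field F] {k : ℕ}

/-- the relation "in the same orbit". -/
def h7_Rel (M M' : Matrix (Fin k) (Fin 2) F) : Prop :=
  ∃ (A : GL (Fin 2) F) (B : GL (Fin k) F),
    (A : Matrix (Fin 2) (Fin 2) F).det * (B : Matrix (Fin k) (Fin k) F).det = 1 ∧
      M' = (B : Matrix (Fin k) (Fin k) F) * M * ((A⁻¹ : GL (Fin 2) F) : Matrix (Fin 2) (Fin 2) F)

theorem h7_Rel_refl (M : Matrix (Fin k) (Fin 2) F) : h7_Rel M M :=
  ⟨1, 1, by simp, by simp⟩

theorem h7_Rel_trans {M M' M'' : Matrix (Fin k) (Fin 2) F} (h : h7_Rel M M') (h' : h7_Rel M' M'') :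
    h7_Rel M M'' := by
  obtain ⟨A, B, hd, rfl⟩ := h
  obtain ⟨A', B', hd', rfl⟩ := h'
  refine ⟨A' * A, B' * B, ?_, ?_⟩
  · rw [Units.val_mul, Units.val_mul, det_mul, det_mul]
    calc (A' : Matrix (Fin 2) (Fin 2) F).det * (A : Matrix (Fin 2) (Fin 2) F).det *
          ((B' : Matrix (Fin k) (Fin k) F).det * (B : Matrix (Fin k) (Fin k) F).det)
        = ((A' : Matrix (Fin 2) (Fin 2) F).det * (B' : Matrix (Fin k) (Fin k) F).det) *
          ((A : Matrix (Fin 2) (Fin 2) F).det * (B : Matrix (Fin k) (Fin k) F).det) := by ring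
      _ = 1 := by rw [hd, hd', mul_one]
  · rw [_root_.mul_inv_rev, Units.val_mul, Units.val_mul]
    simp only [Matrix.mul_assoc]

/-- left multiplication by an element of `SL_k`. -/
theorem h7_Rel_left (B : Matrix.SpecialLinearGroup (Fin k) F) (M : Matrix (Fin k) (Fin 2) F) :
    h7_Rel M ((B : Matrix (Fin k) (Fin k) F) * M) := by
  refine ⟨1, Matrix.SpecialLinearGroup.toGL B, ?_, ?_⟩
  · simp
  · simp

/-- right multiplication by an element of `SL₂`. -/
theorem h7_Rel_right (A : Matrix.SpecialLinearGroup (Fin 2) F) (M : Matrix (Fin k) (Fin 2) F) :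
    h7_Rel M (M * (A : Matrix (Fin 2) (Fin 2) F)) := by
  refine ⟨Matrix.SpecialLinearGroup.toGL A⁻¹, 1, ?_, ?_⟩
  · simp
  · rw [← map_inv, inv_inv]
    simp

/-- the matrix with given columns. -/
def h7_colMat (s : Fin 2 → (Fin k → F)) : Matrix (Fin k) (Fin 2) F := fun i j => s j i

theorem h7_colMat_injective : Function.Injective (h7_colMat : (Fin 2 → (Fin k → F)) → _) := by
  intro s s' h
  funext j i
  exact congrFun (congrFun h i) j

theorem h7_mul_colMat (B : Matrix (Fin k) (Fin k) F) (s : Fin 2 → (Fin k → F)) :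
    B * h7_colMat s = h7_colMat (fun j => B *ᵥ s j) := by
  ext i j
  simp [h7_colMat, Matrix.mul_apply, mulVec, dotProduct]

theorem h7_colMat_mul (s : Fin 2 → (Fin k → F)) (A : Matrix (Fin 2) (Fin 2) F) :
    h7_colMat s * A = h7_colMat (fun j => A 0 j • s 0 + A 1 j • s 1) := by
  ext i j
  simp [h7_colMat, Matrix.mul_apply, Fin.sum_univ_two, mul_comm]

theorem h7_colMat_cols (M : Matrix (Fin k) (Fin 2) F) : h7_colMat (fun j i => M i j) = M := rfl

/-! ### rank one -/

/-- `(a u, b u) ∼ (0, u)`. -/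
theorem h7_Rel_rank_one_zero (u : Fin k → F) (a b : F) (hab : a ≠ 0 ∨ b ≠ 0) :
    h7_Rel (h7_colMat ![a • u, b • u]) (h7_colMat ![0, u]) := by
  by_cases hb : b = 0
  · have ha : a ≠ 0 := hab.resolve_right (not_not.mpr hb)
    have hdet : (!![0, a⁻¹; -a, 0] : Matrix (Fin 2) (Fin 2) F).det = 1 := by
      rw [det_fin_two_of]
      field_simp
      ring
    have := h7_Rel_right (⟨!![0, a⁻¹; -a, 0], hdet⟩ : Matrix.SpecialLinearGroup (Fin 2) F)
      (h7_colMat ![a • u, b • u])
    convert this using 1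
    rw [h7_colMat_mul]
    congr 1
    funext j
    fin_cases j
    · simp [hb]
    · simp [hb, smul_smul, inv_mul_cancel₀ ha]
  · have hdet : (!![b, 0; -a, b⁻¹] : Matrix (Fin 2) (Fin 2) F).det = 1 := by
      rw [det_fin_two_of]
      field_simp
      ring
    have := h7_Rel_right (⟨!![b, 0; -a, b⁻¹], hdet⟩ : Matrix.SpecialLinearGroup (Fin 2) F)
      (h7_colMat ![a • u, b • u])
    convert this using 1
    rw [h7_colMat_mul]
    congr 1
    funext j
    fin_cases j
    · simp [smul_smul, mul_comm]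
    · simp [smul_smul, inv_mul_cancel₀ hb]

/-- `(0, u) ∼ (0, u')`. -/
theorem h7_Rel_zero_col (hk : 2 ≤ k) (u u' : Fin k → F) (hu : u ≠ 0) (hu' : u' ≠ 0) :
    h7_Rel (h7_colMat ![0, u]) (h7_colMat ![0, u']) := by
  have hs : LinearIndependent F (fun _ : Fin 1 => u) := by
    rw [linearIndependent_unique_iff]
    exact hu
  have hs' : LinearIndependent F (fun _ : Fin 1 => u') := by
    rw [linearIndependent_unique_iff]
    exact hu'
  obtain ⟨B, hB⟩ := h7_exists_sl_of_linIndep (by omega : 1 < k) _ _ hs hs'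
  have := h7_Rel_left B (h7_colMat ![0, u])
  convert this using 1
  rw [h7_mul_colMat]
  congr 1
  funext j
  fin_cases j
  · simp
  · simpa using (hB 0).symm

/-- `(0, u') ∼ (u', c u')`. -/
theorem h7_Rel_zero_col_smul (u' : Fin k → F) (c : F) :
    h7_Rel (h7_colMat ![0, u']) (h7_colMat ![u', c • u']) := by
  have hdet : (!![0, -1; 1, c] : Matrix (Fin 2) (Fin 2) F).det = 1 := by
    rw [det_fin_two_of]
    ring
  have := h7_Rel_right (⟨!![0, -1; 1, c], hdet⟩ : Matrix.SpecialLinearGroup (Fin 2) F)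
    (h7_colMat ![0, u'])
  convert this using 1
  rw [h7_colMat_mul]
  congr 1
  funext j
  fin_cases j
  · simp
  · simp

/-- the orbit of a matrix of rank one. -/
theorem h7_orbit_rank_one [Fintype F] (hk : 2 ≤ k) (u : Fin k → F) (hu : u ≠ 0) (a b : F)
    (hab : a ≠ 0 ∨ b ≠ 0) :
    ∃ S : Finset (Matrix (Fin k) (Fin 2) F), Fintype.card F ^ (k + 1) ≤ S.card ∧
      (0 : Matrix (Fin k) (Fin 2) F) ∉ S ∧ ∀ M' ∈ S, h7_Rel (h7_colMat ![a • u, b • u]) M' := by
  classical
  let f : ({v : Fin k → F // v ≠ 0} × F) ⊕ {v : Fin k → F // v ≠ 0} → Matrix (Fin k) (Fin 2) F :=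
    fun x => Sum.elim (fun p => h7_colMat ![p.1.1, p.2 • p.1.1]) (fun v => h7_colMat ![0, v.1]) x
  have hf : Function.Injective f := by
    intro x y hxy
    rcases x with ⟨⟨v, hv⟩, c⟩ | ⟨v, hv⟩ <;> rcases y with ⟨⟨w, hw⟩, c'⟩ | ⟨w, hw⟩
    · have h1 : (![v, c • v] : Fin 2 → Fin k → F) = ![w, c' • w] := h7_colMat_injective hxy
      have h2 : v = w := by simpa using congrFun h1 0
      subst h2
      have h3 : c • v = c' • v := by simpa using congrFun h1 1
      have h4 : c = c' := by
        have : (c - c') • v = 0 := by rw [sub_smul, h3, sub_self]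
        rcases smul_eq_zero.mp this with h | h
        · exact sub_eq_zero.mp h
        · exact absurd h hv
      rw [h4]
    · exfalso
      have h1 : (![v, c • v] : Fin 2 → Fin k → F) = ![0, w] := h7_colMat_injective hxy
      have h2 : v = 0 := by simpa using congrFun h1 0
      exact hv h2
    · exfalso
      have h1 : (![0, v] : Fin 2 → Fin k → F) = ![w, c' • w] := h7_colMat_injective hxy
      have h2 : (0 : Fin k → F) = w := by simpa using congrFun h1 0
      exact hw h2.symm
    · have h1 : (![0, v] : Fin 2 → Fin k → F) = ![0, w] := h7_colMat_injective hxy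
      have h2 : v = w := by simpa using congrFun h1 1
      subst h2
      rfl
  refine ⟨Finset.univ.image f, ?_, ?_, ?_⟩
  · rw [Finset.card_image_of_injective _ hf, Finset.card_univ, Fintype.card_sum, Fintype.card_prod]
    have h1 : Fintype.card {v : Fin k → F // v ≠ 0} = Fintype.card F ^ k - 1 := by
      simp
    rw [h1]
    have hq : 2 ≤ Fintype.card F := Fintype.one_lt_card
    have h2 : Fintype.card F + 1 ≤ Fintype.card F ^ k := by
      calc Fintype.card F + 1 ≤ Fintype.card F * Fintype.card F := by nlinarith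
        _ = Fintype.card F ^ 2 := by ring
        _ ≤ Fintype.card F ^ k := Nat.pow_le_pow_right (by omega) hk
    have h3 : Fintype.card F ^ (k + 1) = Fintype.card F ^ k * Fintype.card F := pow_succ _ _
    obtain ⟨t, ht⟩ : ∃ t, Fintype.card F ^ k = t + 1 := ⟨Fintype.card F ^ k - 1, by omega⟩
    rw [h3, ht, Nat.add_sub_cancel]
    have : Fintype.card F ≤ t := by omega
    nlinarith
  · intro h0
    rw [Finset.mem_image] at h0
    obtain ⟨x, _, hx⟩ := h0
    rcases x with ⟨⟨v, hv⟩, c⟩ | ⟨v, hv⟩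
    · apply hv
      have h1 : (![v, c • v] : Fin 2 → Fin k → F) = ![0, 0] :=
        h7_colMat_injective (hx.trans (show (0 : Matrix (Fin k) (Fin 2) F)
          = h7_colMat ![0, 0] by ext i j; fin_cases j <;> rfl))
      simpa using congrFun h1 0
    · apply hv
      have h1 : (![0, v] : Fin 2 → Fin k → F) = ![0, 0] :=
        h7_colMat_injective (hx.trans (show (0 : Matrix (Fin k) (Fin 2) F)
          = h7_colMat ![0, 0] by ext i j; fin_cases j <;> rfl))
      simpa using congrFun h1 1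
  · intro M' hM'
    rw [Finset.mem_image] at hM'
    obtain ⟨x, _, rfl⟩ := hM'
    have h0 := h7_Rel_rank_one_zero u a b hab
    rcases x with ⟨⟨v, hv⟩, c⟩ | ⟨v, hv⟩
    · exact h7_Rel_trans h0 (h7_Rel_trans (h7_Rel_zero_col hk u v hu hv) (h7_Rel_zero_col_smul v c))
    · exact h7_Rel_trans h0 (h7_Rel_zero_col hk u v hu hv)

/-! ### independent columns -/

theorem h7_card_indep [Fintype F] (hk : 2 ≤ k) :
    Nat.card {s : Fin 2 → (Fin k → F) // LinearIndependent F s}
      = (Fintype.card F ^ k - 1) * (Fintype.card F ^ k - Fintype.card F) := by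
  rw [card_linearIndependent (K := F) (V := Fin k → F) (by rw [Module.finrank_fin_fun]; exact hk),
    Module.finrank_fin_fun, Fin.prod_univ_two]
  simp

/-- the set of the matrices with independent columns. -/
theorem h7_orbit_indep_aux [Fintype F] (hk : 2 ≤ k) (M : Matrix (Fin k) (Fin 2) F)
    (hbig : Fintype.card F ^ (k + 1)
      ≤ (Fintype.card F ^ k - 1) * (Fintype.card F ^ k - Fintype.card F))
    (hrel : ∀ s' : Fin 2 → (Fin k → F), LinearIndependent F s' → h7_Rel M (h7_colMat s')) :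
    ∃ S : Finset (Matrix (Fin k) (Fin 2) F), Fintype.card F ^ (k + 1) ≤ S.card ∧
      (0 : Matrix (Fin k) (Fin 2) F) ∉ S ∧ ∀ M' ∈ S, h7_Rel M M' := by
  classical
  have : Fintype {s : Fin 2 → (Fin k → F) // LinearIndependent F s} := Fintype.ofFinite _
  refine ⟨Finset.univ.image
    (fun s' : {s : Fin 2 → (Fin k → F) // LinearIndependent F s} => h7_colMat s'.1), ?_, ?_, ?_⟩
  · rw [Finset.card_image_of_injective _ (fun a b h => Subtype.ext (h7_colMat_injective h)),
      Finset.card_univ]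
    have h1 := h7_card_indep (F := F) hk
    rw [Nat.card_eq_fintype_card] at h1
    rw [h1]
    exact hbig
  · intro h0
    rw [Finset.mem_image] at h0
    obtain ⟨s', _, hs'⟩ := h0
    have h1 : s'.1 = ![0, 0] := h7_colMat_injective (hs'.trans
      (show (0 : Matrix (Fin k) (Fin 2) F) = h7_colMat ![0, 0] by ext i j; fin_cases j <;> rfl))
    exact s'.2.ne_zero 0 (by rw [h1]; rfl)
  · intro M' hM'
    rw [Finset.mem_image] at hM'
    obtain ⟨s', _, rfl⟩ := hM'
    exact hrel s'.1 s'.2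

/-- independent columns, `k ≥ 3`. -/
theorem h7_orbit_indep_ge_three [Fintype F] (hk : 3 ≤ k) (s : Fin 2 → (Fin k → F))
    (hs : LinearIndependent F s) :
    ∃ S : Finset (Matrix (Fin k) (Fin 2) F), Fintype.card F ^ (k + 1) ≤ S.card ∧
      (0 : Matrix (Fin k) (Fin 2) F) ∉ S ∧ ∀ M' ∈ S, h7_Rel (h7_colMat s) M' := by
  refine h7_orbit_indep_aux (by omega) _ ?_ ?_
  · have hq : 2 ≤ Fintype.card F := Fintype.one_lt_card
    obtain ⟨j, rfl⟩ : ∃ j, k = j + 3 := ⟨k - 3, by omega⟩
    set q := Fintype.card F with hq'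
    have h1 : q ^ (j + 3) - q = q * (q ^ (j + 2) - 1) := by
      rw [Nat.mul_sub, mul_one]
      congr 1
      ring
    have h2 : q ^ (j + 3 + 1) = q * q ^ (j + 3) := by ring
    rw [h1, h2, mul_comm (q ^ (j + 3) - 1), mul_assoc]
    apply Nat.mul_le_mul_left
    have h3 : 1 ≤ q ^ j := Nat.one_le_pow _ _ (by omega)
    have h4 : q ^ (j + 2) = q ^ j * q ^ 2 := by ring
    have h5 : q ^ (j + 3) = q ^ j * q ^ 3 := by ring
    obtain ⟨a, ha⟩ : ∃ a, q ^ (j + 2) = a + 1 := ⟨q ^ (j + 2) - 1, by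
      have : 1 ≤ q ^ (j + 2) := Nat.one_le_pow _ _ (by omega)
      omega⟩
    obtain ⟨b, hb⟩ : ∃ b, q ^ (j + 3) = b + 1 := ⟨q ^ (j + 3) - 1, by
      have : 1 ≤ q ^ (j + 3) := Nat.one_le_pow _ _ (by omega)
      omega⟩
    rw [ha, hb, Nat.add_sub_cancel, Nat.add_sub_cancel]
    have h6 : 4 ≤ q ^ 2 := by nlinarith
    have h7 : 3 ≤ a := by nlinarith
    have h8 : b + 1 = q * (a + 1) := by rw [← ha, ← hb]; ring
    nlinarith
  · intro s' hs'
    obtain ⟨B, hB⟩ := h7_exists_sl_of_linIndep (by omega : 2 < k) s s' hs hs'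
    have := h7_Rel_left B (h7_colMat s)
    convert this using 1
    rw [h7_mul_colMat]
    congr 1
    funext j
    exact (hB j).symm

/-- independent columns, `k = 2`, characteristic two, `q ≥ 3`. -/
theorem h7_orbit_indep_two [Fintype F] (h2 : (2 : F) = 0) (hq : 3 ≤ Fintype.card F)
    (s : Fin 2 → (Fin 2 → F)) (hs : LinearIndependent F s) :
    ∃ S : Finset (Matrix (Fin 2) (Fin 2) F), Fintype.card F ^ (2 + 1) ≤ S.card ∧
      (0 : Matrix (Fin 2) (Fin 2) F) ∉ S ∧ ∀ M' ∈ S, h7_Rel (h7_colMat s) M' := by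
  have hdetne : ∀ t : Fin 2 → (Fin 2 → F), LinearIndependent F t → (h7_colMat t).det ≠ 0 := by
    intro t ht
    have h1 : LinearIndependent F (h7_colMat t).col := ht
    rw [Matrix.linearIndependent_cols_iff_isUnit, Matrix.isUnit_iff_isUnit_det] at h1
    exact h1.ne_zero
  refine h7_orbit_indep_aux (le_refl 2) _ ?_ ?_
  · set q := Fintype.card F with hq'
    have h1 : q ^ 2 - q = q * (q - 1) := by
      rw [Nat.mul_sub, mul_one]
      congr 1
      ring
    obtain ⟨a, ha⟩ : ∃ a, q = a + 3 := ⟨q - 3, by omega⟩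
    have h3 : q ^ 2 - 1 = a * a + 6 * a + 8 := by
      have : q ^ 2 = a * a + 6 * a + 8 + 1 := by rw [ha]; ring
      omega
    have h4 : q - 1 = a + 2 := by omega
    rw [h1, h3, h4, ha]
    ring_nf
    nlinarith [Nat.zero_le a]
  · intro s' hs'
    have hM := hdetne s hs
    have hM' := hdetne s' hs'
    have : CharP F 2 := CharTwo.of_one_ne_zero_of_two_eq_zero one_ne_zero h2
    obtain ⟨σ, hσ⟩ := isSquare_of_charTwo' ((h7_colMat s).det * ((h7_colMat s').det)⁻¹)
    have hσ0 : σ ≠ 0 := by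
      intro h0
      rw [h0, mul_zero] at hσ
      exact mul_ne_zero hM (inv_ne_zero hM') hσ
    have hAdet : (!![σ, 0; 0, 1] : Matrix (Fin 2) (Fin 2) F).det = σ := by
      rw [det_fin_two_of]; ring
    set A : GL (Fin 2) F := Matrix.GeneralLinearGroup.mkOfDetNeZero !![σ, 0; 0, 1]
      (by rw [hAdet]; exact hσ0) with hA
    set G : GL (Fin 2) F := Matrix.GeneralLinearGroup.mkOfDetNeZero (h7_colMat s) hM with hG
    set G' : GL (Fin 2) F := Matrix.GeneralLinearGroup.mkOfDetNeZero (h7_colMat s') hM' with hG'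
    refine ⟨A, G' * A * G⁻¹, ?_, ?_⟩
    · have e1 : (A : Matrix (Fin 2) (Fin 2) F).det = σ := hAdet
      have e2 : ((G' * A * G⁻¹ : GL (Fin 2) F) : Matrix (Fin 2) (Fin 2) F).det
          = (h7_colMat s').det * σ * ((h7_colMat s).det)⁻¹ := by
        rw [Units.val_mul, Units.val_mul, det_mul, det_mul, Matrix.coe_units_inv,
          Matrix.det_nonsing_inv, Ring.inverse_eq_inv', e1]
        rfl
      rw [e1, e2]
      calc σ * ((h7_colMat s').det * σ * ((h7_colMat s).det)⁻¹)
          = (σ * σ) * ((h7_colMat s').det * ((h7_colMat s).det)⁻¹) := by ring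
        _ = 1 := by
          rw [← hσ]
          field_simp
    · have h5 : (G' : GL (Fin 2) F) = (G' * A * G⁻¹) * G * A⁻¹ := by group
      have h6 := congrArg (fun x : GL (Fin 2) F => (x : Matrix (Fin 2) (Fin 2) F)) h5
      simp only [Units.val_mul] at h6
      exact h6

/-! ### the orbit lemma and the counting core -/

/-- **the orbit lemma**: every orbit of non-zero matrices has at least `q ^ (k + 1)` elements. -/
theorem h7_orbit_large [Fintype F] (hk : 2 ≤ k)
    (hk2 : k = 2 → ((2 : F) = 0 ∧ 3 ≤ Fintype.card F))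
    (M : Matrix (Fin k) (Fin 2) F) (hM : M ≠ 0) :
    ∃ S : Finset (Matrix (Fin k) (Fin 2) F), Fintype.card F ^ (k + 1) ≤ S.card ∧
      (0 : Matrix (Fin k) (Fin 2) F) ∉ S ∧ ∀ M' ∈ S, h7_Rel M M' := by
  set s : Fin 2 → (Fin k → F) := fun j i => M i j with hs_def
  have hMs : M = h7_colMat s := rfl
  have hs01 : s = ![s 0, s 1] := by
    funext j
    fin_cases j <;> rfl
  by_cases hs : LinearIndependent F s
  · by_cases hk3 : 3 ≤ k
    · rw [hMs]
      exact h7_orbit_indep_ge_three hk3 s hs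
    · have hk' : k = 2 := by omega
      subst hk'
      obtain ⟨h2, hq⟩ := hk2 rfl
      rw [hMs]
      exact h7_orbit_indep_two h2 hq s hs
  · rw [hs01, LinearIndependent.pair_iff] at hs
    push Not at hs
    obtain ⟨α, β, hαβ, hne⟩ := hs
    have hM0 : ¬ (s 0 = 0 ∧ s 1 = 0) := by
      rintro ⟨h0, h1⟩
      apply hM
      rw [hMs, hs01, h0, h1]
      ext i j
      fin_cases j <;> rfl
    by_cases hβ : β = 0
    · have hα : α ≠ 0 := fun h => hne h hβ
      rw [hβ, zero_smul, add_zero] at hαβ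
      have h0 : s 0 = 0 := (smul_eq_zero.mp hαβ).resolve_left hα
      have h1 : s 1 ≠ 0 := fun h1 => hM0 ⟨h0, h1⟩
      have hform : M = h7_colMat ![(0 : F) • s 1, (1 : F) • s 1] := by
        have h3 : s = ![(0 : F) • s 1, (1 : F) • s 1] := by
          rw [zero_smul, one_smul, ← h0]
          exact hs01
        rw [hMs]
        exact congrArg h7_colMat h3
      rw [hform]
      exact h7_orbit_rank_one hk (s 1) h1 0 1 (Or.inr one_ne_zero)
    · have h1 : s 1 = (-(α * β⁻¹)) • s 0 := by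
        have : β • s 1 = -(α • s 0) := by
          rw [eq_neg_iff_add_eq_zero, add_comm]
          exact hαβ
        calc s 1 = β⁻¹ • (β • s 1) := by rw [smul_smul, inv_mul_cancel₀ hβ, one_smul]
          _ = (-(α * β⁻¹)) • s 0 := by
            rw [this, smul_neg, smul_smul, neg_smul, mul_comm]
      have h0 : s 0 ≠ 0 := by
        intro h0
        apply hM0
        refine ⟨h0, ?_⟩
        rw [h1, h0, smul_zero]
      have hform : M = h7_colMat ![(1 : F) • s 0, (-(α * β⁻¹)) • s 0] := by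
        have h3 : s = ![(1 : F) • s 0, (-(α * β⁻¹)) • s 0] := by
          rw [one_smul, ← h1]
          exact hs01
        rw [hMs]
        exact congrArg h7_colMat h3
      rw [hform]
      exact h7_orbit_rank_one hk (s 0) h0 1 _ (Or.inl one_ne_zero)

/-- **the counting core of (5a)**: a multiplicity function on the `k × 2` matrices, invariant
under the group, positive at `0` and of total mass at most `q ^ (k + 1)`, vanishes away from `0`. -/
theorem h7_p5a_core [Fintype F] [DecidableEq F] (hk : 2 ≤ k)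
    (hk2 : k = 2 → ((2 : F) = 0 ∧ 3 ≤ Fintype.card F))
    (m : Matrix (Fin k) (Fin 2) F → ℕ)
    (hinv : ∀ M M', h7_Rel M M' → m M' = m M) (hm0 : 1 ≤ m 0)
    (hsum : ∑ M, m M ≤ Fintype.card F ^ (k + 1)) :
    ∀ M, M ≠ 0 → m M = 0 := by
  classical
  intro M hM
  by_contra hne
  have hpos : 1 ≤ m M := Nat.one_le_iff_ne_zero.mpr hne
  obtain ⟨S, hcard, h0S, hrel⟩ := h7_orbit_large hk hk2 M hM
  have h1 : ∑ M' ∈ insert (0 : Matrix (Fin k) (Fin 2) F) S, m M' ≤ ∑ M', m M' :=
    Finset.sum_le_sum_of_subset (Finset.subset_univ _)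
  rw [Finset.sum_insert h0S] at h1
  have h2 : S.card ≤ ∑ M' ∈ S, m M' := by
    calc S.card = ∑ _M' ∈ S, 1 := by simp
      _ ≤ ∑ M' ∈ S, m M' := by
        apply Finset.sum_le_sum
        intro M' hM'
        rw [hinv M M' (hrel M' hM')]
        exact hpos
  omega

end Cfsg.Agent.MinIdx
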