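import Mathlib
import Cfsg.Agent.MinIdx.H8_Tv
import Cfsg.Agent.MinIdx.H7_P5aOrb

set_option autoImplicit false
set_option linter.unusedSectionVars false

/-!
MinIdx / S2140 (helper7), piece P5a, the block matrices: the unipotent radical `Y` of the stabiliser
of a `2`-space in `SL_{2+k}(F)`, its Levi complement, and the weighted form of the counting core.
-/

namespace Cfsg.Agent.MinIdx

open Matrix

variable {F : Type*} [Field F] {k : ℕ}

/-- the block matrix `[[A, y], [0, B]]`, with indices in `Fin (2 + k)`. -/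
def h7_blk (A : Matrix (Fin 2) (Fin 2) F) (y : Matrix (Fin 2) (Fin k) F)
    (B : Matrix (Fin k) (Fin k) F) : Matrix (Fin (2 + k)) (Fin (2 + k)) F :=
  Matrix.reindex finSumFinEquiv finSumFinEquiv (Matrix.fromBlocks A y 0 B)

theorem h7_blk_det (A : Matrix (Fin 2) (Fin 2) F) (y : Matrix (Fin 2) (Fin k) F)
    (B : Matrix (Fin k) (Fin k) F) : (h7_blk A y B).det = A.det * B.det := by
  unfold h7_blk
  rw [Matrix.det_reindex_self, Matrix.det_fromBlocks_zero₂₁]

theorem h7_blk_mul (A A' : Matrix (Fin 2) (Fin 2) F) (y y' : Matrix (Fin 2) (Fin k) F)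
    (B B' : Matrix (Fin k) (Fin k) F) :
    h7_blk A y B * h7_blk A' y' B' = h7_blk (A * A') (A * y' + y * B') (B * B') := by
  unfold h7_blk
  rw [Matrix.reindex_apply, Matrix.reindex_apply, Matrix.reindex_apply, Matrix.submatrix_mul_equiv,
    Matrix.fromBlocks_multiply]
  congr 2 <;> simp

theorem h7_blk_congr {A A' : Matrix (Fin 2) (Fin 2) F} {y y' : Matrix (Fin 2) (Fin k) F}
    {B B' : Matrix (Fin k) (Fin k) F} (hA : A = A') (hy : y = y') (hB : B = B') :
    h7_blk A y B = h7_blk A' y' B' := by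
  rw [hA, hy, hB]

theorem h7_blk_one : h7_blk (1 : Matrix (Fin 2) (Fin 2) F) (0 : Matrix (Fin 2) (Fin k) F) 1 = 1 := by
  unfold h7_blk
  rw [Matrix.fromBlocks_one, Matrix.reindex_apply, Matrix.submatrix_one_equiv]

/-- the elements of `Y`. -/
def h7_Y (y : Matrix (Fin 2) (Fin k) F) : SpecialLinearGroup (Fin (2 + k)) F :=
  ⟨h7_blk 1 y 1, by rw [h7_blk_det, det_one, det_one, one_mul]⟩

/-- the elements of the Levi complement. -/
def h7_L (A : GL (Fin 2) F) (B : GL (Fin k) F)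
    (h : (A : Matrix (Fin 2) (Fin 2) F).det * (B : Matrix (Fin k) (Fin k) F).det = 1) :
    SpecialLinearGroup (Fin (2 + k)) F :=
  ⟨h7_blk (A : Matrix (Fin 2) (Fin 2) F) 0 (B : Matrix (Fin k) (Fin k) F), by rw [h7_blk_det, h]⟩

theorem h7_Y_zero : h7_Y (0 : Matrix (Fin 2) (Fin k) F) = 1 := by
  apply Subtype.ext
  exact h7_blk_one

theorem h7_Y_mul (y y' : Matrix (Fin 2) (Fin k) F) : h7_Y y * h7_Y y' = h7_Y (y + y') := by
  apply Subtype.ext
  show h7_blk 1 y 1 * h7_blk 1 y' 1 = h7_blk 1 (y + y') 1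
  rw [h7_blk_mul]
  exact h7_blk_congr (Matrix.one_mul _) (by rw [Matrix.one_mul, Matrix.mul_one, add_comm])
    (Matrix.one_mul _)

theorem h7_L_mul_Y (A : GL (Fin 2) F) (B : GL (Fin k) F)
    (h : (A : Matrix (Fin 2) (Fin 2) F).det * (B : Matrix (Fin k) (Fin k) F).det = 1)
    (y : Matrix (Fin 2) (Fin k) F) :
    h7_L A B h * h7_Y y
      = h7_Y ((A : Matrix (Fin 2) (Fin 2) F) * y * ((B⁻¹ : GL (Fin k) F) : Matrix (Fin k) (Fin k) F))
        * h7_L A B h := by
  apply Subtype.ext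
  show h7_blk (A : Matrix (Fin 2) (Fin 2) F) 0 (B : Matrix (Fin k) (Fin k) F) * h7_blk 1 y 1
    = h7_blk 1 ((A : Matrix (Fin 2) (Fin 2) F) * y *
        ((B⁻¹ : GL (Fin k) F) : Matrix (Fin k) (Fin k) F)) 1
      * h7_blk (A : Matrix (Fin 2) (Fin 2) F) 0 (B : Matrix (Fin k) (Fin k) F)
  rw [h7_blk_mul, h7_blk_mul]
  have hB : ((B⁻¹ : GL (Fin k) F) : Matrix (Fin k) (Fin k) F) * (B : Matrix (Fin k) (Fin k) F) = 1 := by
    rw [← Units.val_mul, inv_mul_cancel, Units.val_one]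
  refine h7_blk_congr ?_ ?_ ?_
  · rw [Matrix.mul_one, Matrix.one_mul]
  · rw [Matrix.zero_mul, add_zero, Matrix.one_mul, zero_add, Matrix.mul_assoc, hB,
      Matrix.mul_one]
  · rw [Matrix.mul_one, Matrix.one_mul]

/-- a transvection in `Y`. -/
theorem h7_Y_single :
    ((h7_Y (Matrix.single (0 : Fin 2) (0 : Fin (k + 1)) (1 : F)) :
      SpecialLinearGroup (Fin (2 + (k + 1))) F) : Matrix (Fin (2 + (k + 1))) (Fin (2 + (k + 1))) F)
      = h8_tvM (Pi.single (finSumFinEquiv (Sum.inl (0 : Fin 2))) 1)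
          (Pi.single (finSumFinEquiv (Sum.inr (0 : Fin (k + 1)))) 1) := by
  show h7_blk 1 _ 1 = _
  unfold h7_blk h8_tvM
  ext i j
  obtain ⟨i, rfl⟩ := (finSumFinEquiv (m := 2) (n := k + 1)).surjective i
  obtain ⟨j, rfl⟩ := (finSumFinEquiv (m := 2) (n := k + 1)).surjective j
  rw [Matrix.reindex_apply, Matrix.submatrix_apply, Equiv.symm_apply_apply, Equiv.symm_apply_apply,
    Matrix.add_apply, vecMulVec_apply, Matrix.one_apply, Pi.single_apply, Pi.single_apply]
  simp only [EmbeddingLike.apply_eq_iff_eq]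
  rcases i with i | i <;> rcases j with j | j
  · simp [Matrix.one_apply]
  · simp only [Matrix.fromBlocks_apply₁₂, Matrix.single_apply, reduceCtorEq, if_false, zero_add,
      Sum.inl.injEq, Sum.inr.injEq]
    by_cases hi : i = 0 <;> by_cases hj : j = 0
    · simp [hi, hj]
    · have : ¬ (0 : Fin (k + 1)) = j := fun h => hj h.symm
      simp [hi, hj, this]
    · have : ¬ (0 : Fin 2) = i := fun h => hi h.symm
      simp [hi, hj, this]
    · have : ¬ (0 : Fin 2) = i := fun h => hi h.symm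
      simp [hi, hj, this]
  · simp
  · simp [Matrix.one_apply]

/-! ### the weighted counting core -/

theorem h7_p5a_core_w [Fintype F] [DecidableEq F] (hk : 2 ≤ k)
    (hk2 : k = 2 → ((2 : F) = 0 ∧ 3 ≤ Fintype.card F)) (W : ℕ) (hW : 0 < W)
    (m : Matrix (Fin k) (Fin 2) F → ℕ)
    (hinv : ∀ M M', h7_Rel M M' → m M' = m M) (hm0 : W ≤ m 0)
    (hge : ∀ M, m M ≠ 0 → W ≤ m M)
    (hsum : ∑ M, m M ≤ W * Fintype.card F ^ (k + 1)) :
    ∀ M, M ≠ 0 → m M = 0 := by
  classical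
  intro M hM
  by_contra hne
  have hpos : W ≤ m M := hge M hne
  obtain ⟨S, hcard, h0S, hrel⟩ := h7_orbit_large hk hk2 M hM
  have h1 : ∑ M' ∈ insert (0 : Matrix (Fin k) (Fin 2) F) S, m M' ≤ ∑ M', m M' :=
    Finset.sum_le_sum_of_subset (Finset.subset_univ _)
  rw [Finset.sum_insert h0S] at h1
  have h2 : S.card * W ≤ ∑ M' ∈ S, m M' := by
    calc S.card * W = ∑ _M' ∈ S, W := by simp
      _ ≤ ∑ M' ∈ S, m M' := by
        apply Finset.sum_le_sum
        intro M' hM'
        rw [hinv M M' (hrel M' hM')]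
        exact hpos
  have h3 : Fintype.card F ^ (k + 1) * W ≤ S.card * W := Nat.mul_le_mul_right _ hcard
  nlinarith

end Cfsg.Agent.MinIdx
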