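import Mathlib
import Cfsg.Agent.MinIdx.H9_CountB
import Cfsg.Agent.MinIdx.H9_CountSym
import Cfsg.Agent.MinIdx.H7_P5aBlk

set_option autoImplicit false
set_option linter.unusedSectionVars false

/-!
MinIdx / S2140 (helper7), piece P5a: in characteristic two, for `n ≥ 4` and `(n, q) ≠ (4, 2)`, the
group `SL_n(F)` has no action on at most `q ^ (n - 1)` points in which the transvections act without
fixed points.  (Counting the characters of the unipotent radical `Y` of the stabiliser of a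
`2`-space, by helper9's `h9_M`.)
-/

namespace Cfsg.Agent.MinIdx

open Matrix

variable {F : Type*} [Field F] {k : ℕ}

/-- a function on the pairs as a `2 × k` matrix. -/
def h7_toMat (y : Fin 2 × Fin k → F) : Matrix (Fin 2) (Fin k) F := fun i j => y (i, j)

/-- a `2 × k` matrix as a function on the pairs. -/
def h7_ofMat (N : Matrix (Fin 2) (Fin k) F) : Fin 2 × Fin k → F := fun p => N p.1 p.2

/-- a `k × 2` matrix as a function on the pairs (the dual coordinates). -/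
def h7_ofM (M : Matrix (Fin k) (Fin 2) F) : Fin 2 × Fin k → F := fun p => M p.2 p.1

theorem h7_toMat_ofMat (N : Matrix (Fin 2) (Fin k) F) : h7_toMat (h7_ofMat N) = N := rfl

theorem h7_ofMat_toMat (y : Fin 2 × Fin k → F) : h7_ofMat (h7_toMat y) = y := by
  funext ⟨i, j⟩
  rfl

/-- the dual coordinates, as an equivalence. -/
def h7_ofMEquiv (F : Type*) [Field F] (k : ℕ) : Matrix (Fin k) (Fin 2) F ≃ (Fin 2 × Fin k → F) where
  toFun := h7_ofM
  invFun c := fun j i => c (i, j)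
  left_inv _ := rfl
  right_inv c := by
    funext ⟨i, j⟩
    rfl

theorem h7_ofM_dot (M : Matrix (Fin k) (Fin 2) F) (y : Fin 2 × Fin k → F) :
    h7_ofM M ⬝ᵥ y = (M * h7_toMat y).trace := by
  show ∑ p : Fin 2 × Fin k, M p.2 p.1 * y p = ∑ j, (M * h7_toMat y) j j
  rw [Fintype.sum_prod_type, Finset.sum_comm]
  apply Finset.sum_congr rfl
  intro j _
  rw [Matrix.mul_apply]
  rfl

/-- the action of `Y` on a `G`-set. -/
@[reducible] def h7_addAction {Ω : Type*} (ρ : SpecialLinearGroup (Fin (2 + k)) F →* Equiv.Perm Ω) :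
    AddAction (Fin 2 × Fin k → F) Ω where
  vadd y ω := ρ (h7_Y (h7_toMat y)) ω
  zero_vadd ω := by
    show ρ (h7_Y (h7_toMat 0)) ω = ω
    rw [show h7_toMat (0 : Fin 2 × Fin k → F) = 0 from rfl, h7_Y_zero, map_one]
    rfl
  add_vadd y y' ω := by
    show ρ (h7_Y (h7_toMat (y + y'))) ω = ρ (h7_Y (h7_toMat y)) (ρ (h7_Y (h7_toMat y')) ω)
    rw [show h7_toMat (y + y') = h7_toMat y + h7_toMat y' from rfl, ← h7_Y_mul, map_mul]
    rfl

theorem h7_units_mul_cancel {ι : Type*} [Fintype ι] [DecidableEq ι] (A : GL ι F) :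
    ((A⁻¹ : GL ι F) : Matrix ι ι F) * (A : Matrix ι ι F) = 1 ∧
      (A : Matrix ι ι F) * ((A⁻¹ : GL ι F) : Matrix ι ι F) = 1 := by
  constructor
  · rw [← Units.val_mul, inv_mul_cancel, Units.val_one]
  · rw [← Units.val_mul, mul_inv_cancel, Units.val_one]

/-- the symmetry `y ↦ A y B⁻¹`. -/
def h7_g (A : GL (Fin 2) F) (B : GL (Fin k) F) :
    (Fin 2 × Fin k → F) ≃+ (Fin 2 × Fin k → F) where
  toFun y := h7_ofMat ((A : Matrix (Fin 2) (Fin 2) F) * h7_toMat y *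
    ((B⁻¹ : GL (Fin k) F) : Matrix (Fin k) (Fin k) F))
  invFun y := h7_ofMat (((A⁻¹ : GL (Fin 2) F) : Matrix (Fin 2) (Fin 2) F) * h7_toMat y *
    (B : Matrix (Fin k) (Fin k) F))
  left_inv y := by
    show h7_ofMat (((A⁻¹ : GL (Fin 2) F) : Matrix (Fin 2) (Fin 2) F) *
      h7_toMat (h7_ofMat ((A : Matrix (Fin 2) (Fin 2) F) * h7_toMat y *
        ((B⁻¹ : GL (Fin k) F) : Matrix (Fin k) (Fin k) F))) * (B : Matrix (Fin k) (Fin k) F)) = y
    rw [h7_toMat_ofMat]
    have : ((A⁻¹ : GL (Fin 2) F) : Matrix (Fin 2) (Fin 2) F) *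
        ((A : Matrix (Fin 2) (Fin 2) F) * h7_toMat y *
          ((B⁻¹ : GL (Fin k) F) : Matrix (Fin k) (Fin k) F)) * (B : Matrix (Fin k) (Fin k) F)
        = h7_toMat y := by
      rw [Matrix.mul_assoc, Matrix.mul_assoc, (h7_units_mul_cancel B).1, Matrix.mul_one,
        ← Matrix.mul_assoc, (h7_units_mul_cancel A).1, Matrix.one_mul]
    rw [this, h7_ofMat_toMat]
  right_inv y := by
    show h7_ofMat ((A : Matrix (Fin 2) (Fin 2) F) *
      h7_toMat (h7_ofMat (((A⁻¹ : GL (Fin 2) F) : Matrix (Fin 2) (Fin 2) F) * h7_toMat y *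
        (B : Matrix (Fin k) (Fin k) F))) * ((B⁻¹ : GL (Fin k) F) : Matrix (Fin k) (Fin k) F)) = y
    rw [h7_toMat_ofMat]
    have : (A : Matrix (Fin 2) (Fin 2) F) *
        (((A⁻¹ : GL (Fin 2) F) : Matrix (Fin 2) (Fin 2) F) * h7_toMat y *
          (B : Matrix (Fin k) (Fin k) F)) * ((B⁻¹ : GL (Fin k) F) : Matrix (Fin k) (Fin k) F)
        = h7_toMat y := by
      rw [Matrix.mul_assoc, Matrix.mul_assoc, (h7_units_mul_cancel B).2, Matrix.mul_one,
        ← Matrix.mul_assoc, (h7_units_mul_cancel A).2, Matrix.one_mul]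
    rw [this, h7_ofMat_toMat]
  map_add' y y' := by
    show h7_ofMat ((A : Matrix (Fin 2) (Fin 2) F) * h7_toMat (y + y') *
        ((B⁻¹ : GL (Fin k) F) : Matrix (Fin k) (Fin k) F))
      = h7_ofMat ((A : Matrix (Fin 2) (Fin 2) F) * h7_toMat y *
        ((B⁻¹ : GL (Fin k) F) : Matrix (Fin k) (Fin k) F))
      + h7_ofMat ((A : Matrix (Fin 2) (Fin 2) F) * h7_toMat y' *
        ((B⁻¹ : GL (Fin k) F) : Matrix (Fin k) (Fin k) F))
    rw [show h7_toMat (y + y') = h7_toMat y + h7_toMat y' from rfl, Matrix.mul_add, Matrix.add_mul]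
    rfl

theorem h7_toMat_g (A : GL (Fin 2) F) (B : GL (Fin k) F) (y : Fin 2 × Fin k → F) :
    h7_toMat (h7_g A B y) = (A : Matrix (Fin 2) (Fin 2) F) * h7_toMat y *
      ((B⁻¹ : GL (Fin k) F) : Matrix (Fin k) (Fin k) F) := rfl

/-- **P5a.** -/
theorem h7_no_tf_even {F : Type*} [Field F] [Fintype F] {n : ℕ} (hn : 4 ≤ n) (h2 : (2 : F) = 0)
    (hex : ¬ (n = 4 ∧ Fintype.card F = 2)) {Ω : Type*} [Fintype Ω] [Nonempty Ω]
    (ρ : SpecialLinearGroup (Fin n) F →* Equiv.Perm Ω)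
    (hcard : Fintype.card Ω ≤ Fintype.card F ^ (n - 1))
    (hfree : ∀ (e φ : Fin n → F) (h : φ ⬝ᵥ e = 0) (ω : Ω),
      ρ (h8_tv e φ h) ω = ω → e = 0 ∨ φ = 0) : False := by
  classical
  obtain ⟨k, rfl⟩ : ∃ k, n = 2 + (k + 1) := ⟨n - 3, by omega⟩
  have hk : 2 ≤ k + 1 := by omega
  have hq : 2 ≤ Fintype.card F := Fintype.one_lt_card
  have hk2 : k + 1 = 2 → ((2 : F) = 0 ∧ 3 ≤ Fintype.card F) := by
    intro hk2
    refine ⟨h2, ?_⟩
    by_contra hlt
    apply hex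
    constructor <;> omega
  let _ : AddAction (Fin 2 × Fin (k + 1) → F) Ω := h7_addAction ρ
  obtain ⟨ψ, hψ⟩ := h9_exists_char (F := F)
  set m : Matrix (Fin (k + 1)) (Fin 2) F → ℕ :=
    fun M => h9_M (Fin 2 × Fin (k + 1)) ψ Ω (h7_ofM M) with hm
  have hcardι : Fintype.card (Fin 2 × Fin (k + 1)) = 2 * (k + 1) := by simp
  -- invariance
  have hinv : ∀ M M', h7_Rel M M' → m M' = m M := by
    rintro M M' ⟨A, B, hdet, rfl⟩
    refine h9_M_symm (h7_g A B) (ρ (h7_L A B hdet)) ?_ (h7_ofM M) _ ?_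
    · intro y ω
      show ρ (h7_L A B hdet) (ρ (h7_Y (h7_toMat y)) ω)
        = ρ (h7_Y (h7_toMat (h7_g A B y))) (ρ (h7_L A B hdet) ω)
      rw [h7_toMat_g, ← Equiv.Perm.mul_apply, ← Equiv.Perm.mul_apply, ← map_mul, ← map_mul,
        h7_L_mul_Y]
    · intro y
      rw [h7_ofM_dot, h7_ofM_dot, h7_toMat_g]
      congr 1
      have e1 : (B : Matrix (Fin (k + 1)) (Fin (k + 1)) F) * M *
          ((A⁻¹ : GL (Fin 2) F) : Matrix (Fin 2) (Fin 2) F) *
          ((A : Matrix (Fin 2) (Fin 2) F) * h7_toMat y *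
            ((B⁻¹ : GL (Fin (k + 1)) F) : Matrix (Fin (k + 1)) (Fin (k + 1)) F))
          = (B : Matrix (Fin (k + 1)) (Fin (k + 1)) F) * ((M * h7_toMat y) *
            ((B⁻¹ : GL (Fin (k + 1)) F) : Matrix (Fin (k + 1)) (Fin (k + 1)) F)) := by
        simp only [Matrix.mul_assoc]
        rw [← Matrix.mul_assoc ((A⁻¹ : GL (Fin 2) F) : Matrix (Fin 2) (Fin 2) F),
          (h7_units_mul_cancel A).1, Matrix.one_mul]
      rw [e1, Matrix.trace_mul_comm, Matrix.mul_assoc, (h7_units_mul_cancel B).1, Matrix.mul_one]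
  -- the weights
  set W : ℕ := Fintype.card F ^ Fintype.card (Fin 2 × Fin (k + 1)) with hW
  have hWpos : 0 < W := pow_pos (by omega) _
  have hm0 : W ≤ m 0 := by
    have : h7_ofM (0 : Matrix (Fin (k + 1)) (Fin 2) F) = 0 := rfl
    show W ≤ h9_M (Fin 2 × Fin (k + 1)) ψ Ω (h7_ofM 0)
    rw [this]
    exact h9_M_zero_ge ψ
  have hge : ∀ M, m M ≠ 0 → W ≤ m M := fun M hM => h9_M_ne_zero_ge hM
  have hsum : ∑ M, m M ≤ W * Fintype.card F ^ (k + 1 + 1) := by
    have h1 : ∑ M, m M = ∑ c : Fin 2 × Fin (k + 1) → F, h9_M (Fin 2 × Fin (k + 1)) ψ Ω c :=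
      Equiv.sum_comp (h7_ofMEquiv F (k + 1)) (fun c => h9_M (Fin 2 × Fin (k + 1)) ψ Ω c)
    rw [h1, h9_sum_M hψ, mul_comm]
    apply Nat.mul_le_mul_left
    have : 2 + (k + 1) - 1 = k + 1 + 1 := by omega
    rw [this] at hcard
    exact hcard
  have hzero := h7_p5a_core_w hk hk2 W hWpos m hinv hm0 hge hsum
  -- `Y` acts trivially
  have htriv := h9_trivial_of_M (ι := Fin 2 × Fin (k + 1)) (Ω := Ω) hψ (by
    intro c hc
    have h1 : c = h7_ofM ((h7_ofMEquiv F (k + 1)).symm c) :=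
      ((h7_ofMEquiv F (k + 1)).apply_symm_apply c).symm
    rw [h1]
    apply hzero
    intro h0
    apply hc
    rw [h1, h0]
    rfl)
  -- a transvection in `Y`
  have hne : (finSumFinEquiv (Sum.inr (0 : Fin (k + 1))) : Fin (2 + (k + 1)))
      ≠ finSumFinEquiv (Sum.inl (0 : Fin 2)) := by
    intro h
    have := finSumFinEquiv.injective h
    exact Sum.inr_ne_inl this
  have hdot : (Pi.single (finSumFinEquiv (Sum.inr (0 : Fin (k + 1)))) (1 : F) :
        Fin (2 + (k + 1)) → F)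
      ⬝ᵥ (Pi.single (finSumFinEquiv (Sum.inl (0 : Fin 2))) (1 : F)) = 0 := by
    rw [single_dotProduct, one_mul, Pi.single_apply, if_neg hne]
  have hY : h7_Y (Matrix.single (0 : Fin 2) (0 : Fin (k + 1)) (1 : F))
      = h8_tv (Pi.single (finSumFinEquiv (Sum.inl (0 : Fin 2))) 1)
          (Pi.single (finSumFinEquiv (Sum.inr (0 : Fin (k + 1)))) 1) hdot :=
    Subtype.ext h7_Y_single
  have hfix := htriv (h7_ofMat (Matrix.single (0 : Fin 2) (0 : Fin (k + 1)) (1 : F)))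
    (Classical.arbitrary Ω)
  have hfix' : ρ (h7_Y (Matrix.single (0 : Fin 2) (0 : Fin (k + 1)) (1 : F)))
      (Classical.arbitrary Ω) = Classical.arbitrary Ω := hfix
  rw [hY] at hfix'
  rcases hfree _ _ hdot _ hfix' with h0 | h0
  · have := congrFun h0 (finSumFinEquiv (Sum.inl (0 : Fin 2)))
    simp at this
  · have := congrFun h0 (finSumFinEquiv (Sum.inr (0 : Fin (k + 1))))
    simp at this

end Cfsg.Agent.MinIdx
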