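import Mathlib
import Cfsg.Agent.MinIdx.H8_L3

set_option autoImplicit false
set_option linter.unusedSectionVars false
set_option linter.unusedVariables false

/-! S2140: conjugation of transvections and transitivity of `SL_n(F)` on non-zero vectors
(helper8). -/

namespace Cfsg.Agent.MinIdx

open Matrix

variable {F : Type*} [Field F] {n : ℕ}

theorem h8_conj_dot (g : SpecialLinearGroup (Fin n) F) (e φ : Fin n → F) :
    (φ ᵥ* (g⁻¹ : SpecialLinearGroup (Fin n) F).1) ⬝ᵥ (g.1 *ᵥ e) = φ ⬝ᵥ e := by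
  rw [← dotProduct_mulVec, mulVec_mulVec]
  have : (g⁻¹ : SpecialLinearGroup (Fin n) F).1 * g.1 = 1 := by
    have h := congrArg Subtype.val (inv_mul_cancel g)
    exact h
  rw [this, one_mulVec]

/-- `g T(e,φ) g⁻¹ = T(g e, φ g⁻¹)`. -/
theorem h8_tv_conj (g : SpecialLinearGroup (Fin n) F) (e φ : Fin n → F) (h : φ ⬝ᵥ e = 0) :
    g * h8_tv e φ h * g⁻¹ = h8_tv (g.1 *ᵥ e) (φ ᵥ* (g⁻¹ : SpecialLinearGroup (Fin n) F).1)
      (by rw [h8_conj_dot, h]) := by
  apply Subtype.ext
  change g.1 * h8_tvM e φ * (g⁻¹ : SpecialLinearGroup (Fin n) F).1 = h8_tvM _ _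
  unfold h8_tvM
  rw [mul_add, add_mul, mul_one, mul_vecMulVec, vecMulVec_mul]
  congr 1
  have h1 := congrArg Subtype.val (mul_inv_cancel g)
  exact h1

/-- `T(u,φ) e = e + (φ·e) u`. -/
theorem h8_tv_mulVec (u φ : Fin n → F) (h : φ ⬝ᵥ u = 0) (e : Fin n → F) :
    (h8_tv u φ h).1 *ᵥ e = e + (φ ⬝ᵥ e) • u := by
  change h8_tvM u φ *ᵥ e = _
  unfold h8_tvM
  rw [add_mulVec, one_mulVec, vecMulVec_mulVec, op_smul_eq_smul]

/-- One transvection moves `e` to any `e'` not proportional to it. -/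
theorem h8_sl_move (e e' : Fin n → F) (he : e ≠ 0) (hind : ∀ c : F, e' ≠ c • e) :
    ∃ g : SpecialLinearGroup (Fin n) F, g.1 *ᵥ e = e' := by
  have hnot : e ∉ Submodule.span F {e' - e} := by
    intro hmem
    rw [Submodule.mem_span_singleton] at hmem
    obtain ⟨c, hc⟩ := hmem
    have hc0 : c ≠ 0 := by
      intro h0
      rw [h0, zero_smul] at hc
      exact he hc.symm
    apply hind (c⁻¹ + 1)
    have : c • e' = (1 + c) • e := by
      rw [smul_sub] at hc
      rw [add_smul, one_smul]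
      exact sub_eq_iff_eq_add.mp hc
    calc e' = c⁻¹ • (c • e') := by rw [smul_smul, inv_mul_cancel₀ hc0, one_smul]
      _ = (c⁻¹ + 1) • e := by
          rw [this, smul_smul]
          congr 1
          field_simp
  obtain ⟨φ, hφU, hφe⟩ := h8_exists_dot _ e hnot
  have hφd : φ ⬝ᵥ (e' - e) = 0 := hφU _ (Submodule.subset_span rfl)
  have hu : φ ⬝ᵥ ((φ ⬝ᵥ e)⁻¹ • (e' - e)) = 0 := by
    rw [dotProduct_smul, hφd, smul_zero]
  refine ⟨h8_tv ((φ ⬝ᵥ e)⁻¹ • (e' - e)) φ hu, ?_⟩
  rw [h8_tv_mulVec, smul_smul, mul_inv_cancel₀ hφe, one_smul]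
  abel

/-- `SL_n(F)`, `n ≥ 2`, is transitive on non-zero vectors. -/
theorem h8_sl_trans (hn : 2 ≤ n) (e e' : Fin n → F) (he : e ≠ 0) (he' : e' ≠ 0) :
    ∃ g : SpecialLinearGroup (Fin n) F, g.1 *ᵥ e = e' := by
  by_cases hind : ∀ c : F, e' ≠ c • e
  · exact h8_sl_move e e' he hind
  · push Not at hind
    obtain ⟨c, hc⟩ := hind
    have hc0 : c ≠ 0 := by
      intro h0
      rw [h0, zero_smul] at hc
      exact he' hc
    -- a vector outside the line `F e`
    have hlt : Submodule.span F {e} ≠ ⊤ := by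
      intro htop
      have h1 : Module.finrank F (Submodule.span F ({e} : Set (Fin n → F))) = 1 :=
        finrank_span_singleton he
      rw [htop, finrank_top, Module.finrank_fin_fun] at h1
      omega
    obtain ⟨w, hw⟩ : ∃ w : Fin n → F, w ∉ Submodule.span F {e} := by
      by_contra hcon
      push Not at hcon
      exact hlt (eq_top_iff.mpr fun x _ => hcon x)
    have hw1 : ∀ a : F, w ≠ a • e := by
      intro a ha
      apply hw
      rw [ha]
      exact Submodule.smul_mem _ _ (Submodule.subset_span rfl)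
    have hw0 : w ≠ 0 := by
      intro h0
      apply hw1 0
      rw [h0, zero_smul]
    have hw2 : ∀ a : F, e' ≠ a • w := by
      intro a ha
      have ha0 : a ≠ 0 := by
        intro h0
        rw [h0, zero_smul] at ha
        exact he' ha
      apply hw1 (a⁻¹ * c)
      rw [← smul_smul, ← hc, ha, smul_smul, inv_mul_cancel₀ ha0, one_smul]
    obtain ⟨g1, hg1⟩ := h8_sl_move e w he hw1
    obtain ⟨g2, hg2⟩ := h8_sl_move w e' hw0 hw2
    refine ⟨g2 * g1, ?_⟩
    change (g2.1 * g1.1) *ᵥ e = e'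
    rw [← mulVec_mulVec, hg1, hg2]

end Cfsg.Agent.MinIdx
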