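import Mathlib
import Cfsg.Agent.MinIdx.H8_Tv

set_option autoImplicit false
set_option linter.unusedSectionVars false
set_option linter.unusedVariables false

/-! S2140: the dual twist `g ↦ (g⁻¹)ᵀ` of `SL_n(F)` and the twisted action (helper8). -/

namespace Cfsg.Agent.MinIdx

open Matrix

variable {F : Type*} [Field F] {n : ℕ}

theorem h8_transpose_transpose (g : SpecialLinearGroup (Fin n) F) :
    g.transpose.transpose = g := by
  apply Subtype.ext
  rw [SpecialLinearGroup.coe_transpose, SpecialLinearGroup.coe_transpose,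
    Matrix.transpose_transpose]

theorem h8_transpose_mul (g h : SpecialLinearGroup (Fin n) F) :
    (g * h).transpose = h.transpose * g.transpose := by
  apply Subtype.ext
  change ((g : Matrix (Fin n) (Fin n) F) * (h : Matrix (Fin n) (Fin n) F))ᵀ =
    (h : Matrix (Fin n) (Fin n) F)ᵀ * (g : Matrix (Fin n) (Fin n) F)ᵀ
  rw [Matrix.transpose_mul]

theorem h8_transpose_one : (1 : SpecialLinearGroup (Fin n) F).transpose = 1 := by
  apply Subtype.ext
  change (1 : Matrix (Fin n) (Fin n) F)ᵀ = 1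
  rw [Matrix.transpose_one]

theorem h8_transpose_inv (g : SpecialLinearGroup (Fin n) F) :
    (g⁻¹).transpose = (g.transpose)⁻¹ := by
  rw [eq_inv_iff_mul_eq_one, ← h8_transpose_mul, mul_inv_cancel, h8_transpose_one]

/-- The inverse-transpose automorphism of `SL_n(F)`. -/
def h8_invT : SpecialLinearGroup (Fin n) F ≃* SpecialLinearGroup (Fin n) F where
  toFun g := (g⁻¹).transpose
  invFun g := (g⁻¹).transpose
  left_inv g := by
    change (((g⁻¹).transpose)⁻¹).transpose = g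
    rw [h8_transpose_inv, h8_transpose_transpose, inv_inv]
  right_inv g := by
    change (((g⁻¹).transpose)⁻¹).transpose = g
    rw [h8_transpose_inv, h8_transpose_transpose, inv_inv]
  map_mul' g h := by
    rw [_root_.mul_inv_rev, h8_transpose_mul]

theorem h8_invT_apply (g : SpecialLinearGroup (Fin n) F) : h8_invT g = (g⁻¹).transpose := rfl

theorem h8_invT_coe (g : SpecialLinearGroup (Fin n) F) :
    (h8_invT g : Matrix (Fin n) (Fin n) F) = ((g⁻¹ : SpecialLinearGroup (Fin n) F) :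
      Matrix (Fin n) (Fin n) F)ᵀ := rfl

theorem h8_invT_invT (g : SpecialLinearGroup (Fin n) F) : h8_invT (h8_invT g) = g :=
  h8_invT.left_inv g

/-- `(T(e,φ)⁻¹)ᵀ = T(φ,−e)`. -/
theorem h8_invT_tv (e φ : Fin n → F) (h : φ ⬝ᵥ e = 0) :
    h8_invT (h8_tv e φ h) = h8_tv φ (-e) (by rw [neg_dotProduct, dotProduct_comm, h, neg_zero]) := by
  apply Subtype.ext
  rw [h8_invT_coe, h8_tv_inv, h8_tv_coe, h8_tv_coe, h8_tvM, h8_tvM, Matrix.transpose_add,
    Matrix.transpose_one, Matrix.transpose_vecMulVec, Matrix.vecMulVec_neg, Matrix.neg_vecMulVec]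

/-- `T(e,φ) = T(−e,−φ)`. -/
theorem h8_tv_neg_neg (e φ : Fin n → F) (h : φ ⬝ᵥ e = 0) :
    h8_tv (-e) (-φ) (by rw [neg_dotProduct, dotProduct_neg, h, neg_zero, neg_zero]) = h8_tv e φ h := by
  apply Subtype.ext
  rw [h8_tv_coe, h8_tv_coe, h8_tvM, h8_tvM, Matrix.vecMulVec_neg, Matrix.neg_vecMulVec, neg_neg]

/-- The `SL_n(F)`-set `Ω` with the action twisted by inverse-transpose. -/
def h8_Dual (Ω : Type*) : Type _ := Ω

/-- The identity map `Ω → h8_Dual Ω`. -/
def h8_toDual {Ω : Type*} : Ω ≃ h8_Dual Ω := Equiv.refl Ω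

instance h8_Dual_fintype {Ω : Type*} [Fintype Ω] : Fintype (h8_Dual Ω) :=
  inferInstanceAs (Fintype Ω)

theorem h8_Dual_card {Ω : Type*} [Fintype Ω] : Fintype.card (h8_Dual Ω) = Fintype.card Ω := rfl

instance h8_Dual_mulAction {Ω : Type*} [MulAction (SpecialLinearGroup (Fin n) F) Ω] :
    MulAction (SpecialLinearGroup (Fin n) F) (h8_Dual Ω) where
  smul g ω := h8_toDual ((h8_invT g) • (h8_toDual.symm ω))
  one_smul ω := by
    change h8_toDual ((h8_invT (1 : SpecialLinearGroup (Fin n) F)) • (h8_toDual.symm ω)) = ω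
    rw [map_one, one_smul]
    rfl
  mul_smul g h ω := by
    change h8_toDual ((h8_invT (g * h)) • (h8_toDual.symm ω)) =
      h8_toDual ((h8_invT g) • (h8_toDual.symm (h8_toDual ((h8_invT h) • (h8_toDual.symm ω)))))
    rw [map_mul, mul_smul]
    rfl

theorem h8_Dual_smul {Ω : Type*} [MulAction (SpecialLinearGroup (Fin n) F) Ω]
    (g : SpecialLinearGroup (Fin n) F) (ω : h8_Dual Ω) :
    g • ω = h8_toDual ((h8_invT g) • (h8_toDual.symm ω)) := rfl

theorem h8_Dual_smul_eq_iff {Ω : Type*} [MulAction (SpecialLinearGroup (Fin n) F) Ω]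
    (g : SpecialLinearGroup (Fin n) F) (ω : Ω) :
    g • (h8_toDual ω : h8_Dual Ω) = h8_toDual ω ↔ (h8_invT g) • ω = ω := by
  rw [h8_Dual_smul]
  constructor
  · intro h
    exact h8_toDual.injective h
  · intro h
    exact congrArg h8_toDual h

instance h8_Dual_pretransitive {Ω : Type*} [MulAction (SpecialLinearGroup (Fin n) F) Ω]
    [MulAction.IsPretransitive (SpecialLinearGroup (Fin n) F) Ω] :
    MulAction.IsPretransitive (SpecialLinearGroup (Fin n) F) (h8_Dual Ω) where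
  exists_smul_eq a b := by
    obtain ⟨g, hg⟩ := MulAction.exists_smul_eq (SpecialLinearGroup (Fin n) F)
      (h8_toDual.symm a) (h8_toDual.symm b)
    refine ⟨h8_invT g, ?_⟩
    rw [h8_Dual_smul, h8_invT_invT, hg]
    rfl

/-- A transvection `T(e,φ)` fixes `ω ∈ Ω` iff `T(−φ,e)` fixes `ω` in the dual action. -/
theorem h8_Dual_tv_fix_iff {Ω : Type*} [MulAction (SpecialLinearGroup (Fin n) F) Ω]
    (e φ : Fin n → F) (h : φ ⬝ᵥ e = 0) (ω : Ω) :
    h8_tv (-φ) e (by rw [dotProduct_neg, dotProduct_comm, h, neg_zero]) • (h8_toDual ω : h8_Dual Ω)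
      = h8_toDual ω ↔ h8_tv e φ h • ω = ω := by
  rw [h8_Dual_smul_eq_iff, h8_invT_tv]
  have : h8_tv e (- -φ) (by rw [neg_neg]; exact h) = h8_tv e φ h :=
    (h8_tv_congr e (- -φ) φ (by rw [neg_neg]; exact h) (neg_neg φ))
  rw [this]

/-- TYPE I at all centres for the dual action gives TYPE I at all axes for the action. -/
theorem h8_Dual_hI {Ω : Type*} [MulAction (SpecialLinearGroup (Fin n) F) Ω]
    (hI : ∀ (e φ : Fin n → F) (h : φ ⬝ᵥ e = 0), e ≠ 0 → φ ≠ 0 → ∀ ω : h8_Dual Ω,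
      h8_tv e φ h • ω = ω → ∀ (φ' : Fin n → F) (h' : φ' ⬝ᵥ e = 0), h8_tv e φ' h' • ω = ω) :
    ∀ (e φ : Fin n → F) (h : φ ⬝ᵥ e = 0), e ≠ 0 → φ ≠ 0 → ∀ ω : Ω, h8_tv e φ h • ω = ω →
      ∀ (e' : Fin n → F) (h' : φ ⬝ᵥ e' = 0), h8_tv e' φ h' • ω = ω := by
  intro e φ h he hφ ω hfix e' h'
  have h1 := (h8_Dual_tv_fix_iff e φ h ω).mpr hfix
  have h2 := hI (-φ) e (by rw [dotProduct_neg, dotProduct_comm, h, neg_zero]) (neg_ne_zero.mpr hφ) he
    (h8_toDual ω) h1 e' (by rw [dotProduct_neg, dotProduct_comm, h', neg_zero])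
  exact (h8_Dual_tv_fix_iff e' φ h' ω).mp h2

end Cfsg.Agent.MinIdx
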