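import Mathlib
import Cfsg.Agent.MinIdx.H8_L4
import Cfsg.Agent.MinIdx.H8_Dual
import Cfsg.Agent.MinIdx.H8_Conj

set_option autoImplicit false
set_option linter.unusedSectionVars false
set_option linter.unusedVariables false

/-! S2140: the two TYPES of Lemma A/B at a centre `e`, their transport under conjugation, and
the consequences of Lemmas 3 and 4 (helper8). -/

namespace Cfsg.Agent.MinIdx

open Matrix

variable {F : Type*} [Field F] {n : ℕ}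

/-- `ω` is fixed by the whole group `A^e = {T(e,φ) : φ·e = 0}`. -/
def h8_FixA (Ω : Type*) [MulAction (SpecialLinearGroup (Fin n) F) Ω] (e : Fin n → F) (ω : Ω) :
    Prop :=
  ∀ (φ : Fin n → F) (h : φ ⬝ᵥ e = 0), h8_tv e φ h • ω = ω

/-- TYPE I at the centre `e`: every point is either fixed by `A^e` or moved by every non-trivial
element of `A^e`, and the moved points form a single `A^e`-orbit. -/
def h8_TypeI (Ω : Type*) [MulAction (SpecialLinearGroup (Fin n) F) Ω] (e : Fin n → F) : Prop :=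
  (∀ ω : Ω, h8_FixA Ω e ω ∨
    ∀ (φ : Fin n → F) (h : φ ⬝ᵥ e = 0), φ ≠ 0 → h8_tv e φ h • ω ≠ ω) ∧
  (∀ ω ω' : Ω, ¬ h8_FixA Ω e ω → ¬ h8_FixA Ω e ω' →
    ∃ (φ : Fin n → F) (h : φ ⬝ᵥ e = 0), h8_tv e φ h • ω = ω')

/-- TYPE II' at the centre `e`: the stabiliser of every point in `A^e` is the hyperplane
`{T(e,φ) : φ·v = 0}` for a vector `v ∉ F e`. -/
def h8_TypeII (Ω : Type*) [MulAction (SpecialLinearGroup (Fin n) F) Ω] (e : Fin n → F) : Prop :=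
  ∀ ω : Ω, ∃ v : Fin n → F, (∀ c : F, v ≠ c • e) ∧
    ∀ (φ : Fin n → F) (h : φ ⬝ᵥ e = 0), (h8_tv e φ h • ω = ω ↔ φ ⬝ᵥ v = 0)

theorem h8_conj_dot' (g : SpecialLinearGroup (Fin n) F) (e φ : Fin n → F) :
    (φ ᵥ* g.1) ⬝ᵥ e = φ ⬝ᵥ (g.1 *ᵥ e) := by
  rw [dotProduct_mulVec]

/-- `T(g e, φ) = g T(e, φ g) g⁻¹`. -/
theorem h8_tv_conj' (g : SpecialLinearGroup (Fin n) F) (e φ : Fin n → F)
    (h : φ ⬝ᵥ (g.1 *ᵥ e) = 0) :
    h8_tv (g.1 *ᵥ e) φ h = g * h8_tv e (φ ᵥ* g.1) (by rw [h8_conj_dot', h]) * g⁻¹ := by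
  rw [h8_tv_conj]
  apply h8_tv_congr
  rw [vecMul_vecMul]
  have h1 : g.1 * (g⁻¹ : SpecialLinearGroup (Fin n) F).1 = 1 :=
    congrArg Subtype.val (mul_inv_cancel g)
  rw [h1, vecMul_one]

theorem h8_conj_smul_iff {G Ω : Type*} [Group G] [MulAction G Ω] (g t : G) (ω : Ω) :
    (g * t * g⁻¹) • ω = ω ↔ t • (g⁻¹ • ω) = g⁻¹ • ω := by
  rw [mul_smul, mul_smul]
  constructor
  · intro h
    have h2 : g⁻¹ • (g • t • g⁻¹ • ω) = g⁻¹ • ω := congrArg (fun z => g⁻¹ • z) h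
    rw [inv_smul_smul] at h2
    exact h2
  · intro h
    rw [h, smul_inv_smul]

section transport

variable {Ω : Type*} [MulAction (SpecialLinearGroup (Fin n) F) Ω]

theorem h8_tv_fix_conj (g : SpecialLinearGroup (Fin n) F) (e φ : Fin n → F)
    (h : φ ⬝ᵥ (g.1 *ᵥ e) = 0) (ω : Ω) :
    h8_tv (g.1 *ᵥ e) φ h • ω = ω ↔
      h8_tv e (φ ᵥ* g.1) (by rw [h8_conj_dot', h]) • (g⁻¹ • ω) = g⁻¹ • ω := by
  rw [h8_tv_conj', h8_conj_smul_iff]

theorem h8_tv_fix_conj2 (g : SpecialLinearGroup (Fin n) F) (e φ : Fin n → F)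
    (h : φ ⬝ᵥ e = 0) (ω : Ω) :
    h8_tv e φ h • (g⁻¹ • ω) = g⁻¹ • ω ↔
      h8_tv (g.1 *ᵥ e) (φ ᵥ* (g⁻¹ : SpecialLinearGroup (Fin n) F).1)
        (by rw [h8_conj_dot, h]) • ω = ω := by
  rw [← h8_tv_conj, h8_conj_smul_iff]

theorem h8_FixA_conj (g : SpecialLinearGroup (Fin n) F) (e : Fin n → F) (ω : Ω) :
    h8_FixA Ω (g.1 *ᵥ e) ω ↔ h8_FixA Ω e (g⁻¹ • ω) := by
  constructor
  · intro hf φ h
    rw [h8_tv_fix_conj2]
    exact hf _ _
  · intro hf φ h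
    rw [h8_tv_fix_conj]
    exact hf _ _

theorem h8_mulVec_injective (g : SpecialLinearGroup (Fin n) F) {x y : Fin n → F}
    (h : g.1 *ᵥ x = g.1 *ᵥ y) : x = y := by
  have h1 : (g⁻¹ : SpecialLinearGroup (Fin n) F).1 * g.1 = 1 :=
    congrArg Subtype.val (inv_mul_cancel g)
  have := congrArg (fun z => (g⁻¹ : SpecialLinearGroup (Fin n) F).1 *ᵥ z) h
  simp only [mulVec_mulVec, h1, one_mulVec] at this
  exact this

theorem h8_vecMul_ne_zero (g : SpecialLinearGroup (Fin n) F) {φ : Fin n → F} (hφ : φ ≠ 0) :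
    φ ᵥ* g.1 ≠ 0 := by
  intro h0
  apply hφ
  have h1 : g.1 * (g⁻¹ : SpecialLinearGroup (Fin n) F).1 = 1 :=
    congrArg Subtype.val (mul_inv_cancel g)
  have := congrArg (fun z => z ᵥ* (g⁻¹ : SpecialLinearGroup (Fin n) F).1) h0
  simp only [vecMul_vecMul, h1, vecMul_one, zero_vecMul] at this
  exact this

/-- TYPE II' is invariant under conjugation. -/
theorem h8_TypeII_conj (g : SpecialLinearGroup (Fin n) F) (e : Fin n → F)
    (hII : h8_TypeII Ω e) : h8_TypeII Ω (g.1 *ᵥ e) := by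
  intro ω
  obtain ⟨v, hv, hfix⟩ := hII (g⁻¹ • ω)
  refine ⟨g.1 *ᵥ v, ?_, ?_⟩
  · intro c hc
    apply hv c
    apply h8_mulVec_injective g
    rw [hc, mulVec_smul]
  · intro φ h
    rw [h8_tv_fix_conj, hfix, h8_conj_dot']

/-- TYPE I is invariant under conjugation. -/
theorem h8_TypeI_conj (g : SpecialLinearGroup (Fin n) F) (e : Fin n → F)
    (hI : h8_TypeI Ω e) : h8_TypeI Ω (g.1 *ᵥ e) := by
  obtain ⟨h1, h2⟩ := hI
  refine ⟨?_, ?_⟩
  · intro ω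
    rcases h1 (g⁻¹ • ω) with hf | hm
    · left
      exact (h8_FixA_conj g e ω).mpr hf
    · right
      intro φ h hφ
      rw [Ne, h8_tv_fix_conj]
      exact hm _ _ (h8_vecMul_ne_zero g hφ)
  · intro ω ω' hω hω'
    have hω1 : ¬ h8_FixA Ω e (g⁻¹ • ω) := fun hf => hω ((h8_FixA_conj g e ω).mpr hf)
    have hω2 : ¬ h8_FixA Ω e (g⁻¹ • ω') := fun hf => hω' ((h8_FixA_conj g e ω').mpr hf)
    obtain ⟨φ, h, hmove⟩ := h2 _ _ hω1 hω2
    refine ⟨φ ᵥ* (g⁻¹ : SpecialLinearGroup (Fin n) F).1, by rw [h8_conj_dot, h], ?_⟩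
    rw [← h8_tv_conj g e φ h, mul_smul, mul_smul, hmove, smul_smul, mul_inv_cancel, one_smul]

end transport

end Cfsg.Agent.MinIdx
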