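import Mathlib

/-!
# S2140, pieces (5b) and (5c), part A: transvection-type matrices and linear algebra

`ltv u φ = 1 + u φᵀ`; product, conjugation and determinant formulas; existence lemmas for functionals
(all in `Fin n → F` with the dot product).
-/

set_option autoImplicit false

namespace Cfsg.Agent.MinIdx

open Matrix

variable {F : Type*} [Field F] {n : ℕ}

/-- `ltv u φ = 1 + u φᵀ`. -/
def ltv (u φ : Fin n → F) : Matrix (Fin n) (Fin n) F := 1 + vecMulVec u φ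

theorem ltv_mul (u φ u' φ' : Fin n → F) :
    ltv u φ * ltv u' φ'
      = 1 + vecMulVec u φ + vecMulVec u' φ' + (φ ⬝ᵥ u') • vecMulVec u φ' := by
  unfold ltv
  rw [Matrix.add_mul, Matrix.mul_add, Matrix.mul_add, Matrix.one_mul, Matrix.one_mul,
    Matrix.mul_one, vecMulVec_mul_vecMulVec, vecMulVec_smul]
  abel

theorem ltv_mul_same_left {u φ : Fin n → F} (h : φ ⬝ᵥ u = 0) (φ' : Fin n → F) :
    ltv u φ * ltv u φ' = ltv u (φ + φ') := by
  rw [ltv_mul, h, zero_smul, add_zero]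
  unfold ltv
  rw [vecMulVec_add, add_assoc]

theorem ltv_mul_same_right {u' ψ : Fin n → F} (h : ψ ⬝ᵥ u' = 0) (u : Fin n → F) :
    ltv u ψ * ltv u' ψ = ltv (u + u') ψ := by
  rw [ltv_mul, h, zero_smul, add_zero]
  unfold ltv
  rw [add_vecMulVec, add_assoc]

@[simp] theorem ltv_zero_right (u : Fin n → F) : ltv u 0 = 1 := by
  unfold ltv; rw [vecMulVec_zero, add_zero]

@[simp] theorem ltv_zero_left (φ : Fin n → F) : ltv (0 : Fin n → F) φ = 1 := by
  unfold ltv; rw [zero_vecMulVec, add_zero]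

theorem ltv_smul_comm (c : F) (u φ : Fin n → F) : ltv u (c • φ) = ltv (c • u) φ := by
  unfold ltv
  rw [vecMulVec_smul, smul_vecMulVec]

theorem ltv_neg_neg (u φ : Fin n → F) : ltv (-u) (-φ) = ltv u φ := by
  unfold ltv
  rw [neg_vecMulVec, vecMulVec_neg, neg_neg]

theorem ltv_mulVec (u φ x : Fin n → F) : ltv u φ *ᵥ x = x + (φ ⬝ᵥ x) • u := by
  unfold ltv
  rw [add_mulVec, one_mulVec, vecMulVec_mulVec, op_smul_eq_smul]

theorem vecMul_ltv (u φ x : Fin n → F) : x ᵥ* ltv u φ = x + (x ⬝ᵥ u) • φ := by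
  unfold ltv
  rw [vecMul_add, vecMul_one, vecMul_vecMulVec]

theorem ltv_conj (L L' : Matrix (Fin n) (Fin n) F) (h : L * L' = 1) (u φ : Fin n → F) :
    L * ltv u φ * L' = ltv (L *ᵥ u) (φ ᵥ* L') := by
  unfold ltv
  rw [Matrix.mul_add, Matrix.add_mul, Matrix.mul_one, h, mul_vecMulVec, vecMulVec_mul]

theorem det_ltv {u φ : Fin n → F} (h : φ ⬝ᵥ u = 0) : (ltv u φ).det = 1 := by
  unfold ltv
  rw [vecMulVec_eq Unit, det_one_add_replicateCol_mul_replicateRow, h, add_zero]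

theorem ltv_eq_one_iff (u φ : Fin n → F) : ltv u φ = 1 ↔ u = 0 ∨ φ = 0 := by
  unfold ltv
  rw [add_eq_left, vecMulVec_eq_zero]

/-- The element of `SL_n` with matrix `ltv u φ`. -/
def tsl (u φ : Fin n → F) (h : φ ⬝ᵥ u = 0) : Matrix.SpecialLinearGroup (Fin n) F :=
  ⟨ltv u φ, det_ltv h⟩

@[simp] theorem tsl_coe (u φ : Fin n → F) (h : φ ⬝ᵥ u = 0) :
    ((tsl u φ h : Matrix.SpecialLinearGroup (Fin n) F) : Matrix (Fin n) (Fin n) F) = ltv u φ := rfl

theorem tsl_congr {u u' φ φ' : Fin n → F} (hu : u = u') (hφ : φ = φ') (h : φ ⬝ᵥ u = 0)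
    (h' : φ' ⬝ᵥ u' = 0) : tsl u φ h = tsl u' φ' h' := by
  subst hu; subst hφ; rfl

/-! ### Linear algebra with the dot product -/

/-- Kernel of `k` functionals has dimension at least `n - k`. -/
theorem finrank_ker_ge {k : ℕ} (L : (Fin n → F) →ₗ[F] (Fin k → F)) :
    n ≤ Module.finrank F (LinearMap.ker L) + k := by
  have h1 := LinearMap.finrank_range_add_finrank_ker L
  have h2 : Module.finrank F (LinearMap.range L) ≤ k := by
    have := Submodule.finrank_le (LinearMap.range L)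
    rwa [Module.finrank_fin_fun] at this
  rw [Module.finrank_fin_fun] at h1
  omega

theorem exists_ne_zero_of_finrank {S : Submodule F (Fin n → F)} (h : 1 ≤ Module.finrank F S) :
    ∃ x ∈ S, x ≠ 0 := by
  have h0 : 0 < Module.finrank F S := h
  rw [Module.finrank_pos_iff_exists_ne_zero] at h0
  obtain ⟨x, hx⟩ := h0
  exact ⟨x.1, x.2, fun h => hx (Subtype.ext h)⟩

theorem exists_not_smul_of_finrank {S : Submodule F (Fin n → F)} (h : 2 ≤ Module.finrank F S)
    (ψ : Fin n → F) : ∃ x ∈ S, ∀ c : F, x ≠ c • ψ := by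
  by_contra hcon
  push_neg at hcon
  have hle : S ≤ Submodule.span F {ψ} := by
    intro x hx
    obtain ⟨c, hc⟩ := hcon x hx
    rw [hc]
    exact Submodule.smul_mem _ _ (Submodule.subset_span rfl)
  have h1 := Submodule.finrank_mono hle
  have h2 : Module.finrank F (Submodule.span F ({ψ} : Set (Fin n → F))) ≤ 1 := by
    have := finrank_span_le_card (R := F) ({ψ} : Set (Fin n → F))
    simpa using this
  omega

/-- The two functionals `x ↦ (e ⬝ᵥ x, u ⬝ᵥ x)` as a linear map. -/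
def pairMap (e u : Fin n → F) : (Fin n → F) →ₗ[F] (Fin 2 → F) :=
  (Matrix.of ![e, u]).mulVecLin

theorem mem_ker_pairMap (e u x : Fin n → F) :
    x ∈ LinearMap.ker (pairMap e u) ↔ x ⬝ᵥ e = 0 ∧ x ⬝ᵥ u = 0 := by
  rw [LinearMap.mem_ker]
  unfold pairMap
  rw [Matrix.mulVecLin_apply]
  constructor
  · intro h
    have h0 := congrFun h 0
    have h1 := congrFun h 1
    simp [Matrix.mulVec] at h0 h1
    exact ⟨by rw [dotProduct_comm]; exact h0, by rw [dotProduct_comm]; exact h1⟩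
  · rintro ⟨h0, h1⟩
    ext i
    fin_cases i
    · simp [Matrix.mulVec]; rw [dotProduct_comm]; exact h0
    · simp [Matrix.mulVec]; rw [dotProduct_comm]; exact h1

/-- (E2) a non-zero functional vanishing on `e` and `u`, `n ≥ 3`. -/
theorem exists_perp_pair (hn : 3 ≤ n) (e u : Fin n → F) :
    ∃ ψ : Fin n → F, ψ ≠ 0 ∧ ψ ⬝ᵥ e = 0 ∧ ψ ⬝ᵥ u = 0 := by
  have h := finrank_ker_ge (pairMap e u)
  obtain ⟨ψ, hψ, hψ0⟩ := exists_ne_zero_of_finrank (S := LinearMap.ker (pairMap e u)) (by omega)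
  rw [mem_ker_pairMap] at hψ
  exact ⟨ψ, hψ0, hψ.1, hψ.2⟩

/-- (E3) a second independent functional vanishing on `e` and `u`, `n ≥ 4`. -/
theorem exists_perp_pair_indep (hn : 4 ≤ n) (e u ψ : Fin n → F) :
    ∃ ψ' : Fin n → F, (∀ c : F, ψ' ≠ c • ψ) ∧ ψ' ⬝ᵥ e = 0 ∧ ψ' ⬝ᵥ u = 0 := by
  have h := finrank_ker_ge (pairMap e u)
  obtain ⟨ψ', hψ', hne⟩ :=
    exists_not_smul_of_finrank (S := LinearMap.ker (pairMap e u)) (by omega) ψ
  rw [mem_ker_pairMap] at hψ'
  exact ⟨ψ', hne, hψ'.1, hψ'.2⟩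

/-- (E1) a vector outside the line `F e`, `n ≥ 2`. -/
theorem exists_not_smul (hn : 2 ≤ n) (e : Fin n → F) : ∃ u : Fin n → F, ∀ c : F, u ≠ c • e := by
  have h : 2 ≤ Module.finrank F (⊤ : Submodule F (Fin n → F)) := by
    rw [finrank_top, Module.finrank_fin_fun]; exact hn
  obtain ⟨u, -, hu⟩ := exists_not_smul_of_finrank h e
  exact ⟨u, hu⟩

/-- (E4) a functional vanishing on the kernel of `ψ ≠ 0` is a multiple of `ψ`. -/
theorem exists_smul_of_ker_le {ψ φ : Fin n → F} (hψ : ψ ≠ 0)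
    (h : ∀ x : Fin n → F, ψ ⬝ᵥ x = 0 → φ ⬝ᵥ x = 0) : ∃ c : F, φ = c • ψ := by
  obtain ⟨i, hi⟩ : ∃ i, ψ i ≠ 0 := by
    by_contra hcon
    push_neg at hcon
    exact hψ (funext hcon)
  refine ⟨φ i * (ψ i)⁻¹, ?_⟩
  ext j
  have hx := h (Pi.single j 1 - (ψ j * (ψ i)⁻¹) • Pi.single i 1) (by
    rw [dotProduct_sub, dotProduct_smul, dotProduct_single, dotProduct_single, mul_one, mul_one,
      smul_eq_mul]
    field_simp
    ring)
  rw [dotProduct_sub, dotProduct_smul, dotProduct_single, dotProduct_single, mul_one, mul_one,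
    smul_eq_mul, sub_eq_zero] at hx
  rw [hx, Pi.smul_apply, smul_eq_mul]
  ring

/-- (E5) a functional with value one on `e ≠ 0`. -/
theorem exists_dot_eq_one {e : Fin n → F} (he : e ≠ 0) : ∃ ε : Fin n → F, ε ⬝ᵥ e = 1 := by
  obtain ⟨i, hi⟩ : ∃ i, e i ≠ 0 := by
    by_contra hcon
    push_neg at hcon
    exact he (funext hcon)
  refine ⟨(e i)⁻¹ • Pi.single i 1, ?_⟩
  rw [smul_dotProduct, single_dotProduct, one_mul, smul_eq_mul, inv_mul_cancel₀ hi]

end Cfsg.Agent.MinIdx
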