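import Mathlib
import Cfsg.Agent.MinIdx.L_NoTFA

/-!
# S2140, pieces (5b) and (5c), part B: the relation `a(l) · l ∈ K` and its cocycle rules
-/

set_option autoImplicit false

namespace Cfsg.Agent.MinIdx

open Matrix

variable {F : Type*} [Field F] {n : ℕ}

/-- `Rel K e l φ`: `φ ⊥ e` and `T(e,φ) · l ∈ K`. -/
def Rel (K : Subgroup (Matrix.SpecialLinearGroup (Fin n) F)) (e : Fin n → F)
    (l : Matrix.SpecialLinearGroup (Fin n) F) (φ : Fin n → F) : Prop :=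
  ∃ h : φ ⬝ᵥ e = 0, tsl e φ h * l ∈ K

theorem sl_ext {A B : Matrix.SpecialLinearGroup (Fin n) F}
    (h : (A : Matrix (Fin n) (Fin n) F) = (B : Matrix (Fin n) (Fin n) F)) : A = B :=
  Subtype.ext h

section core

variable {K : Subgroup (Matrix.SpecialLinearGroup (Fin n) F)} {e : Fin n → F}

theorem rel_one (K : Subgroup (Matrix.SpecialLinearGroup (Fin n) F)) (e : Fin n → F) :
    Rel K e 1 0 := by
  refine ⟨zero_dotProduct e, ?_⟩
  have : tsl e 0 (zero_dotProduct e) * 1 = 1 := by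
    apply sl_ext
    simp
  rw [this]
  exact K.one_mem

/-- `K` contains no transvection except `1` (consequence of the matrix form hypothesis). -/
theorem tsl_mem_imp
    (hK : ∀ k ∈ K, ∀ u φ : Fin n → F, φ ⬝ᵥ u = 0 →
      (k : Matrix (Fin n) (Fin n) F) = 1 + vecMulVec u φ → k = 1)
    {u φ : Fin n → F} (h : φ ⬝ᵥ u = 0) (hmem : tsl u φ h ∈ K) : u = 0 ∨ φ = 0 := by
  have h1 := hK _ hmem u φ h rfl
  have h2 : ltv u φ = 1 := by
    have := congrArg (fun k : Matrix.SpecialLinearGroup (Fin n) F => (k : Matrix (Fin n) (Fin n) F)) h1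
    simpa using this
  exact (ltv_eq_one_iff u φ).mp h2

theorem rel_uniq (he : e ≠ 0)
    (hK : ∀ k ∈ K, ∀ u φ : Fin n → F, φ ⬝ᵥ u = 0 →
      (k : Matrix (Fin n) (Fin n) F) = 1 + vecMulVec u φ → k = 1)
    {l : Matrix.SpecialLinearGroup (Fin n) F} {φ φ' : Fin n → F} (h : Rel K e l φ) (h' : Rel K e l φ') :
    φ = φ' := by
  obtain ⟨h0, hm⟩ := h
  obtain ⟨h0', hm'⟩ := h'
  have hd : (φ - φ') ⬝ᵥ e = 0 := by rw [sub_dotProduct, h0, h0', sub_zero]
  have hprod : tsl e φ h0 * l * (tsl e φ' h0' * l)⁻¹ = tsl e (φ - φ') hd := by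
    have e1 : (tsl e φ' h0')⁻¹ = tsl e (-φ') (by rw [neg_dotProduct, h0', neg_zero]) := by
      apply inv_eq_of_mul_eq_one_right
      apply sl_ext
      rw [Matrix.SpecialLinearGroup.coe_mul, tsl_coe, tsl_coe, ltv_mul_same_left h0', add_neg_cancel,
        ltv_zero_right]
      rfl
    rw [_root_.mul_inv_rev, mul_assoc, mul_inv_cancel_left, e1]
    apply sl_ext
    rw [Matrix.SpecialLinearGroup.coe_mul, tsl_coe, tsl_coe, tsl_coe, ltv_mul_same_left h0,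
      sub_eq_add_neg]
  have hmem : tsl e (φ - φ') hd ∈ K := by
    rw [← hprod]
    exact K.mul_mem hm (K.inv_mem hm')
  rcases tsl_mem_imp hK hd hmem with h1 | h1
  · exact absurd h1 he
  · exact sub_eq_zero.mp h1

/-- The cocycle rule. -/
theorem rel_mul {l l' : Matrix.SpecialLinearGroup (Fin n) F} (Linv : Matrix (Fin n) (Fin n) F)
    (h1 : (l : Matrix (Fin n) (Fin n) F) * Linv = 1)
    (h2 : Linv * (l : Matrix (Fin n) (Fin n) F) = 1)
    (hl : (l : Matrix (Fin n) (Fin n) F) *ᵥ e = e)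
    {φ φ' : Fin n → F} (h : Rel K e l φ) (h' : Rel K e l' φ') :
    Rel K e (l * l') (φ + φ' ᵥ* Linv) := by
  obtain ⟨h0, hm⟩ := h
  obtain ⟨h0', hm'⟩ := h'
  have hLe : Linv *ᵥ e = e := by
    have := congrArg (fun M : Matrix (Fin n) (Fin n) F => M *ᵥ e) h2
    simp only [one_mulVec] at this
    rw [← mulVec_mulVec, hl] at this
    exact this
  have hd : (φ + φ' ᵥ* Linv) ⬝ᵥ e = 0 := by
    rw [add_dotProduct, h0, zero_add, ← dotProduct_mulVec, hLe, h0']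
  refine ⟨hd, ?_⟩
  have hprod : tsl e (φ + φ' ᵥ* Linv) hd * (l * l') = (tsl e φ h0 * l) * (tsl e φ' h0' * l') := by
    apply sl_ext
    simp only [Matrix.SpecialLinearGroup.coe_mul, tsl_coe]
    rw [← ltv_mul_same_left h0]
    have hc : ltv e (φ' ᵥ* Linv) = (l : Matrix (Fin n) (Fin n) F) * ltv e φ' * Linv := by
      rw [ltv_conj _ _ h1, hl]
    rw [hc]
    calc ltv e φ * ((l : Matrix (Fin n) (Fin n) F) * ltv e φ' * Linv)
          * ((l : Matrix (Fin n) (Fin n) F) * (l' : Matrix (Fin n) (Fin n) F))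
        = ltv e φ * (l : Matrix (Fin n) (Fin n) F) * ltv e φ'
            * (Linv * (l : Matrix (Fin n) (Fin n) F)) * (l' : Matrix (Fin n) (Fin n) F) := by
          simp only [Matrix.mul_assoc]
      _ = ltv e φ * (l : Matrix (Fin n) (Fin n) F) * (ltv e φ' * (l' : Matrix (Fin n) (Fin n) F)) := by
          rw [h2, Matrix.mul_one]
          simp only [Matrix.mul_assoc]
  rw [hprod]
  exact K.mul_mem hm hm'

/-- A transvection `T(u,ψ)` with `ψ ⊥ e` fixes `e`. -/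
theorem tsl_fix {u ψ : Fin n → F} (hu : ψ ⬝ᵥ u = 0) (he : ψ ⬝ᵥ e = 0) :
    ((tsl u ψ hu : Matrix.SpecialLinearGroup (Fin n) F) : Matrix (Fin n) (Fin n) F) *ᵥ e = e := by
  rw [tsl_coe, ltv_mulVec, he, zero_smul, add_zero]

/-- Cocycle rule for two transvections with the same `ψ`. -/
theorem rel_add {u u' ψ : Fin n → F} (hu : ψ ⬝ᵥ u = 0) (hu' : ψ ⬝ᵥ u' = 0)
    (he : ψ ⬝ᵥ e = 0) {φ φ' : Fin n → F}
    (h : Rel K e (tsl u ψ hu) φ) (h' : Rel K e (tsl u' ψ hu') φ') :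
    Rel K e (tsl (u + u') ψ (by rw [dotProduct_add, hu, hu', add_zero]))
      (φ + φ' - (φ' ⬝ᵥ u) • ψ) := by
  have hneg : (-ψ) ⬝ᵥ u = 0 := by rw [neg_dotProduct, hu, neg_zero]
  have h1 : ltv u ψ * ltv u (-ψ) = 1 := by
    rw [ltv_mul_same_left hu, add_neg_cancel, ltv_zero_right]
  have h2 : ltv u (-ψ) * ltv u ψ = 1 := by
    rw [ltv_mul_same_left hneg, neg_add_cancel, ltv_zero_right]
  have key := rel_mul (K := K) (e := e) (l := tsl u ψ hu) (l' := tsl u' ψ hu') (ltv u (-ψ))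
    h1 h2 (tsl_fix hu he) h h'
  have e1 : tsl u ψ hu * tsl u' ψ hu'
      = tsl (u + u') ψ (by rw [dotProduct_add, hu, hu', add_zero]) := by
    apply sl_ext
    rw [Matrix.SpecialLinearGroup.coe_mul, tsl_coe, tsl_coe, tsl_coe, ltv_mul_same_right hu']
  have e2 : φ + φ' ᵥ* ltv u (-ψ) = φ + φ' - (φ' ⬝ᵥ u) • ψ := by
    rw [vecMul_ltv, smul_neg]
    abel
  rw [e1, e2] at key
  exact key

/-- Cocycle rule for two transvections with the same centre `u`. -/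
theorem rel_add_same_centre {u ψ ψ' : Fin n → F} (hu : ψ ⬝ᵥ u = 0) (hu' : ψ' ⬝ᵥ u = 0)
    (he : ψ ⬝ᵥ e = 0) {φ φ' : Fin n → F}
    (h : Rel K e (tsl u ψ hu) φ) (h' : Rel K e (tsl u ψ' hu') φ') :
    Rel K e (tsl u (ψ + ψ') (by rw [add_dotProduct, hu, hu', add_zero]))
      (φ + φ' - (φ' ⬝ᵥ u) • ψ) := by
  have hneg : (-ψ) ⬝ᵥ u = 0 := by rw [neg_dotProduct, hu, neg_zero]
  have h1 : ltv u ψ * ltv u (-ψ) = 1 := by
    rw [ltv_mul_same_left hu, add_neg_cancel, ltv_zero_right]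
  have h2 : ltv u (-ψ) * ltv u ψ = 1 := by
    rw [ltv_mul_same_left hneg, neg_add_cancel, ltv_zero_right]
  have key := rel_mul (K := K) (e := e) (l := tsl u ψ hu) (l' := tsl u ψ' hu') (ltv u (-ψ))
    h1 h2 (tsl_fix hu he) h h'
  have e1 : tsl u ψ hu * tsl u ψ' hu'
      = tsl u (ψ + ψ') (by rw [add_dotProduct, hu, hu', add_zero]) := by
    apply sl_ext
    rw [Matrix.SpecialLinearGroup.coe_mul, tsl_coe, tsl_coe, tsl_coe, ltv_mul_same_left hu]
  have e2 : φ + φ' ᵥ* ltv u (-ψ) = φ + φ' - (φ' ⬝ᵥ u) • ψ := by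
    rw [vecMul_ltv, smul_neg]
    abel
  rw [e1, e2] at key
  exact key

end core

end Cfsg.Agent.MinIdx
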