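import Mathlib
import Cfsg.Agent.MinIdx.L_NoTFB

/-!
# S2140, pieces (5b) and (5c): no transvection-free "complement" to `A^e`

`l_no_tf`: a subgroup `K ≤ SL_n(F)` without non-trivial transvections cannot contain, for every
`l` fixing `e`, an element `T(e,φ) · l`; for `n ≥ 3` and (`2 ≠ 0` or `n = 3`).
-/

set_option autoImplicit false

namespace Cfsg.Agent.MinIdx

open Matrix

variable {F : Type*} [Field F]

section general

variable {n : ℕ} {K : Subgroup (Matrix.SpecialLinearGroup (Fin n) F)} {e : Fin n → F}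

/-- The final contradiction: `a(τ) = T(e, cψ)` makes `a(τ)·τ` a transvection in `K`. -/
theorem contra_of_smul
    (hK : ∀ k ∈ K, ∀ u φ : Fin n → F, φ ⬝ᵥ u = 0 →
      (k : Matrix (Fin n) (Fin n) F) = 1 + vecMulVec u φ → k = 1)
    {u ψ : Fin n → F} (hψ0 : ψ ≠ 0) (hψe : ψ ⬝ᵥ e = 0) (hψu : ψ ⬝ᵥ u = 0)
    (hu : ∀ c : F, u ≠ c • e) (c : F) (h : Rel K e (tsl u ψ hψu) (c • ψ)) : False := by
  obtain ⟨h0, hm⟩ := h
  have hd : ψ ⬝ᵥ (c • e + u) = 0 := by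
    rw [dotProduct_add, dotProduct_smul, hψe, hψu, smul_zero, add_zero]
  have e1 : tsl e (c • ψ) h0 * tsl u ψ hψu = tsl (c • e + u) ψ hd := by
    apply sl_ext
    rw [Matrix.SpecialLinearGroup.coe_mul, tsl_coe, tsl_coe, tsl_coe, ltv_smul_comm,
      ltv_mul_same_right hψu]
  rw [e1] at hm
  rcases tsl_mem_imp hK hd hm with h1 | h1
  · refine hu (-c) ?_
    rw [neg_smul]
    exact eq_neg_of_add_eq_zero_right h1
  · exact hψ0 h1

/-- Case (5b): `2 ≠ 0`, `n ≥ 4`. -/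
theorem case_odd_ge_four (hn : 4 ≤ n) (h2 : (2 : F) ≠ 0) (he : e ≠ 0)
    (hK : ∀ k ∈ K, ∀ u φ : Fin n → F, φ ⬝ᵥ u = 0 →
      (k : Matrix (Fin n) (Fin n) F) = 1 + vecMulVec u φ → k = 1)
    (hcov : ∀ l : Matrix.SpecialLinearGroup (Fin n) F,
      (l : Matrix (Fin n) (Fin n) F) *ᵥ e = e → ∃ φ, Rel K e l φ) : False := by
  obtain ⟨u, hu⟩ := exists_not_smul (by omega) e
  obtain ⟨ψ, hψ0, hψe, hψu⟩ := exists_perp_pair (by omega) e u
  -- (C1)
  have C1 : ∀ (x : Fin n → F) (hx : ψ ⬝ᵥ x = 0) (φ : Fin n → F),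
      Rel K e (tsl x ψ hx) φ → φ ⬝ᵥ x = 0 := by
    intro x hx φ hφ
    obtain ⟨ψ', hne, hψ'e, hψ'x⟩ := exists_perp_pair_indep hn e x ψ
    obtain ⟨φ', hφ'⟩ := hcov (tsl x ψ' hψ'x) (tsl_fix hψ'x hψ'e)
    have r1 := rel_add_same_centre hx hψ'x hψe hφ hφ'
    have r2 := rel_add_same_centre hψ'x hx hψ'e hφ' hφ
    have e12 : tsl x (ψ' + ψ) (by rw [add_dotProduct, hψ'x, hx, add_zero])
        = tsl x (ψ + ψ') (by rw [add_dotProduct, hx, hψ'x, add_zero]) :=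
      tsl_congr rfl (add_comm _ _) _ _
    rw [e12] at r2
    have h3 := rel_uniq he hK r1 r2
    have h4 : (φ' ⬝ᵥ x) • ψ = (φ ⬝ᵥ x) • ψ' := by
      have h5 : φ + φ' - (φ' ⬝ᵥ x) • ψ - (φ + φ') = φ' + φ - (φ ⬝ᵥ x) • ψ' - (φ + φ') := by
        rw [h3]
      have h6 : φ + φ' - (φ' ⬝ᵥ x) • ψ - (φ + φ') = -((φ' ⬝ᵥ x) • ψ) := by abel
      have h7 : φ' + φ - (φ ⬝ᵥ x) • ψ' - (φ + φ') = -((φ ⬝ᵥ x) • ψ') := by abel
      rw [h6, h7] at h5
      exact neg_injective h5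
    by_contra hne0
    refine hne ((φ ⬝ᵥ x)⁻¹ * (φ' ⬝ᵥ x)) ?_
    rw [mul_smul, h4, smul_smul, inv_mul_cancel₀ hne0, one_smul]
  -- (C2)
  have C2 : ∀ (x x' : Fin n → F) (hx : ψ ⬝ᵥ x = 0) (hx' : ψ ⬝ᵥ x' = 0) (φ φ' : Fin n → F),
      Rel K e (tsl x ψ hx) φ → Rel K e (tsl x' ψ hx') φ' → φ' ⬝ᵥ x = φ ⬝ᵥ x' := by
    intro x x' hx hx' φ φ' hφ hφ'
    have r1 := rel_add hx hx' hψe hφ hφ'
    have r2 := rel_add hx' hx hψe hφ' hφ
    have e12 : tsl (x' + x) ψ (by rw [dotProduct_add, hx', hx, add_zero])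
        = tsl (x + x') ψ (by rw [dotProduct_add, hx, hx', add_zero]) :=
      tsl_congr (add_comm _ _) rfl _ _
    rw [e12] at r2
    have h3 := rel_uniq he hK r1 r2
    have h4 : (φ' ⬝ᵥ x) • ψ = (φ ⬝ᵥ x') • ψ := by
      have h5 : φ + φ' - (φ' ⬝ᵥ x) • ψ - (φ + φ') = φ' + φ - (φ ⬝ᵥ x') • ψ - (φ + φ') := by
        rw [h3]
      have h6 : φ + φ' - (φ' ⬝ᵥ x) • ψ - (φ + φ') = -((φ' ⬝ᵥ x) • ψ) := by abel
      have h7 : φ' + φ - (φ ⬝ᵥ x') • ψ - (φ + φ') = -((φ ⬝ᵥ x') • ψ) := by abel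
      rw [h6, h7] at h5
      exact neg_injective h5
    exact smul_left_injective F hψ0 h4
  obtain ⟨φu, hφu⟩ := hcov (tsl u ψ hψu) (tsl_fix hψu hψe)
  have hvan : ∀ x : Fin n → F, ψ ⬝ᵥ x = 0 → φu ⬝ᵥ x = 0 := by
    intro x hx
    obtain ⟨φx, hφx⟩ := hcov (tsl x ψ hx) (tsl_fix hx hψe)
    have r := rel_add hψu hx hψe hφu hφx
    have c1 := C1 (u + x) _ _ r
    have c1u := C1 u hψu φu hφu
    have c1x := C1 x hx φx hφx
    have c2 := C2 u x hψu hx φu φx hφu hφx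
    rw [sub_dotProduct, add_dotProduct, smul_dotProduct, dotProduct_add, dotProduct_add,
      dotProduct_add, hψu, hx, c1u, c1x, c2] at c1
    have h8 : (2 : F) * (φu ⬝ᵥ x) = 0 := by
      have : (0 + φu ⬝ᵥ x + (φu ⬝ᵥ x + 0) - (φu ⬝ᵥ x) • ((0 : F) + 0)) = 2 * (φu ⬝ᵥ x) := by
        rw [smul_eq_mul]; ring
      rw [← this]; exact c1
    rcases mul_eq_zero.mp h8 with h9 | h9
    · exact absurd h9 h2
    · exact h9
  obtain ⟨c, hc⟩ := exists_smul_of_ker_le hψ0 hvan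
  rw [hc] at hφu
  exact contra_of_smul hK hψ0 hψe hψu hu c hφu

end general

/-! ### `n = 3` -/

section three

variable {K : Subgroup (Matrix.SpecialLinearGroup (Fin 3) F)} {e : Fin 3 → F}

/-- In dimension three, the functionals vanishing on two independent vectors form a line. -/
theorem perp_pair_three {e u ψ φ : Fin 3 → F} (he : e ≠ 0) (hu : ∀ c : F, u ≠ c • e)
    (hψ0 : ψ ≠ 0) (hψe : ψ ⬝ᵥ e = 0) (hψu : ψ ⬝ᵥ u = 0) (hφe : φ ⬝ᵥ e = 0)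
    (hφu : φ ⬝ᵥ u = 0) : ∃ c : F, φ = c • ψ := by
  have hli : LinearIndependent F ![e, u] := by
    rw [LinearIndependent.pair_iff' he]
    intro a h
    exact hu a h.symm
  have hrank : Module.finrank F (LinearMap.range (pairMap e u)) = 2 := by
    have h := LinearIndependent.rank_matrix (M := Matrix.of ![e, u]) (R := F) (by
      show LinearIndependent F (fun i => (Matrix.of ![e, u]) i)
      exact hli)
    rw [Fintype.card_fin] at h
    exact h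
  have hker : Module.finrank F (LinearMap.ker (pairMap e u)) ≤ 1 := by
    have h1 := LinearMap.finrank_range_add_finrank_ker (pairMap e u)
    rw [Module.finrank_fin_fun, hrank] at h1
    omega
  rw [finrank_le_one_iff] at hker
  obtain ⟨v, hv⟩ := hker
  have hψm : ψ ∈ LinearMap.ker (pairMap e u) := (mem_ker_pairMap e u ψ).mpr ⟨hψe, hψu⟩
  have hφm : φ ∈ LinearMap.ker (pairMap e u) := (mem_ker_pairMap e u φ).mpr ⟨hφe, hφu⟩
  obtain ⟨a, ha⟩ := hv ⟨ψ, hψm⟩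
  obtain ⟨b, hb⟩ := hv ⟨φ, hφm⟩
  have ha' : a • (v : Fin 3 → F) = ψ := congrArg Subtype.val ha
  have hb' : b • (v : Fin 3 → F) = φ := congrArg Subtype.val hb
  have ha0 : a ≠ 0 := by
    rintro rfl
    rw [zero_smul] at ha'
    exact hψ0 ha'.symm
  refine ⟨b * a⁻¹, ?_⟩
  rw [← ha', ← hb', smul_smul, mul_assoc, inv_mul_cancel₀ ha0, mul_one]

/-- Case (5c), characteristic two. -/
theorem case_even_three (h2 : (2 : F) = 0) (he : e ≠ 0)
    (hK : ∀ k ∈ K, ∀ u φ : Fin 3 → F, φ ⬝ᵥ u = 0 →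
      (k : Matrix (Fin 3) (Fin 3) F) = 1 + vecMulVec u φ → k = 1)
    (hcov : ∀ l : Matrix.SpecialLinearGroup (Fin 3) F,
      (l : Matrix (Fin 3) (Fin 3) F) *ᵥ e = e → ∃ φ, Rel K e l φ) : False := by
  obtain ⟨u, hu⟩ := exists_not_smul (by omega) e
  obtain ⟨ψ, hψ0, hψe, hψu⟩ := exists_perp_pair (le_refl 3) e u
  obtain ⟨φu, hφu⟩ := hcov (tsl u ψ hψu) (tsl_fix hψu hψe)
  have hφe : φu ⬝ᵥ e = 0 := hφu.1
  have r := rel_add hψu hψu hψe hφu hφu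
  have hdouble : ∀ x : Fin 3 → F, x + x = 0 := by
    intro x
    rw [← two_smul F x, h2, zero_smul]
  have e1 : tsl (u + u) ψ (by rw [dotProduct_add, hψu, add_zero]) = 1 := by
    apply sl_ext
    rw [tsl_coe, hdouble u, ltv_zero_left, Matrix.SpecialLinearGroup.coe_one]
  rw [e1] at r
  have h3 := rel_uniq he hK r (rel_one K e)
  rw [hdouble φu, zero_sub, neg_eq_zero] at h3
  have hφuu : φu ⬝ᵥ u = 0 := by
    rcases smul_eq_zero.mp h3 with h4 | h4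
    · exact h4
    · exact absurd h4 hψ0
  obtain ⟨c, hc⟩ := perp_pair_three he hu hψ0 hψe hψu hφe hφuu
  rw [hc] at hφu
  exact contra_of_smul hK hψ0 hψe hψu hu c hφu

theorem det_ltv' {n : ℕ} (u φ : Fin n → F) : (ltv u φ).det = 1 + φ ⬝ᵥ u := by
  unfold ltv
  rw [vecMulVec_eq Unit, det_one_add_replicateCol_mul_replicateRow]

/-- Case (5c), `2 ≠ 0`, `n = 3`. -/
theorem case_odd_three (h2 : (2 : F) ≠ 0) (he : e ≠ 0)
    (hK : ∀ k ∈ K, ∀ u φ : Fin 3 → F, φ ⬝ᵥ u = 0 →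
      (k : Matrix (Fin 3) (Fin 3) F) = 1 + vecMulVec u φ → k = 1)
    (hcov : ∀ l : Matrix.SpecialLinearGroup (Fin 3) F,
      (l : Matrix (Fin 3) (Fin 3) F) *ᵥ e = e → ∃ φ, Rel K e l φ) : False := by
  obtain ⟨ε, hε⟩ := exists_dot_eq_one he
  obtain ⟨u, hu0, huε, -⟩ := exists_perp_pair (le_refl 3) ε ε
  have hεu : ε ⬝ᵥ u = 0 := by rw [dotProduct_comm]; exact huε
  obtain ⟨ψ, hψ0, hψe, hψu⟩ := exists_perp_pair (le_refl 3) e u
  have hu : ∀ c : F, u ≠ c • e := by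
    intro c hc
    have h1 : ε ⬝ᵥ u = c := by rw [hc, dotProduct_smul, hε, smul_eq_mul, mul_one]
    rw [hεu] at h1
    rw [← h1, zero_smul] at hc
    exact hu0 hc
  -- the involution `z = -(1 - 2 e εᵀ)`
  have hd2 : ((-2 : F) • ε) ⬝ᵥ e = -2 := by rw [smul_dotProduct, hε, smul_eq_mul, mul_one]
  set Z : Matrix (Fin 3) (Fin 3) F := -(ltv e ((-2 : F) • ε)) with hZ
  have hZdet : Z.det = 1 := by
    rw [hZ, Matrix.det_neg, det_ltv', hd2, Fintype.card_fin]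
    ring
  have hZZ : Z * Z = 1 := by
    rw [hZ, neg_mul_neg, ltv_mul, hd2]
    have key : ∀ A : Matrix (Fin 3) (Fin 3) F, 1 + A + A + (-2 : F) • A = 1 := by
      intro A
      rw [neg_smul, two_smul]
      abel
    exact key _
  have hZe : Z *ᵥ e = e := by
    rw [hZ, neg_mulVec, ltv_mulVec, hd2, neg_smul, two_smul]
    abel
  have hZu : Z *ᵥ u = -u := by
    rw [hZ, neg_mulVec, ltv_mulVec, smul_dotProduct, hεu, smul_zero, zero_smul, add_zero]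
  have hvZ : ∀ φ : Fin 3 → F, φ ⬝ᵥ e = 0 → φ ᵥ* Z = -φ := by
    intro φ hφ
    rw [hZ, vecMul_neg, vecMul_ltv, hφ, zero_smul, add_zero]
  let zsl : Matrix.SpecialLinearGroup (Fin 3) F := ⟨Z, hZdet⟩
  have hzcoe : (zsl : Matrix (Fin 3) (Fin 3) F) = Z := rfl
  obtain ⟨φz, hφz⟩ := hcov zsl (by rw [hzcoe]; exact hZe)
  obtain ⟨φτ, hφτ⟩ := hcov (tsl u ψ hψu) (tsl_fix hψu hψe)
  have hφτe : φτ ⬝ᵥ e = 0 := hφτ.1
  -- `z τ = τ z`
  have hconj : Z * ltv u ψ * Z = ltv u ψ := by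
    rw [ltv_conj Z Z hZZ, hZu, hvZ ψ hψe, ltv_neg_neg]
  have hcomm : Z * ltv u ψ = ltv u ψ * Z := by
    have h1 : Z * ltv u ψ * Z * Z = ltv u ψ * Z := by rw [hconj]
    rw [Matrix.mul_assoc, hZZ, Matrix.mul_one] at h1
    exact h1
  have r1 := rel_mul (K := K) (e := e) (l := zsl) (l' := tsl u ψ hψu) Z
    (by rw [hzcoe]; exact hZZ) (by rw [hzcoe]; exact hZZ) (by rw [hzcoe]; exact hZe) hφz hφτ
  have hneg : (-ψ) ⬝ᵥ u = 0 := by rw [neg_dotProduct, hψu, neg_zero]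
  have hi1 : ltv u ψ * ltv u (-ψ) = 1 := by
    rw [ltv_mul_same_left hψu, add_neg_cancel, ltv_zero_right]
  have hi2 : ltv u (-ψ) * ltv u ψ = 1 := by
    rw [ltv_mul_same_left hneg, neg_add_cancel, ltv_zero_right]
  have r2 := rel_mul (K := K) (e := e) (l := tsl u ψ hψu) (l' := zsl) (ltv u (-ψ))
    hi1 hi2 (tsl_fix hψu hψe) hφτ hφz
  have e12 : tsl u ψ hψu * zsl = zsl * tsl u ψ hψu := by
    apply sl_ext
    rw [Matrix.SpecialLinearGroup.coe_mul, Matrix.SpecialLinearGroup.coe_mul, tsl_coe, hzcoe,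
      hcomm]
  rw [e12] at r2
  have h3 := rel_uniq he hK r1 r2
  rw [hvZ φτ hφτe, vecMul_ltv, smul_neg] at h3
  -- `φz - φτ = φτ + (φz - (φz·u) ψ)`
  have h4 : (2 : F) • φτ = (φz ⬝ᵥ u) • ψ := by
    have h5 : φz + -φτ - (φz + -φτ) + (2 : F) • φτ
        = φτ + (φz + -((φz ⬝ᵥ u) • ψ)) - (φz + -φτ) + (2 : F) • φτ := by rw [← h3]
    have h6 : φz + -φτ - (φz + -φτ) + (2 : F) • φτ = (2 : F) • φτ := by abel
    have h7 : φτ + (φz + -((φz ⬝ᵥ u) • ψ)) - (φz + -φτ) + (2 : F) • φτ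
        = (2 : F) • φτ + (2 : F) • φτ - (φz ⬝ᵥ u) • ψ := by
      rw [two_smul]; abel
    rw [h6, h7] at h5
    have h8 : (2 : F) • φτ - (φz ⬝ᵥ u) • ψ = 0 := by
      have := congrArg (fun w => w - (2 : F) • φτ) h5
      simp only [sub_self] at this
      rw [this]
      abel
    exact sub_eq_zero.mp h8
  have h9 : φτ = ((2 : F)⁻¹ * (φz ⬝ᵥ u)) • ψ := by
    rw [mul_smul, ← h4, smul_smul, inv_mul_cancel₀ h2, one_smul]
  rw [h9] at hφτ
  exact contra_of_smul hK hψ0 hψe hψu hu _ hφτ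

end three

/-- **Pieces (5b)+(5c) of S2140.** -/
theorem l_no_tf {F : Type*} [Field F] [Fintype F] {n : ℕ} (hn : 3 ≤ n)
    (hcase : (2 : F) ≠ 0 ∨ n = 3) (K : Subgroup (Matrix.SpecialLinearGroup (Fin n) F))
    (e : Fin n → F) (he : e ≠ 0)
    (hK : ∀ k ∈ K, ∀ u φ : Fin n → F, φ ⬝ᵥ u = 0 →
      (k : Matrix (Fin n) (Fin n) F) = 1 + Matrix.vecMulVec u φ → k = 1)
    (hcov : ∀ l : Matrix.SpecialLinearGroup (Fin n) F,
      (l : Matrix (Fin n) (Fin n) F) *ᵥ e = e →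
        ∃ k ∈ K, ∃ φ : Fin n → F, φ ⬝ᵥ e = 0 ∧
          (k : Matrix (Fin n) (Fin n) F)
            = (1 + Matrix.vecMulVec e φ) * (l : Matrix (Fin n) (Fin n) F)) : False := by
  have hcov' : ∀ l : Matrix.SpecialLinearGroup (Fin n) F,
      (l : Matrix (Fin n) (Fin n) F) *ᵥ e = e → ∃ φ, Rel K e l φ := by
    intro l hl
    obtain ⟨k, hkK, φ, hφ, hk⟩ := hcov l hl
    refine ⟨φ, hφ, ?_⟩
    have : tsl e φ hφ * l = k := by
      apply sl_ext
      rw [Matrix.SpecialLinearGroup.coe_mul, tsl_coe, hk]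
      rfl
    rw [this]
    exact hkK
  by_cases h2 : (2 : F) = 0
  · have hn3 : n = 3 := by
      rcases hcase with h | h
      · exact absurd h2 h
      · exact h
    subst hn3
    exact case_even_three h2 he hK hcov'
  · by_cases hn3 : n = 3
    · subst hn3
      exact case_odd_three h2 he hK hcov'
    · exact case_odd_ge_four (by omega) h2 he hK hcov'

end Cfsg.Agent.MinIdx
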