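import Mathlib
import Cfsg.Agent.MinIdx.H8_Types
import Cfsg.Agent.MinIdx.L_NoTF

set_option autoImplicit false
set_option linter.unusedSectionVars false
set_option linter.unusedVariables false

/-! S2140: assembly of Lemmas 3, 4, 5b, 5c.  From the dichotomy of Lemma A/B (as a hypothesis
`LB`) and the characteristic-two case of Lemma 5 (as a hypothesis `L5a`) to the bound on the
degree of a transitive `SL_n(F)`-set (helper8). -/

universe u

namespace Cfsg.Agent.MinIdx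

open Matrix

section general

variable {F : Type*} [Field F] {n : ℕ} {Ω : Type*}
  [MulAction (SpecialLinearGroup (Fin n) F) Ω]

/-- TYPE II' at one centre spreads to all centres. -/
theorem h8_TypeII_all (hn : 2 ≤ n) (e₀ : Fin n → F) (he₀ : e₀ ≠ 0) (h : h8_TypeII Ω e₀) :
    ∀ e : Fin n → F, e ≠ 0 → h8_TypeII Ω e := by
  intro e he
  obtain ⟨g, hg⟩ := h8_sl_trans hn e₀ e he₀ he
  rw [← hg]
  exact h8_TypeII_conj g e₀ h

/-- TYPE I at one centre spreads to all centres. -/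
theorem h8_TypeI_all (hn : 2 ≤ n) (e₀ : Fin n → F) (he₀ : e₀ ≠ 0) (h : h8_TypeI Ω e₀) :
    ∀ e : Fin n → F, e ≠ 0 → h8_TypeI Ω e := by
  intro e he
  obtain ⟨g, hg⟩ := h8_sl_trans hn e₀ e he₀ he
  rw [← hg]
  exact h8_TypeI_conj g e₀ h

/-- Lemma 3 for actions: TYPE II' at a centre is impossible for `n ≥ 3`. -/
theorem h8_TypeII_false' (hn : 3 ≤ n) [Nonempty Ω] (e₀ : Fin n → F) (he₀ : e₀ ≠ 0)
    (h : h8_TypeII Ω e₀) : False := by
  classical
  have hall := h8_TypeII_all (by omega) e₀ he₀ h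
  obtain ⟨ω⟩ := ‹Nonempty Ω›
  let v : (Fin n → F) → (Fin n → F) := fun e =>
    if he : e ≠ 0 then Classical.choose (hall e he ω) else 0
  have hv : ∀ e (he : e ≠ 0), v e = Classical.choose (hall e he ω) := by
    intro e he
    simp only [v, dif_pos he]
  refine h8_typeII_false (MulAction.stabilizer (SpecialLinearGroup (Fin n) F) ω) v ?_ ?_ hn
  · intro e he c
    rw [hv e he]
    exact (Classical.choose_spec (hall e he ω)).1 c
  · intro e he φ hd
    rw [hv e he, MulAction.mem_stabilizer_iff]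
    exact (Classical.choose_spec (hall e he ω)).2 φ hd

/-- The "centre" half of TYPE I in the form used by Lemma 4. -/
theorem h8_hI_of_TypeI (hT : ∀ e : Fin n → F, e ≠ 0 → h8_TypeI Ω e) :
    ∀ (e φ : Fin n → F) (h : φ ⬝ᵥ e = 0), e ≠ 0 → φ ≠ 0 → ∀ ω : Ω, h8_tv e φ h • ω = ω →
      ∀ (φ' : Fin n → F) (h' : φ' ⬝ᵥ e = 0), h8_tv e φ' h' • ω = ω := by
  intro e φ h he hφ ω hfix
  rcases (hT e he).1 ω with hf | hm
  · exact hf
  · exact absurd hfix (hm φ h hφ)

end general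

/-- **Core of S2140** modulo Lemma A/B (`LB`) and the characteristic-two case `n ≥ 4` of Lemma 5
(`L5a`): every transitive `SL_n(F)`-set with at least two points has at least `N` points. -/
theorem h8_core {F : Type u} [Field F] [Fintype F] {n : ℕ} (hn : 3 ≤ n) (N : ℕ)
    (LB : ∀ (Ω : Type u) [Fintype Ω] [MulAction (SpecialLinearGroup (Fin n) F) Ω],
      MulAction.IsPretransitive (SpecialLinearGroup (Fin n) F) Ω → 2 ≤ Fintype.card Ω →
      Fintype.card Ω < N → ∃ e : Fin n → F, e ≠ 0 ∧ (h8_TypeI Ω e ∨ h8_TypeII Ω e))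
    (L5a : (2 : F) = 0 → 4 ≤ n →
      ∀ (Ω : Type u) [Fintype Ω] [MulAction (SpecialLinearGroup (Fin n) F) Ω],
      MulAction.IsPretransitive (SpecialLinearGroup (Fin n) F) Ω → 2 ≤ Fintype.card Ω →
      Fintype.card Ω < N →
      (∀ e : Fin n → F, e ≠ 0 → ∀ ω ω' : Ω,
        ∃ (φ : Fin n → F) (h : φ ⬝ᵥ e = 0), h8_tv e φ h • ω = ω') →
      (∀ (e φ : Fin n → F) (h : φ ⬝ᵥ e = 0), e ≠ 0 → φ ≠ 0 → ∀ ω : Ω, h8_tv e φ h • ω ≠ ω) →
      False) :
    ∀ (Ω : Type u) [Fintype Ω] [MulAction (SpecialLinearGroup (Fin n) F) Ω],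
      MulAction.IsPretransitive (SpecialLinearGroup (Fin n) F) Ω → 2 ≤ Fintype.card Ω →
      N ≤ Fintype.card Ω := by
  intro Ω _ _ htr h2
  by_contra hlt
  push Not at hlt
  have key : ∀ (Ω' : Type u) [Fintype Ω'] [MulAction (SpecialLinearGroup (Fin n) F) Ω'],
      MulAction.IsPretransitive (SpecialLinearGroup (Fin n) F) Ω' → 2 ≤ Fintype.card Ω' →
      Fintype.card Ω' < N → ∀ e : Fin n → F, e ≠ 0 → h8_TypeI Ω' e := by
    intro Ω' _ _ htr' h2' hlt'
    obtain ⟨e₀, he₀, h | h⟩ := LB Ω' htr' h2' hlt'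
    · exact h8_TypeI_all (by omega) e₀ he₀ h
    · exfalso
      have : Nonempty Ω' := Fintype.card_pos_iff.mp (by omega)
      exact h8_TypeII_false' hn e₀ he₀ h
  have hT := key Ω htr h2 hlt
  have hTd := key (h8_Dual Ω) inferInstance (by rw [h8_Dual_card]; exact h2)
    (by rw [h8_Dual_card]; exact hlt)
  have hI := h8_hI_of_TypeI hT
  have hI' := h8_Dual_hI (h8_hI_of_TypeI hTd)
  have hΩ : ∃ a b : Ω, a ≠ b := by
    have h1 : 1 < Fintype.card Ω := by omega
    obtain ⟨a, b, hab⟩ := Fintype.one_lt_card_iff.mp h1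
    exact ⟨a, b, hab⟩
  have hfpf : ∀ (e φ : Fin n → F) (h : φ ⬝ᵥ e = 0), e ≠ 0 → φ ≠ 0 → ∀ ω : Ω,
      h8_tv e φ h • ω ≠ ω :=
    fun e φ h he hφ ω => h8_typeI_fpf hn hΩ hI hI' ω e φ h he hφ
  have hreg : ∀ e : Fin n → F, e ≠ 0 → ∀ ω ω' : Ω,
      ∃ (φ : Fin n → F) (h : φ ⬝ᵥ e = 0), h8_tv e φ h • ω = ω' := by
    intro e he ω ω'
    obtain ⟨ψ, hψ0, hψe, _⟩ := h8_exists_common hn e e
    have hnf : ∀ ω : Ω, ¬ h8_FixA Ω e ω := fun ω hf => hfpf e ψ hψe he hψ0 ω (hf ψ hψe)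
    exact (hT e he).2 ω ω' (hnf ω) (hnf ω')
  by_cases hcase : (2 : F) ≠ 0 ∨ n = 3
  · obtain ⟨ω⟩ : Nonempty Ω := Fintype.card_pos_iff.mp (by omega)
    have he : (fun _ => 1 : Fin n → F) ≠ 0 := by
      intro h0
      have := congrFun h0 ⟨0, by omega⟩
      simp at this
    apply l_no_tf hn hcase (MulAction.stabilizer (SpecialLinearGroup (Fin n) F) ω) _ he
    · intro k hk u φ hd hkeq
      by_contra hk1
      have hkeq' : k = h8_tv u φ hd := Subtype.ext hkeq
      have hu : u ≠ 0 := by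
        rintro rfl
        apply hk1
        rw [hkeq']
        apply Subtype.ext
        simp [h8_tvM]
      have hφ : φ ≠ 0 := by
        rintro rfl
        apply hk1
        rw [hkeq']
        exact h8_tv_zero u
      apply hfpf u φ hd hu hφ ω
      rw [← hkeq']
      exact hk
    · intro l _
      obtain ⟨φ, h, hmv⟩ := hreg _ he (l • ω) ω
      refine ⟨h8_tv _ φ h * l, ?_, φ, h, rfl⟩
      rw [MulAction.mem_stabilizer_iff, mul_smul, hmv]
  · push Not at hcase
    obtain ⟨h20, hn3⟩ := hcase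
    exact L5a h20 (by omega) Ω htr h2 hlt hreg hfpf

end Cfsg.Agent.MinIdx
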