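import Mathlib
import Cfsg.Agent.MinIdx.H8_Core
import Cfsg.Agent.MinIdx.H7_Exist
import Cfsg.Agent.MinIdx.H4_Final

set_option autoImplicit false
set_option linter.unusedSectionVars false
set_option linter.unusedVariables false

/-! S2140: the statement from the two remaining pieces `LB` (Lemma A/B) and `L5a` (helper8). -/

universe u

namespace Cfsg.Agent.MinIdx

open Matrix

/-- The conclusion of S2140 from Lemma A/B (`LB`) and the characteristic-two case of Lemma 5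
(`L5a`). -/
theorem h8_result_of_pieces {F : Type u} [Field F] [Fintype F] {q : ℕ}
    (hF : Fintype.card F = q) (n : ℕ) (hn : 3 ≤ n)
    (LB : ∀ (Ω : Type u) [Fintype Ω] [MulAction (SpecialLinearGroup (Fin n) F) Ω],
      MulAction.IsPretransitive (SpecialLinearGroup (Fin n) F) Ω → 2 ≤ Fintype.card Ω →
      Fintype.card Ω < (q ^ n - 1) / (q - 1) →
      ∃ e : Fin n → F, e ≠ 0 ∧ (h8_TypeI Ω e ∨ h8_TypeII Ω e))
    (L5a : (2 : F) = 0 → 4 ≤ n →
      ∀ (Ω : Type u) [Fintype Ω] [MulAction (SpecialLinearGroup (Fin n) F) Ω],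
      MulAction.IsPretransitive (SpecialLinearGroup (Fin n) F) Ω → 2 ≤ Fintype.card Ω →
      Fintype.card Ω < (q ^ n - 1) / (q - 1) →
      (∀ e : Fin n → F, e ≠ 0 → ∀ ω ω' : Ω,
        ∃ (φ : Fin n → F) (h : φ ⬝ᵥ e = 0), h8_tv e φ h • ω = ω') →
      (∀ (e φ : Fin n → F) (h : φ ⬝ᵥ e = 0), e ≠ 0 → φ ≠ 0 → ∀ ω : Ω, h8_tv e φ h • ω ≠ ω) →
      False) :
    (∀ H : Subgroup (Matrix.ProjectiveSpecialLinearGroup (Fin n) F), H ≠ ⊤ →
      (q ^ n - 1) / (q - 1) ≤ H.index) ∧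
    (∃ H : Subgroup (Matrix.ProjectiveSpecialLinearGroup (Fin n) F),
      H.index = (q ^ n - 1) / (q - 1)) :=
  h4_result_of_core hF n (by omega)
    (h7_sl_of_action ((q ^ n - 1) / (q - 1)) (h8_core hn _ LB L5a))

end Cfsg.Agent.MinIdx
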