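import Mathlib
import Cfsg.Agent.MinIdx.H8_L4
import Cfsg.Agent.MinIdx.H9_Types

set_option autoImplicit false
set_option linter.unusedSectionVars false
set_option linter.unusedVariables false

/-! S2140, piece P4 in the `ρ`-form of helper9's stubs: TYPE I for `ρ` and for the twisted action
implies that every `A^e` is regular (helper8). -/

namespace Cfsg.Agent.MinIdx

open Matrix

section

variable {F : Type*} [Field F] {n : ℕ} {Ω : Type*}

theorem h8r_mul (ρ : SpecialLinearGroup (Fin n) F →* Equiv.Perm Ω) (e φ ψ : Fin n → F)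
    (h : φ ⬝ᵥ e = 0) (h' : ψ ⬝ᵥ e = 0) (ω : Ω) :
    ρ (h8_tv e φ h) (ρ (h8_tv e ψ h') ω) =
      ρ (h8_tv e (φ + ψ) (by rw [add_dotProduct, h, h', add_zero])) ω := by
  rw [← Equiv.Perm.mul_apply, ← map_mul, h8_tv_mul]

theorem h8r_comm (ρ : SpecialLinearGroup (Fin n) F →* Equiv.Perm Ω) (e φ ψ : Fin n → F)
    (h : φ ⬝ᵥ e = 0) (h' : ψ ⬝ᵥ e = 0) (ω : Ω) :
    ρ (h8_tv e φ h) (ρ (h8_tv e ψ h') ω) = ρ (h8_tv e ψ h') (ρ (h8_tv e φ h) ω) := by
  rw [h8r_mul, h8r_mul]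
  congr 2
  exact h8_tv_congr e (φ + ψ) (ψ + φ) _ (add_comm φ ψ)

/-- The "centre" consequence of TYPE I. -/
theorem h8r_centre (ρ : SpecialLinearGroup (Fin n) F →* Equiv.Perm Ω) (e : Fin n → F)
    (hT : h9_TypeI ρ e) (φ : Fin n → F) (h : φ ⬝ᵥ e = 0) (hφ : φ ≠ 0) (ω : Ω)
    (hfix : ρ (h8_tv e φ h) ω = ω) (φ' : Fin n → F) (h' : φ' ⬝ᵥ e = 0) :
    ρ (h8_tv e φ' h') ω = ω := by
  obtain ⟨ω₀, hfree, hcov⟩ := hT
  rcases hcov ω with ⟨φ₁, h₁, hω⟩ | hf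
  · exfalso
    apply hφ
    apply hfree φ h
    rw [← hω, h8r_comm] at hfix
    exact (ρ (h8_tv e φ₁ h₁)).injective hfix
  · exact hf φ' h'

/-- The "axis" consequence of TYPE I for the twisted action. -/
theorem h8r_axis (ρ : SpecialLinearGroup (Fin n) F →* Equiv.Perm Ω) (φ : Fin n → F)
    (hφ : φ ≠ 0) (hT : h9_TypeI (ρ.comp h9_twist) (-φ)) (e : Fin n → F) (h : φ ⬝ᵥ e = 0)
    (he : e ≠ 0) (ω : Ω) (hfix : ρ (h8_tv e φ h) ω = ω) (e' : Fin n → F) (h' : φ ⬝ᵥ e' = 0) :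
    ρ (h8_tv e' φ h') ω = ω := by
  have key : ∀ (x : Fin n → F) (hx : φ ⬝ᵥ x = 0),
      (ρ.comp h9_twist) (h8_tv (-φ) x (by rw [dotProduct_neg, dotProduct_comm, hx, neg_zero]))
        = ρ (h8_tv x φ hx) := by
    intro x hx
    rw [MonoidHom.comp_apply, h9_twist_tv]
    congr 1
    exact h8_tv_congr x (- -φ) φ _ (neg_neg φ)
  have h1 : (ρ.comp h9_twist)
      (h8_tv (-φ) e (by rw [dotProduct_neg, dotProduct_comm, h, neg_zero])) ω = ω := by
    rw [key e h]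
    exact hfix
  have h2 := h8r_centre (ρ.comp h9_twist) (-φ) hT e _ he ω h1 e'
    (by rw [dotProduct_neg, dotProduct_comm, h', neg_zero])
  rw [key e' h'] at h2
  exact h2

/-- A point fixed by one transvection `≠ 1` is fixed by the whole group. -/
theorem h8r_fixed (hn : 3 ≤ n) (ρ : SpecialLinearGroup (Fin n) F →* Equiv.Perm Ω)
    (hI : ∀ e : Fin n → F, e ≠ 0 → h9_TypeI ρ e)
    (hI' : ∀ e : Fin n → F, e ≠ 0 → h9_TypeI (ρ.comp h9_twist) e)
    (e φ : Fin n → F) (h : φ ⬝ᵥ e = 0) (he : e ≠ 0) (hφ : φ ≠ 0) (ω : Ω)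
    (hfix : ρ (h8_tv e φ h) ω = ω) : ∀ g, ρ g ω = ω := by
  have htop : (MulAction.stabilizer (Equiv.Perm Ω) ω).comap ρ = ⊤ := by
    apply h8_tv_gen (by omega)
    intro e' φ' h' he' hφ'
    rw [Subgroup.mem_comap, MulAction.mem_stabilizer_iff, Equiv.Perm.smul_def]
    obtain ⟨ψ, hψ0, hψe, hψe'⟩ := h8_exists_common hn e e'
    have h1 : ρ (h8_tv e ψ hψe) ω = ω := h8r_centre ρ e (hI e he) φ h hφ ω hfix ψ hψe
    have h2 : ρ (h8_tv e' ψ hψe') ω = ω :=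
      h8r_axis ρ ψ hψ0 (hI' (-ψ) (neg_ne_zero.mpr hψ0)) e hψe he ω h1 e' hψe'
    exact h8r_centre ρ e' (hI e' he') ψ hψe' hψ0 ω h2 φ' h'
  intro g
  have hg : g ∈ (MulAction.stabilizer (Equiv.Perm Ω) ω).comap ρ := by rw [htop]; trivial
  rw [Subgroup.mem_comap, MulAction.mem_stabilizer_iff, Equiv.Perm.smul_def] at hg
  exact hg

/-- The hyperplane `{φ : φ·e = 0}` has `q^(n-1)` elements. -/
theorem h8r_card_perp [Fintype F] (e : Fin n → F) (he : e ≠ 0) :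
    Nat.card {φ : Fin n → F // φ ⬝ᵥ e = 0} = Fintype.card F ^ (n - 1) := by
  let f : (Fin n → F) →ₗ[F] F :=
    { toFun := fun φ => φ ⬝ᵥ e
      map_add' := fun x y => add_dotProduct x y e
      map_smul' := fun c x => by simp [smul_dotProduct] }
  have hker : ∀ φ : Fin n → F, φ ∈ LinearMap.ker f ↔ φ ⬝ᵥ e = 0 := by
    intro φ
    rw [LinearMap.mem_ker]
    rfl
  have hrange : LinearMap.range f = ⊤ := by
    obtain ⟨i, hi⟩ : ∃ i, e i ≠ 0 := by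
      by_contra hcon
      push Not at hcon
      exact he (funext hcon)
    rw [eq_top_iff]
    intro c _
    rw [LinearMap.mem_range]
    refine ⟨Pi.single i (c / e i), ?_⟩
    change (Pi.single i (c / e i) : Fin n → F) ⬝ᵥ e = c
    rw [single_dotProduct]
    field_simp
  have hrk := LinearMap.finrank_range_add_finrank_ker f
  rw [hrange, finrank_top, Module.finrank_self, Module.finrank_fin_fun] at hrk
  have hcard : Nat.card (LinearMap.ker f) = Fintype.card F ^ (n - 1) := by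
    rw [Module.natCard_eq_pow_finrank (K := F), Nat.card_eq_fintype_card]
    congr 1
    omega
  rw [← hcard]
  apply Nat.card_congr
  exact Equiv.subtypeEquivRight (fun φ => (hker φ).symm)

end

/-- **P4** (stub of helper9, verbatim): TYPE I for `ρ` and for the twisted action implies that
every `A^e` is regular, so `|Ω| = q^(n-1)` and transvections `≠ 1` are fixed-point-free. -/
theorem h8_regular {F : Type*} [Field F] [Fintype F] {n : ℕ} (hn : 3 ≤ n) {Ω : Type*} [Fintype Ω]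
    (ρ : SpecialLinearGroup (Fin n) F →* Equiv.Perm Ω) (htr : ∀ ω ω' : Ω, ∃ g, ρ g ω = ω')
    (h2 : 2 ≤ Fintype.card Ω)
    (hI : ∀ e : Fin n → F, e ≠ 0 → h9_TypeI ρ e)
    (hI' : ∀ e : Fin n → F, e ≠ 0 → h9_TypeI (ρ.comp h9_twist) e) :
    Fintype.card Ω = Fintype.card F ^ (n - 1) ∧
    (∀ e : Fin n → F, e ≠ 0 → ∀ ω ω' : Ω, ∃ φ, ∃ h : φ ⬝ᵥ e = 0, ρ (h8_tv e φ h) ω = ω') ∧
    (∀ (e φ : Fin n → F) (h : φ ⬝ᵥ e = 0) (ω : Ω), ρ (h8_tv e φ h) ω = ω → e = 0 ∨ φ = 0) := by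
  -- fixed-point-freeness
  have hfpf : ∀ (e φ : Fin n → F) (h : φ ⬝ᵥ e = 0) (ω : Ω), ρ (h8_tv e φ h) ω = ω →
      e = 0 ∨ φ = 0 := by
    intro e φ h ω hfix
    by_contra hcon
    push Not at hcon
    obtain ⟨he, hφ⟩ := hcon
    have hall := h8r_fixed hn ρ hI hI' e φ h he hφ ω hfix
    have h1 : 1 < Fintype.card Ω := by omega
    obtain ⟨a, b, hab⟩ := Fintype.one_lt_card_iff.mp h1
    obtain ⟨ga, hga⟩ := htr ω a
    obtain ⟨gb, hgb⟩ := htr ω b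
    apply hab
    rw [← hga, ← hgb, hall ga, hall gb]
  -- every point lies in the orbit of the base point
  have horb : ∀ e : Fin n → F, e ≠ 0 → ∃ ω₀ : Ω,
      ∀ ω : Ω, ∃ φ, ∃ h : φ ⬝ᵥ e = 0, ρ (h8_tv e φ h) ω₀ = ω := by
    intro e he
    obtain ⟨ω₀, hfree, hcov⟩ := hI e he
    refine ⟨ω₀, fun ω => ?_⟩
    rcases hcov ω with hω | hf
    · exact hω
    · exfalso
      obtain ⟨ψ, hψ0, hψe, _⟩ := h8_exists_common hn e e
      rcases hfpf e ψ hψe ω (hf ψ hψe) with h0 | h0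
      · exact he h0
      · exact hψ0 h0
  refine ⟨?_, ?_, hfpf⟩
  · -- cardinality
    have he : (fun _ => 1 : Fin n → F) ≠ 0 := by
      intro h0
      have := congrFun h0 ⟨0, by omega⟩
      simp at this
    obtain ⟨ω₀, hω₀⟩ := horb _ he
    rw [← h8r_card_perp _ he, ← Nat.card_eq_fintype_card]
    symm
    apply Nat.card_congr
    refine Equiv.ofBijective (fun φ => ρ (h8_tv _ φ.1 φ.2) ω₀) ⟨?_, ?_⟩
    · intro φ ψ hφψ
      simp only at hφψ
      -- `T(e, φ - ψ)` fixes `ω₀`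
      have hd : (φ.1 - ψ.1) ⬝ᵥ (fun _ => 1 : Fin n → F) = 0 := by
        rw [sub_dotProduct, φ.2, ψ.2, sub_zero]
      have hfix : ρ (h8_tv _ (φ.1 - ψ.1) hd) (ρ (h8_tv _ ψ.1 ψ.2) ω₀) =
          ρ (h8_tv _ ψ.1 ψ.2) ω₀ := by
        rw [h8r_mul, ← hφψ]
        congr 2
        exact h8_tv_congr _ _ _ _ (sub_add_cancel φ.1 ψ.1)
      rcases hfpf _ _ hd _ hfix with h0 | h0
      · exact absurd h0 he
      · exact Subtype.ext (sub_eq_zero.mp h0)
    · intro ω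
      obtain ⟨φ, h, hφ⟩ := hω₀ ω
      exact ⟨⟨φ, h⟩, hφ⟩
  · -- transitivity of `A^e`
    intro e he ω ω'
    obtain ⟨ω₀, hω₀⟩ := horb e he
    obtain ⟨φ, h, hφ⟩ := hω₀ ω
    obtain ⟨φ', h', hφ'⟩ := hω₀ ω'
    refine ⟨φ' - φ, by rw [sub_dotProduct, h, h', sub_zero], ?_⟩
    rw [← hφ, h8r_mul, ← hφ']
    congr 2
    exact h8_tv_congr _ _ _ _ (sub_add_cancel φ' φ)

end Cfsg.Agent.MinIdx
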