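import Mathlib
import Cfsg.Agent.MinIdx.H9_Types
import Cfsg.Agent.MinIdx.H8_L3
import Cfsg.Agent.MinIdx.L_NoTF
import Cfsg.Agent.MinIdx.H4_Types
import Cfsg.Agent.MinIdx.H8_Regular
import Cfsg.Agent.MinIdx.H7_P5a

/-!
# S2140 / MinIdx (lead): the CORE assembly

A transitive `SL_n(F)`-set (`n ≥ 3`, `(n, q) ≠ (4, 2)`) with at least two points has at least
`(qⁿ − 1)/(q − 1)` points.
-/

set_option autoImplicit false

namespace Cfsg.Agent.MinIdx

open Matrix

/-- Type II at every `e ≠ 0` is impossible (`h8_typeII_false` with `K` the stabiliser of a point). -/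
theorem l_typeII_false {F : Type*} [Field F] {n : ℕ} (hn : 3 ≤ n) {Ω : Type*} [Nonempty Ω]
    (ρ : SpecialLinearGroup (Fin n) F →* Equiv.Perm Ω)
    (hII : ∀ e : Fin n → F, e ≠ 0 → h9_TypeII ρ e) : False := by
  classical
  obtain ⟨ω₀⟩ := ‹Nonempty Ω›
  let K : Subgroup (SpecialLinearGroup (Fin n) F) :=
    Subgroup.comap ρ (MulAction.stabilizer (Equiv.Perm Ω) ω₀)
  have hKmem : ∀ g : SpecialLinearGroup (Fin n) F, g ∈ K ↔ ρ g ω₀ = ω₀ := by
    intro g
    show ρ g ∈ MulAction.stabilizer (Equiv.Perm Ω) ω₀ ↔ _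
    rw [MulAction.mem_stabilizer_iff, Equiv.Perm.smul_def]
  let v : (Fin n → F) → (Fin n → F) := fun e =>
    if he : e ≠ 0 then (hII e he ω₀).choose else 0
  have hv : ∀ e, e ≠ 0 → ∀ c : F, v e ≠ c • e := by
    intro e he c
    have : v e = (hII e he ω₀).choose := dif_pos he
    rw [this]
    exact (hII e he ω₀).choose_spec.1 c
  have hK : ∀ e, e ≠ 0 → ∀ φ (h : φ ⬝ᵥ e = 0), (h8_tv e φ h ∈ K ↔ φ ⬝ᵥ v e = 0) := by
    intro e he φ h
    have : v e = (hII e he ω₀).choose := dif_pos he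
    rw [this, hKmem]
    exact (hII e he ω₀).choose_spec.2 φ h
  exact h8_typeII_false K v hv hK hn

/-- The dispatcher (piece 5): a regular, transvection-fixed-point-free action of the groups
`A^e` on a set of `q^(n-1)` points does not exist. -/
theorem l_dispatch {F : Type*} [Field F] [Fintype F] {n : ℕ} (hn : 3 ≤ n)
    (hex : ¬ (n = 4 ∧ Fintype.card F = 2)) {Ω : Type*} [Fintype Ω] [Nonempty Ω]
    (ρ : SpecialLinearGroup (Fin n) F →* Equiv.Perm Ω)
    (hcard : Fintype.card Ω = Fintype.card F ^ (n - 1))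
    (hreg : ∀ e : Fin n → F, e ≠ 0 → ∀ ω ω' : Ω, ∃ φ, ∃ h : φ ⬝ᵥ e = 0, ρ (h8_tv e φ h) ω = ω')
    (hfree : ∀ (e φ : Fin n → F) (h : φ ⬝ᵥ e = 0) (ω : Ω),
      ρ (h8_tv e φ h) ω = ω → e = 0 ∨ φ = 0) : False := by
  classical
  by_cases hc : (2 : F) ≠ 0 ∨ n = 3
  · obtain ⟨ω₀⟩ := ‹Nonempty Ω›
    let K : Subgroup (SpecialLinearGroup (Fin n) F) :=
      Subgroup.comap ρ (MulAction.stabilizer (Equiv.Perm Ω) ω₀)
    have hKmem : ∀ g : SpecialLinearGroup (Fin n) F, g ∈ K ↔ ρ g ω₀ = ω₀ := by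
      intro g
      show ρ g ∈ MulAction.stabilizer (Equiv.Perm Ω) ω₀ ↔ _
      rw [MulAction.mem_stabilizer_iff, Equiv.Perm.smul_def]
    have hpos : 0 < n := by omega
    let e : Fin n → F := Pi.single ⟨0, hpos⟩ 1
    have he : e ≠ 0 := by
      intro h
      have := congrFun h ⟨0, hpos⟩
      simp [e] at this
    refine l_no_tf hn hc K e he ?_ ?_
    · intro k hk u φ hφu hkc
      have hk' : k = h8_tv u φ hφu := by
        apply Subtype.ext
        rw [h8_tv_coe, h8_tvM]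
        exact hkc
      have hfix : ρ (h8_tv u φ hφu) ω₀ = ω₀ := by
        rw [← hk']
        exact (hKmem k).mp hk
      apply Subtype.ext
      rw [hkc]
      rcases hfree u φ hφu ω₀ hfix with h0 | h0
      · rw [h0]
        simp
      · rw [h0]
        simp
    · intro l _
      obtain ⟨φ, h, hφ⟩ := hreg e he (ρ l ω₀) ω₀
      refine ⟨h8_tv e φ h * l, ?_, φ, h, ?_⟩
      · rw [hKmem, map_mul, Equiv.Perm.mul_apply]
        exact hφ
      · rw [Matrix.SpecialLinearGroup.coe_mul, h8_tv_coe, h8_tvM]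
  · push_neg at hc
    obtain ⟨h20, hn3⟩ := hc
    have hn4 : 4 ≤ n := by omega
    exact h7_no_tf_even hn4 h20 hex ρ hcard.le hfree

/-- **CORE**: a transitive `SL_n(F)`-set with at least two points has at least
`(qⁿ − 1)/(q − 1)` points (`n ≥ 3`, `(n, q) ≠ (4, 2)`). -/
theorem l_core {F : Type*} [Field F] [Fintype F] {n : ℕ} (hn : 3 ≤ n)
    (hex : ¬ (n = 4 ∧ Fintype.card F = 2)) {Ω : Type*} [Fintype Ω]
    (ρ : SpecialLinearGroup (Fin n) F →* Equiv.Perm Ω) (htr : ∀ ω ω' : Ω, ∃ g, ρ g ω = ω')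
    (h2 : 2 ≤ Fintype.card Ω) :
    (Fintype.card F ^ n - 1) / (Fintype.card F - 1) ≤ Fintype.card Ω := by
  by_contra hlt
  push_neg at hlt
  have hne : Nonempty Ω := by
    rw [← Fintype.card_pos_iff]
    omega
  have hI : ∀ e : Fin n → F, e ≠ 0 → h9_TypeI ρ e := by
    rcases h4_types hn ρ htr h2 hlt with h | h
    · exact h
    · exact (l_typeII_false hn ρ h).elim
  have htr' : ∀ ω ω' : Ω, ∃ g, (ρ.comp h9_twist) g ω = ω' := by
    intro ω ω'
    obtain ⟨g, hg⟩ := htr ω ω'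
    refine ⟨h9_twist g, ?_⟩
    rw [MonoidHom.comp_apply, h9_twist_twist]
    exact hg
  have hI' : ∀ e : Fin n → F, e ≠ 0 → h9_TypeI (ρ.comp h9_twist) e := by
    rcases h4_types hn (ρ.comp h9_twist) htr' h2 hlt with h | h
    · exact h
    · exact (l_typeII_false hn (ρ.comp h9_twist) h).elim
  obtain ⟨hcard, hreg, hfree⟩ := h8_regular hn ρ htr h2 hI hI'
  exact l_dispatch hn hex ρ hcard hreg hfree

end Cfsg.Agent.MinIdx
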